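import Cfsg.Prelude.Def_KGroupFacts
import Mathlib.GroupTheory.SpecificGroups.Cyclic
import Mathlib.GroupTheory.Abelianization.Defs
import Mathlib.GroupTheory.IsPerfect
import Mathlib.Logic.Small.Defs
import Mathlib.Algebra.Group.Shrink

/-!
Elementary facts about stem extensions and `HasSchurMultiplier`.
-/

namespace Cfsg.Agent.H74.Schur

open Subgroup
open scoped IsMulCommutative

universe u v w

variable {Γ : Type v} {Q : Type u} [Group Γ] [Group Q]

theorem ker_comm {σ : Γ →* Q} (h : σ.ker ≤ center Γ) {z : Γ} (hz : σ z = 1) (x : Γ) :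
    z * x = x * z :=
  (mem_center_iff.1 (h (MonoidHom.mem_ker.2 hz)) x).symm

theorem finite_of_isStemExtension [Finite Γ] {σ : Γ →* Q} (h : Cfsg.IsStemExtension σ) : Finite Q :=
  Finite.of_surjective σ h.1

/-- A stem extension by a finite group can be moved to the universe of the base. -/
theorem exists_stem_small [Finite Γ] {σ : Γ →* Q} (h : Cfsg.IsStemExtension σ) :
    ∃ (Δ : Type u) (_ : Group Δ) (_ : Finite Δ) (τ : Δ →* Q),
      Cfsg.IsStemExtension τ ∧ Nonempty (σ.ker ≃* τ.ker) := by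
  haveI : Small.{u} Γ := Countable.toSmall Γ
  let e : Shrink.{u} Γ ≃* Γ := Shrink.mulEquiv
  refine ⟨Shrink.{u} Γ, inferInstance, Finite.of_equiv Γ e.symm.toEquiv, σ.comp e.toMonoidHom, ⟨?_, ?_, ?_⟩, ?_⟩
  · exact h.1.comp e.surjective
  · intro x hx
    rw [mem_center_iff]
    intro y
    apply e.injective
    rw [map_mul, map_mul]
    exact mem_center_iff.1 (h.2.1 (show e x ∈ σ.ker from hx)) (e y)
  · intro x hx
    have hx' : e x ∈ commutator Γ := h.2.2 (show e x ∈ σ.ker from hx)
    rw [← (Abelianization.ker_of Γ)] at hx'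
    have key : x ∈ (Abelianization.of (G := Shrink.{u} Γ)).ker := by
      rw [MonoidHom.mem_ker]
      have := congrArg (Abelianization.map e.symm.toMonoidHom) (MonoidHom.mem_ker.1 hx')
      simpa using this
    rwa [Abelianization.ker_of] at key
  · exact ⟨{
      toFun := fun z => ⟨e.symm z, show σ (e (e.symm z)) = 1 from
        (congrArg σ (e.apply_symm_apply _)).trans z.2⟩
      invFun := fun z => ⟨e z, z.2⟩
      left_inv := fun z => Subtype.ext (e.apply_symm_apply _)
      right_inv := fun z => Subtype.ext (e.symm_apply_apply _)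
      map_mul' := fun a b => Subtype.ext (map_mul e.symm _ _) }⟩

/-- The second clause of `HasSchurMultiplier`, without universe restriction. -/
theorem exists_surjective_ker [Finite Γ] {A : Type w} [CommGroup A]
    (hA : Cfsg.HasSchurMultiplier Q A) {σ : Γ →* Q} (h : Cfsg.IsStemExtension σ) :
    ∃ f : A →* σ.ker, Function.Surjective f := by
  obtain ⟨Δ, _, _, τ, hτ, ⟨e⟩⟩ := exists_stem_small h
  obtain ⟨f, hf⟩ := hA.2 Δ τ hτ
  exact ⟨e.symm.toMonoidHom.comp f, e.symm.surjective.comp hf⟩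

/-- The identity is a stem extension. -/
theorem isStemExtension_id : Cfsg.IsStemExtension (MonoidHom.id Q) := by
  refine ⟨Function.surjective_id, ?_, ?_⟩ <;>
  · intro x hx
    rw [show x = 1 from hx]
    exact one_mem _

theorem hasCyclicSchurMultiplier_one [Finite Q]
    (h : ∀ (Δ : Type u) [Group Δ] [Finite Δ] (σ : Δ →* Q), Cfsg.IsStemExtension σ → σ.ker = ⊥) :
    Cfsg.HasCyclicSchurMultiplier Q 1 := by
  refine ⟨⟨Q, inferInstance, inferInstance, MonoidHom.id Q, isStemExtension_id, ⟨?_⟩⟩, ?_⟩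
  · haveI : Subsingleton (MonoidHom.id Q).ker :=
      ⟨fun a b => Subtype.ext ((show (a : Q) = 1 from a.2).trans (show (b : Q) = 1 from b.2).symm)⟩
    haveI : Subsingleton (Multiplicative (ZMod 1)) := inferInstanceAs (Subsingleton (Fin 1))
    haveI : Unique (MonoidHom.id Q).ker := uniqueOfSubsingleton 1
    haveI : Unique (Multiplicative (ZMod 1)) := uniqueOfSubsingleton 1
    exact MulEquiv.ofUnique
  · intro Δ _ _ σ hσ
    refine ⟨1, fun z => ⟨1, Subtype.ext ?_⟩⟩
    have hz : (z : Δ) ∈ (⊥ : Subgroup Δ) := h Δ σ hσ ▸ z.2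
    rw [mem_bot] at hz
    simp [hz]

theorem ker_eq_bot_of_trivial [Finite Γ] (hQ : Cfsg.HasCyclicSchurMultiplier Q 1) {σ : Γ →* Q}
    (h : Cfsg.IsStemExtension σ) : σ.ker = ⊥ := by
  obtain ⟨f, hf⟩ := exists_surjective_ker hQ h
  rw [eq_bot_iff]
  intro z hz
  obtain ⟨a, ha⟩ := hf ⟨z, hz⟩
  haveI : Subsingleton (Multiplicative (ZMod 1)) := inferInstanceAs (Subsingleton (Fin 1))
  rw [Subsingleton.elim a 1, map_one] at ha
  exact (congrArg Subtype.val ha).symm

/-- Two Schur multipliers of the same group are isomorphic. -/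
theorem mulEquiv_of_hasSchurMultiplier {A : Type v} {B : Type w} [CommGroup A] [CommGroup B]
    (hA : Cfsg.HasSchurMultiplier Q A) (hB : Cfsg.HasSchurMultiplier Q B) : Nonempty (A ≃* B) := by
  obtain ⟨Δ, _, _, σ, hσ, ⟨eA⟩⟩ := hA.1
  obtain ⟨Λ, _, _, τ, hτ, ⟨eB⟩⟩ := hB.1
  obtain ⟨f, hf⟩ := hA.2 Λ τ hτ
  obtain ⟨g, hg⟩ := hB.2 Δ σ hσ
  haveI : Finite A := Finite.of_equiv _ eA.toEquiv
  haveI : Finite B := Finite.of_equiv _ eB.toEquiv
  let F : A →* B := eB.toMonoidHom.comp f
  let H : B →* A := eA.toMonoidHom.comp g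
  have hF : Function.Surjective F := eB.surjective.comp hf
  have hH : Function.Surjective H := eA.surjective.comp hg
  refine ⟨MulEquiv.ofBijective F ((Nat.bijective_iff_surjective_and_card F).2 ⟨hF, ?_⟩)⟩
  exact le_antisymm (Nat.card_le_card_of_surjective H hH) (Nat.card_le_card_of_surjective F hF)

theorem finite_of_hasSchurMultiplier {A : Type v} [CommGroup A]
    (hA : Cfsg.HasSchurMultiplier Q A) : Finite A := by
  obtain ⟨Δ, _, _, σ, -, ⟨e⟩⟩ := hA.1
  exact Finite.of_equiv _ e.toEquiv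

theorem finite_base_of_hasSchurMultiplier {A : Type v} [CommGroup A]
    (hA : Cfsg.HasSchurMultiplier Q A) : Finite Q := by
  obtain ⟨Δ, _, _, σ, hσ, -⟩ := hA.1
  exact finite_of_isStemExtension hσ

/-- Being a multiplier transports along isomorphisms of the coefficient group. -/
theorem hasSchurMultiplier_congr {A : Type v} {B : Type w} [CommGroup A] [CommGroup B] (e : A ≃* B)
    (hA : Cfsg.HasSchurMultiplier Q A) : Cfsg.HasSchurMultiplier Q B := by
  obtain ⟨⟨Δ, i1, i2, σ, hσ, ⟨eA⟩⟩, h2⟩ := hA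
  refine ⟨⟨Δ, i1, i2, σ, hσ, ⟨eA.trans e⟩⟩, fun Λ _ _ τ hτ => ?_⟩
  obtain ⟨f, hf⟩ := h2 Λ τ hτ
  exact ⟨f.comp e.symm.toMonoidHom, hf.comp e.symm.surjective⟩

/-- A central extension of a group with cyclic quotient has abelian total group. -/
theorem commutator_eq_bot_of_cyclic [IsCyclic Q] {σ : Γ →* Q} (h : σ.ker ≤ center Γ) :
    commutator Γ = ⊥ := by
  rw [commutator_def, Subgroup.commutator_eq_bot_iff_le_centralizer]
  intro x _
  rw [mem_centralizer_iff]
  intro y _
  exact commutative_of_cyclic_center_quotient σ h y x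

theorem isPerfect_iff {G : Type*} [Group G] : Group.IsPerfect G ↔ commutator G = ⊤ :=
  Group.isPerfect_def

/-- A hom from a perfect group to a commutative group is trivial. -/
theorem eq_one_of_isPerfect {G A : Type*} [Group G] [CommGroup A] (hG : Group.IsPerfect G)
    (f : G →* A) (x : G) : f x = 1 := by
  have : commutator G ≤ f.ker := Abelianization.commutator_subset_ker f
  exact this (isPerfect_iff.1 hG ▸ mem_top x)

/-- In a perfect group an element central modulo a central subgroup is central. -/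
theorem mem_center_of_map_mem_center {G : Type*} [Group G] (hG : Group.IsPerfect G) {π : G →* Q}
    (hker : π.ker ≤ center G) {g : G} (hg : ∀ x, π g * π x = π x * π g) : g ∈ center G := by
  have hk : ∀ x, g * x * g⁻¹ * x⁻¹ ∈ center G := fun x => hker (by
    rw [MonoidHom.mem_ker, map_mul, map_mul, map_mul, map_inv, map_inv, hg, mul_inv_cancel_right,
      mul_inv_cancel])
  let f : G →* center G :=
    { toFun := fun x => ⟨g * x * g⁻¹ * x⁻¹, hk x⟩
      map_one' := Subtype.ext (by simp)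
      map_mul' := fun x y => Subtype.ext (by
        have hy := mem_center_iff.1 (hk y)
        calc g * (x * y) * g⁻¹ * (x * y)⁻¹
            = (g * x * g⁻¹) * (g * y * g⁻¹ * y⁻¹) * x⁻¹ := by group
          _ = (g * y * g⁻¹ * y⁻¹) * (g * x * g⁻¹ * x⁻¹) := by rw [hy]; group
          _ = g * x * g⁻¹ * x⁻¹ * (g * y * g⁻¹ * y⁻¹) := by rw [hy]) }
  rw [mem_center_iff]
  intro x
  have h1 : g * x * g⁻¹ * x⁻¹ = 1 := congrArg Subtype.val (eq_one_of_isPerfect (A := center G) hG f x)
  exact ((mul_inv_eq_iff_eq_mul.1 (mul_inv_eq_one.1 h1))).symm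

/-- A cyclic group generated by `z` with `z ^ n = 1` is an image of `ZMod n`. -/
theorem exists_surjective_zmod {Z : Type*} [Group Z] {n : ℕ} (z : Z)
    (hgen : ∀ y, y ∈ zpowers z) (hn : z ^ n = 1) :
    ∃ f : Multiplicative (ZMod n) →* Z, Function.Surjective f := by
  let g : ℤ →+ Additive Z := zmultiplesHom (Additive Z) (Additive.ofMul z)
  have hg : g n = 0 := by
    simp [g, zmultiplesHom, ← ofMul_pow, hn]
  refine ⟨(ZMod.lift n ⟨g, hg⟩).toMultiplicativeLeft, fun y => ?_⟩
  obtain ⟨k, rfl⟩ := mem_zpowers_iff.1 (hgen y)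
  refine ⟨Multiplicative.ofAdd (k : ZMod n), ?_⟩
  simp [g, zmultiplesHom, ← ofMul_zpow]

end Cfsg.Agent.H74.Schur
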