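import Cfsg.Agent.H74.SchurFree

/-!
Central extensions of perfect groups.
-/

namespace Cfsg.Agent.H74.Schur

open Subgroup
open scoped IsMulCommutative

universe u v w

variable {G : Type u} {Q : Type v} [Group G] [Group Q]

theorem finite_of_hom [Finite Q] (f : G →* Q) (h : Finite f.ker) : Finite G := by
  refine Nat.finite_of_card_ne_zero ?_
  rw [← Subgroup.card_mul_index f.ker, Subgroup.index_ker]
  exact Nat.mul_ne_zero Nat.card_pos.ne' Nat.card_pos.ne'

theorem commutatorElement_mul_central {a b z z' : G} (hz : z ∈ center G) (hz' : z' ∈ center G) :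
    a * z * (b * z') * (a * z)⁻¹ * (b * z')⁻¹ = a * b * a⁻¹ * b⁻¹ := by
  have c1 : ∀ x, x * z = z * x := fun x => mem_center_iff.1 hz x
  have c2 : ∀ x, x * z' = z' * x := fun x => mem_center_iff.1 hz' x
  calc a * z * (b * z') * (a * z)⁻¹ * (b * z')⁻¹
      = a * (z * b) * z' * z⁻¹ * a⁻¹ * z'⁻¹ * b⁻¹ := by group
    _ = a * (b * z) * z' * z⁻¹ * a⁻¹ * z'⁻¹ * b⁻¹ := by rw [c1 b]
    _ = a * b * (z * z') * z⁻¹ * a⁻¹ * z'⁻¹ * b⁻¹ := by group
    _ = a * b * (z' * a⁻¹) * z'⁻¹ * b⁻¹ := by rw [c2 z]; group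
    _ = a * b * (a⁻¹ * z') * z'⁻¹ * b⁻¹ := by rw [c2 a⁻¹]
    _ = a * b * a⁻¹ * b⁻¹ := by group

/-- The derived subgroup of a central extension of a perfect group is perfect and covers it. -/
theorem commutator_perfect {π : G →* Q} (hπ : Function.Surjective π) (hc : π.ker ≤ center G)
    (hQ : Group.IsPerfect Q) :
    (commutator G).map π = ⊤ ∧ Group.IsPerfect (commutator G) := by
  have hmap : (commutator G).map π = ⊤ := by
    rw [map_commutator_of_surjective π hπ]; exact isPerfect_iff.1 hQ
  refine ⟨hmap, isPerfect_iff.2 ?_⟩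
  have hdec : ∀ a : G, ∃ d : commutator G, ∃ z ∈ center G, a = d * z := fun a => by
    obtain ⟨d, hd, hde⟩ : π a ∈ (commutator G).map π := hmap ▸ mem_top _
    exact ⟨⟨d, hd⟩, d⁻¹ * a, hc (by rw [MonoidHom.mem_ker, map_mul, map_inv, hde, inv_mul_cancel]),
      (mul_inv_cancel_left _ _).symm⟩
  apply Subgroup.map_injective (commutator G).subtype_injective
  rw [← MonoidHom.range_eq_map, Subgroup.range_subtype]
  refine le_antisymm (Subgroup.map_subtype_le _) ?_
  rw [commutator_def G, Subgroup.commutator_le]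
  intro a _ b _
  obtain ⟨d, z, hz, rfl⟩ := hdec a
  obtain ⟨d', z', hz', rfl⟩ := hdec b
  refine ⟨d * d' * d⁻¹ * d'⁻¹, Subgroup.commutator_mem_commutator (mem_top d) (mem_top d'), ?_⟩
  simp only [commutatorElement_def, map_mul, map_inv, Subgroup.coe_subtype]
  rw [commutatorElement_mul_central hz hz']
  simp

/-- Homs from a perfect group over `Q` into a central extension are unique. -/
theorem hom_ext_perfect {X : Type*} [Group X] (hG : Group.IsPerfect G) {ξ : X →* Q}
    (hc : ξ.ker ≤ center X) {η η' : G →* X} (h : ξ.comp η = ξ.comp η') : η = η' := by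
  have hk : ∀ x, η x * (η' x)⁻¹ ∈ center X := fun x => hc (by
    rw [MonoidHom.mem_ker, map_mul, map_inv, show ξ (η x) = ξ (η' x) from DFunLike.congr_fun h x,
      mul_inv_cancel])
  let d : G →* center X :=
    { toFun := fun x => ⟨η x * (η' x)⁻¹, hk x⟩
      map_one' := Subtype.ext (by simp)
      map_mul' := fun x y => Subtype.ext (by
        have hy := mem_center_iff.1 (hk y)
        simp only [map_mul, mul_inv_rev, Subgroup.coe_mul]
        calc η x * η y * ((η' y)⁻¹ * (η' x)⁻¹) = η x * (η y * (η' y)⁻¹) * (η' x)⁻¹ := by group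
          _ = η y * (η' y)⁻¹ * (η x * (η' x)⁻¹) := by rw [hy]; group
          _ = η x * (η' x)⁻¹ * (η y * (η' y)⁻¹) := by rw [hy]) }
  refine MonoidHom.ext fun x => ?_
  exact mul_inv_eq_one.1 (congrArg Subtype.val (eq_one_of_isPerfect (A := center X) hG d x))

theorem exists_universal [Finite G] (hG : Group.IsPerfect G) :
    ∃ (E : Type u) (_ : Group E) (_ : Finite E) (π : E →* G),
      Group.IsPerfect E ∧ Function.Surjective π ∧ π.ker ≤ center E ∧ Cfsg.IsStemExtension π ∧
      ∀ (X : Type w) [Group X] (ξ : X →* G), Function.Surjective ξ → ξ.ker ≤ center X →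
        ∃! η : E →* X, ξ.comp η = π := by
  let p := FreeGroup.lift (id : G → G)
  have hp : Function.Surjective p := freeGroup_lift_id_surjective
  obtain ⟨hmap, hperf⟩ := commutator_perfect (cextHom_surjective p hp) (ker_cextHom_le p) hG
  let π : commutator (CExt p) →* G := (cextHom p).comp (commutator (CExt p)).subtype
  have hπ : Function.Surjective π := fun q => by
    obtain ⟨d, hd, hde⟩ : q ∈ (commutator (CExt p)).map (cextHom p) := hmap ▸ mem_top _
    exact ⟨⟨d, hd⟩, hde⟩
  have hker : π.ker ≤ center (commutator (CExt p)) := fun x hx => by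
    rw [mem_center_iff]
    intro y
    exact Subtype.ext (mem_center_iff.1 (ker_cextHom_le p hx) (y : CExt p))
  haveI := commGroup_finite_mult p
  have hfin : Finite (commutator (CExt p)) := finite_of_hom π
    (Finite.of_injective (fun z : π.ker => (⟨((z : commutator (CExt p)) : CExt p),
      Subgroup.mem_inf.2 ⟨z.2, z.1.2⟩⟩ : mult p)) fun a b h => Subtype.ext (Subtype.ext
        (congrArg (fun t : mult p => (t : CExt p)) h)))
  refine ⟨commutator (CExt p), inferInstance, hfin, π, hperf, hπ, hker,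
    ⟨hπ, hker, by rw [isPerfect_iff.1 hperf]; exact le_top⟩, fun X _ ξ hξ hc => ?_⟩
  obtain ⟨φ, hφ⟩ := exists_lift (π := p) ξ hξ hc
  refine ⟨φ.comp (commutator (CExt p)).subtype, ?_, fun η hη => ?_⟩
  · show ξ.comp (φ.comp _) = π
    rw [← MonoidHom.comp_assoc, hφ]
  · exact hom_ext_perfect hperf hc (by
      show ξ.comp η = ξ.comp (φ.comp _)
      rw [hη, ← MonoidHom.comp_assoc, hφ])

/-- A perfect group with trivial multiplier splits every central extension. -/
theorem exists_section [Finite G] (hG : Group.IsPerfect G) (h1 : Cfsg.HasCyclicSchurMultiplier G 1)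
    {P : Type w} [Group P] (ρ : P →* G) (hρ : Function.Surjective ρ) (hc : ρ.ker ≤ center P) :
    ∃ s : G →* P, ρ.comp s = MonoidHom.id G := by
  obtain ⟨E, _, _, π, -, hπ, -, hst, huniv⟩ := exists_universal.{u, w} hG
  have hinj : Function.Injective π := π.ker_eq_bot_iff.1 (ker_eq_bot_of_trivial h1 hst)
  let e : E ≃* G := MulEquiv.ofBijective π ⟨hinj, hπ⟩
  obtain ⟨η, hη, -⟩ := huniv P ρ hρ hc
  refine ⟨η.comp e.symm.toMonoidHom, ?_⟩
  ext x
  rw [← MonoidHom.comp_assoc, hη]
  exact e.apply_symm_apply x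

theorem universal_iff [Finite G] (hG : Group.IsPerfect G) (π : G →* Q) (hπ : Function.Surjective π)
    (hker : π.ker ≤ center G) :
    (∀ (X : Type u) [Group X] (ξ : X →* Q), Function.Surjective ξ → ξ.ker ≤ center X →
      ∃ η : G →* X, ξ.comp η = π) ↔ Cfsg.HasCyclicSchurMultiplier G 1 := by
  constructor
  · intro huniv
    refine hasCyclicSchurMultiplier_one fun Γ _ _ τ hτ => ?_
    have hperf : Group.IsPerfect Γ := by
      refine isPerfect_iff.2 (eq_top_iff.2 fun a _ => ?_)
      obtain ⟨d, hd, hde⟩ : τ a ∈ (commutator Γ).map τ := by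
        rw [map_commutator_of_surjective τ hτ.1, isPerfect_iff.1 hG]; exact mem_top _
      have := mul_mem hd (hτ.2.2 (show d⁻¹ * a ∈ τ.ker by
        rw [MonoidHom.mem_ker, map_mul, map_inv, hde, inv_mul_cancel]))
      rwa [mul_inv_cancel_left] at this
    have hcen : (π.comp τ).ker ≤ center Γ := fun x hx =>
      mem_center_of_map_mem_center hperf hτ.2.1 fun y =>
        ((mem_center_iff.1 (hker (show τ x ∈ π.ker from hx))) (τ y)).symm
    obtain ⟨η, hη⟩ := huniv Γ (π.comp τ) (hπ.comp hτ.1) hcen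
    have hid : τ.comp η = MonoidHom.id G :=
      hom_ext_perfect hG hker (by rw [← MonoidHom.comp_assoc, hη, MonoidHom.comp_id])
    have hηs : η.range = ⊤ := by
      rw [eq_top_iff]
      refine (isPerfect_iff.1 hperf).symm.le.trans ?_
      rw [commutator_def, Subgroup.commutator_le]
      intro a _ b _
      have key : ∀ a : Γ, ∃ z ∈ center Γ, a = η (τ a) * z := fun a => by
        refine ⟨(η (τ a))⁻¹ * a, hτ.2.1 ?_, (mul_inv_cancel_left _ _).symm⟩
        rw [MonoidHom.mem_ker, map_mul, map_inv, ← MonoidHom.comp_apply, hid, MonoidHom.id_apply,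
          inv_mul_cancel]
      obtain ⟨z, hz, ha⟩ := key a
      obtain ⟨z', hz', hb⟩ := key b
      rw [ha, hb, commutatorElement_def, commutatorElement_mul_central hz hz']
      exact mul_mem (mul_mem (mul_mem ⟨_, rfl⟩ ⟨_, rfl⟩) (inv_mem ⟨_, rfl⟩)) (inv_mem ⟨_, rfl⟩)
    rw [eq_bot_iff]
    intro z hz
    obtain ⟨g, rfl⟩ : z ∈ η.range := hηs ▸ mem_top z
    have : g = 1 := by
      rw [MonoidHom.mem_ker, ← MonoidHom.comp_apply, hid] at hz; exact hz
    simp [this]
  · intro h1 X _ ξ hξ hc
    let P : Subgroup (X × G) := (ξ.comp (MonoidHom.fst X G)).eqLocus (π.comp (MonoidHom.snd X G))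
    let ρ : P →* G := (MonoidHom.snd X G).comp P.subtype
    obtain ⟨s, hs⟩ := exists_section hG h1 ρ
      (fun g => ⟨⟨((hξ (π g)).choose, g), (hξ (π g)).choose_spec⟩, rfl⟩)
      (fun a ha => by
        have hmem : ξ a.1.1 = π a.1.2 := a.2
        have h2 : a.1.2 = 1 := ha
        rw [h2, map_one] at hmem
        rw [mem_center_iff]
        intro b
        refine Subtype.ext (Prod.ext ?_ ?_)
        · exact mem_center_iff.1 (hc hmem) b.1.1
        · show b.1.2 * a.1.2 = a.1.2 * b.1.2
          rw [h2, one_mul, mul_one])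
    refine ⟨((MonoidHom.fst X G).comp P.subtype).comp s, MonoidHom.ext fun g => ?_⟩
    have h2 : (s g : X × G).2 = g := DFunLike.congr_fun hs g
    exact (s g).2.trans (congrArg π h2)

end Cfsg.Agent.H74.Schur
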