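import Cfsg.Agent.H74.LocalTI
import Cfsg.Agent.Fusion.Complements

/-!
Cyclic Sylow `p`-subgroup and abelian subgroups of order prime to `p`: local lemmas in a simple
counterexample.
-/

namespace Cfsg.Agent.H74.CyclicAb

open Subgroup
open scoped IsMulCommutative

universe u

/-- Subgroups of order prime to `p` are abelian. -/
def HabP (p : ℕ) (G : Type u) [Group G] : Prop :=
  ∀ H : Subgroup G, ¬ p ∣ Nat.card H → IsMulCommutative H

/-- A minimal counterexample. -/
structure Cfg (p : ℕ) (G : Type u) [Group G] : Prop where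
  hp2 : p ≠ 2
  simple : IsSimpleGroup G
  hab : HabP p G
  hcyc : ∀ P : Sylow p G, IsCyclic (P : Subgroup G)
  hnc : ∀ P : Sylow p G,
    ¬ normalizer ((P : Subgroup G) : Set G) ≤ centralizer ((P : Subgroup G) : Set G)
  hsub : ∀ L : Subgroup G, L ≠ ⊤ →
    HasNormalPComplement p L ∨ ∀ Q : Sylow p L, (Q : Subgroup L).Normal

variable {G : Type u} [Group G] [Finite G] {p : ℕ} [hp : Fact p.Prime]

/-- In a cyclic subgroup an element lies in every cyclic subgroup whose order its order divides. -/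
theorem mem_zpowers_of_cyclic {C : Subgroup G} [IsCyclic C] {y z : G} (hy : y ∈ C) (hz : z ∈ C)
    (h : orderOf z ∣ orderOf y) : z ∈ zpowers y := by
  classical
  cases nonempty_fintype G
  set m := orderOf y
  have hm : 0 < m := orderOf_pos y
  let S : Finset C := Finset.univ.filter fun w => w ^ m = 1
  let T : Finset C := Finset.univ.filter fun w => (w : G) ∈ zpowers y
  have hTS : T ⊆ S := fun w hw => by
    simp only [T, S, Finset.mem_filter, Finset.mem_univ, true_and] at hw ⊢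
    obtain ⟨i, hi⟩ := mem_zpowers_iff.1 hw
    refine Subtype.ext ?_
    rw [SubmonoidClass.coe_pow, ← hi, OneMemClass.coe_one, ← zpow_natCast, ← zpow_mul, mul_comm,
      zpow_mul, zpow_natCast, pow_orderOf_eq_one, one_zpow]
  have hS : S.card ≤ m := IsCyclic.card_pow_eq_one_le hm
  have hT : T.card = m := by
    rw [show m = Nat.card (zpowers y) from (Nat.card_zpowers y).symm, ← Nat.card_eq_finsetCard]
    refine Nat.card_congr
      { toFun := fun w => ⟨(w.1 : G), (Finset.mem_filter.1 w.2).2⟩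
        invFun := fun w => ⟨⟨w, zpowers_le.2 hy w.2⟩, Finset.mem_filter.2 ⟨Finset.mem_univ _, w.2⟩⟩
        left_inv := fun w => rfl
        right_inv := fun w => rfl }
  have hzS : (⟨z, hz⟩ : C) ∈ S := by
    simp only [S, Finset.mem_filter, Finset.mem_univ, true_and]
    exact Subtype.ext (orderOf_dvd_iff_pow_eq_one.1 h)
  rw [← Finset.eq_of_subset_of_card_le hTS (hS.trans hT.ge)] at hzS
  exact (Finset.mem_filter.1 hzS).2

theorem coprime_of_mem {H : Subgroup G} (h : ¬ p ∣ Nat.card H) {g : G} (hg : g ∈ H) :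
    (orderOf g).Coprime p :=
  ((hp.out.coprime_iff_not_dvd.2 h).coprime_dvd_right (H.orderOf_dvd_natCard hg)).symm

theorem eq_one_of_both {g : G} (h : (orderOf g).Coprime p) {P : Subgroup G} (hP : IsPGroup p P)
    (hg : g ∈ P) : g = 1 := by
  obtain ⟨k, hk⟩ := IsPGroup.iff_orderOf.1 hP ⟨g, hg⟩
  rw [Subgroup.orderOf_mk] at hk
  rw [← orderOf_eq_one_iff]
  exact Nat.eq_one_of_dvd_coprimes (h.pow_right k) dvd_rfl (dvd_of_eq hk)

theorem not_dvd_of_forall {H : Subgroup G} (h : ∀ g ∈ H, orderOf g ≠ p) : ¬ p ∣ Nat.card H :=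
  fun hd => by
    obtain ⟨g, hg⟩ := exists_prime_orderOf_dvd_card' p hd
    exact h g g.2 ((Subgroup.orderOf_coe g).trans hg)

theorem exists_sylow_mem {g : G} (hg : ∃ k, orderOf g = p ^ k) :
    ∃ Q : Sylow p G, g ∈ (Q : Subgroup G) := by
  obtain ⟨k, hk⟩ := hg
  obtain ⟨Q, hQ⟩ := (IsPGroup.of_card (G := zpowers g) (p := p) (n := k)
    (by rw [Nat.card_zpowers, hk])).exists_le_sylow
  exact ⟨Q, hQ (mem_zpowers g)⟩

theorem mem_sylow_of_normalizes (P : Sylow p G) {x : G} (hx : ∃ k, orderOf x = p ^ k)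
    (hN : x ∈ normalizer ((P : Subgroup G) : Set G)) : x ∈ (P : Subgroup G) := by
  obtain ⟨k, hk⟩ := hx
  exact ((IsPGroup.inf_normalizer_sylow (IsPGroup.of_card (G := zpowers x) (p := p) (n := k)
    (by rw [Nat.card_zpowers, hk])) P).le ⟨mem_zpowers x, hN⟩).2

theorem eq_of_le_normalizer (P Q : Sylow p G)
    (h : (Q : Subgroup G) ≤ normalizer ((P : Subgroup G) : Set G)) : Q = P := by
  apply Sylow.ext
  refine (Q.is_maximal' P.isPGroup' fun z hz => mem_sylow_of_normalizes P ?_ (h hz)).symm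
  obtain ⟨k, hk⟩ := IsPGroup.iff_orderOf.1 Q.isPGroup' ⟨z, hz⟩
  exact ⟨k, by rwa [Subgroup.orderOf_mk] at hk⟩

namespace Cfg

theorem not_comm (h : Cfg p G) : ¬ ∀ x y : G, x * y = y * x := fun hc => by
  obtain ⟨P⟩ : Nonempty (Sylow p G) := inferInstance
  exact h.hnc P fun g _ => mem_centralizer_iff.2 fun x _ => hc x g

theorem comm_pprime (h : Cfg p G) {H : Subgroup G} (hH : ¬ p ∣ Nat.card H) {a b : G} (ha : a ∈ H)
    (hb : b ∈ H) : a * b = b * a := by
  haveI := h.hab H hH
  exact congrArg Subtype.val (mul_comm (⟨a, ha⟩ : H) ⟨b, hb⟩)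

theorem sylow_comm (h : Cfg p G) (P : Sylow p G) {a b : G} (ha : a ∈ (P : Subgroup G))
    (hb : b ∈ (P : Subgroup G)) : a * b = b * a := by
  haveI := h.hcyc P
  letI : CommGroup (P : Subgroup G) := IsCyclic.commGroup
  exact congrArg Subtype.val (mul_comm (⟨a, ha⟩ : (P : Subgroup G)) ⟨b, hb⟩)

theorem le_centralizer (h : Cfg p G) (P : Sylow p G) :
    (P : Subgroup G) ≤ centralizer ((P : Subgroup G) : Set G) :=
  fun _ hb => mem_centralizer_iff.2 fun _ ha => h.sylow_comm P ha hb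

theorem dvd_card (h : Cfg p G) : p ∣ Nat.card G := by
  by_contra hnd
  obtain ⟨P⟩ : Nonempty (Sylow p G) := inferInstance
  refine h.hnc P fun g _ => mem_centralizer_iff.2 fun x hx => ?_
  have h1 : x = 1 := by
    refine eq_one_of_both ?_ P.isPGroup' hx
    exact ((hp.out.coprime_iff_not_dvd.2 hnd).coprime_dvd_right (orderOf_dvd_natCard x)).symm
  rw [h1, one_mul, mul_one]

theorem exists_ne_one (h : Cfg p G) (P : Sylow p G) : ∃ x ∈ (P : Subgroup G), orderOf x = p := by
  obtain ⟨x, hx⟩ := exists_prime_orderOf_dvd_card' (G := (P : Subgroup G)) p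
    (P.dvd_card_of_dvd_card h.dvd_card)
  exact ⟨x, x.2, (Subgroup.orderOf_coe x).trans hx⟩

omit [Finite G] hp in
theorem normal_cases (h : Cfg p G) {N : Subgroup G} (hN : N.Normal) : N = ⊥ ∨ N = ⊤ := by
  haveI := h.simple
  exact hN.eq_bot_or_eq_top

omit [Finite G] hp in
theorem centralizer_ne_top' (h : Cfg p G) (hnc : ¬ ∀ x y : G, x * y = y * x) {y : G} (hy : y ≠ 1) :
    centralizer ({y} : Set G) ≠ ⊤ := fun e => by
  have hmem : y ∈ center G := mem_center_iff.2 fun g =>
    (mem_centralizer_singleton_iff.1 (e ▸ mem_top g : g ∈ centralizer ({y} : Set G)))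
  rcases h.normal_cases (inferInstance : (center G).Normal) with e' | e'
  · exact hy (mem_bot.1 (e' ▸ hmem))
  · exact hnc fun a b => mem_center_iff.1 (e' ▸ mem_top b : b ∈ center G) a

theorem centralizer_ne_top (h : Cfg p G) {y : G} (hy : y ≠ 1) : centralizer ({y} : Set G) ≠ ⊤ :=
  h.centralizer_ne_top' h.not_comm hy

theorem exists_mover (h : Cfg p G) (P : Sylow p G) :
    ∃ g ∈ normalizer ((P : Subgroup G) : Set G), (orderOf g).Coprime p ∧
      g ∉ centralizer ((P : Subgroup G) : Set G) := by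
  obtain ⟨g, hg, hgc⟩ := SetLike.not_le_iff_exists.1 (h.hnc P)
  obtain ⟨a, b, rfl, ha, hb, ⟨k, hak⟩, hbp⟩ := Fusion.exists_mul_eq_pPart (p := p) g
  refine ⟨b, zpowers_le.2 hg hb, hbp, fun hbc => hgc (mul_mem ?_ hbc)⟩
  obtain ⟨j, -, hj⟩ := (Nat.dvd_prime_pow hp.out).1 hak
  exact h.le_centralizer P (mem_sylow_of_normalizes P ⟨j, hj⟩ (zpowers_le.2 hg ha))

/-- A proper subgroup containing `P` and an element moving it normalizes it. -/
theorem le_normalizer_of_mover (h : Cfg p G) (P : Sylow p G) {L : Subgroup G} (hL : L ≠ ⊤)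
    (hPL : (P : Subgroup G) ≤ L) {g : G} (hg : g ∈ normalizer ((P : Subgroup G) : Set G))
    (hgp : (orderOf g).Coprime p) (hgc : g ∉ centralizer ((P : Subgroup G) : Set G)) (hgL : g ∈ L) :
    L ≤ normalizer ((P : Subgroup G) : Set G) := by
  rcases h.hsub L hL with ⟨Q, K, hKn, hK⟩ | hn
  · exfalso
    haveI := hKn
    have hKp : ¬ p ∣ Nat.card K := Fusion.not_dvd_card_of_isComplement' Q hK
    have hidx : ∃ k, K.index = p ^ k := by
      obtain ⟨k, hk⟩ := IsPGroup.iff_card.1 Q.isPGroup'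
      exact ⟨k, by rw [hK.symm.index_eq_card, hk]⟩
    obtain ⟨k, hk⟩ := hidx
    have hgK : (⟨g, hgL⟩ : L) ∈ K := by
      rw [← QuotientGroup.eq_one_iff, ← orderOf_eq_one_iff]
      refine Nat.eq_one_of_dvd_coprimes (hgp.pow_right k)
        ((orderOf_map_dvd (QuotientGroup.mk' K) _).trans (Subgroup.orderOf_mk g hgL).dvd) ?_
      rw [← hk, Subgroup.index_eq_card]
      exact orderOf_dvd_natCard _
    refine hgc (mem_centralizer_iff.2 fun x hx => ?_)
    have h1 : (⟨g, hgL⟩ : L) * ⟨x, hPL hx⟩ * (⟨g, hgL⟩ : L)⁻¹ * (⟨x, hPL hx⟩ : L)⁻¹ ∈ K := by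
      have h2 := mul_mem hgK (hKn.conj_mem _ (inv_mem hgK) ⟨x, hPL hx⟩)
      convert h2 using 1
      group
    have h2 : g * x * g⁻¹ * x⁻¹ ∈ (P : Subgroup G) :=
      mul_mem ((Subgroup.mem_normalizer_iff.1 hg x).1 hx) (inv_mem hx)
    have h3 : g * x * g⁻¹ * x⁻¹ = 1 := by
      refine eq_one_of_both (coprime_of_mem (H := K.map L.subtype) ?_ ⟨_, h1, rfl⟩) P.isPGroup' h2
      rwa [Subgroup.card_map_of_injective L.subtype_injective]
    calc x * g = (g * x * g⁻¹ * x⁻¹) * (x * g) := by rw [h3, one_mul]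
      _ = g * x := by group
  · intro l hl
    have hn' := hn (P.subtype hPL)
    refine mem_normalizer_of_conj fun z hz => ?_
    have h1 := hn'.conj_mem ⟨z, hPL hz⟩ (by simpa [Sylow.coe_subtype, Subgroup.mem_subgroupOf] using hz) ⟨l, hl⟩
    simpa [Sylow.coe_subtype, Subgroup.mem_subgroupOf] using h1

/-- Normalizers of nontrivial subgroups of a Sylow subgroup. -/
theorem normalizer_zpowers_le (h : Cfg p G) (P : Sylow p G) {y : G} (hy : y ∈ (P : Subgroup G))
    (hy1 : y ≠ 1) :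
    normalizer ((zpowers y : Subgroup G) : Set G) ≤ normalizer ((P : Subgroup G) : Set G) := by
  obtain ⟨g, hg, hgp, hgc⟩ := h.exists_mover P
  haveI := h.hcyc P
  refine h.le_normalizer_of_mover P ?_ (fun z hz => ?_) hg hgp hgc ?_
  · intro e
    have hn : (zpowers y).Normal := Subgroup.normalizer_eq_top_iff.1 e
    rcases h.normal_cases hn with e' | e'
    · exact hy1 (zpowers_eq_bot.1 e')
    · refine h.not_comm fun a b => ?_
      obtain ⟨i, rfl⟩ := mem_zpowers_iff.1 (e' ▸ mem_top a : a ∈ zpowers y)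
      obtain ⟨j, rfl⟩ := mem_zpowers_iff.1 (e' ▸ mem_top b : b ∈ zpowers y)
      exact (Commute.zpow_zpow_self y i j).eq
  · refine mem_normalizer_of_conj fun w hw => ?_
    rw [h.sylow_comm P hz (zpowers_le.2 hy hw), mul_inv_cancel_right]
    exact hw
  · refine mem_normalizer_of_conj fun w hw => ?_
    obtain ⟨i, rfl⟩ := mem_zpowers_iff.1 hw
    rw [← conj_zpow]
    exact zpow_mem (mem_zpowers_of_cyclic hy ((Subgroup.mem_normalizer_iff.1 hg y).1 hy)
      ((MulAut.conj g).orderOf_eq y).dvd) i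

/-- Whatever commutes with a nontrivial element of a Sylow subgroup centralizes the subgroup. -/
theorem mem_centralizer (h : Cfg p G) (P : Sylow p G) {y g : G} (hy : y ∈ (P : Subgroup G))
    (hy1 : y ≠ 1) (hg : g * y = y * g) : g ∈ centralizer ((P : Subgroup G) : Set G) := by
  refine fix_all p P (h.hcyc P) g (h.normalizer_zpowers_le P hy hy1 ?_) y hy hy1 hg
  refine mem_normalizer_of_conj fun w hw => ?_
  obtain ⟨i, rfl⟩ := mem_zpowers_iff.1 hw
  rw [← conj_zpow, hg, mul_inv_cancel_right]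
  exact zpow_mem (mem_zpowers y) i

/-- Sylow subgroups intersect trivially. -/
theorem sylow_eq (h : Cfg p G) (P Q : Sylow p G) {y : G} (hy : y ∈ (P : Subgroup G))
    (hy' : y ∈ (Q : Subgroup G)) (hy1 : y ≠ 1) : Q = P :=
  eq_of_le_normalizer P Q fun z hz =>
    Subgroup.centralizer_le_normalizer _ (h.mem_centralizer P hy hy1 (h.sylow_comm Q hz hy'))

/-- An abelian complement of `P` in its normalizer. -/
theorem exists_hall (h : Cfg p G) (P : Sylow p G) :
    ∃ H : Subgroup G, H ≤ normalizer ((P : Subgroup G) : Set G) ∧ ¬ p ∣ Nat.card H ∧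
      Nat.card (normalizer ((P : Subgroup G) : Set G)) = Nat.card (P : Subgroup G) * Nat.card H ∧
      (∀ g ∈ normalizer ((P : Subgroup G) : Set G), ∃ a ∈ (P : Subgroup G), ∃ b ∈ H, g = a * b) ∧
      ∃ g ∈ H, g ∉ centralizer ((P : Subgroup G) : Set G) := by
  set N := normalizer ((P : Subgroup G) : Set G) with hN
  let Q : Sylow p N := P.subtype le_normalizer
  haveI hQn : (Q : Subgroup N).Normal := by
    rw [Sylow.coe_subtype]
    exact Subgroup.normal_in_normalizer
  obtain ⟨K, hK⟩ := Subgroup.exists_right_complement'_of_coprime Q.card_coprime_index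
  have hQc : Nat.card (Q : Subgroup N) = Nat.card (P : Subgroup G) :=
    Nat.card_congr (Subgroup.subgroupOfEquivOfLe le_normalizer).toEquiv
  have hKc : Nat.card (K.map N.subtype) = Nat.card K := Subgroup.card_map_of_injective N.subtype_injective
  have hdec : ∀ g ∈ N, ∃ a ∈ (P : Subgroup G), ∃ b ∈ K.map N.subtype, g = a * b := by
    intro g hg
    obtain ⟨⟨⟨a, ha⟩, ⟨b, hb⟩⟩, hab⟩ := hK.2 ⟨g, hg⟩
    exact ⟨a, ha, b, ⟨b, hb, rfl⟩, (congrArg Subtype.val hab).symm⟩
  refine ⟨K.map N.subtype, Subgroup.map_subtype_le K, ?_, ?_, hdec, ?_⟩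
  · rw [hKc, ← hK.symm.index_eq_card]
    exact Q.not_dvd_index
  · rw [hKc, ← hQc, hK.card_mul]
  · by_contra hall
    push_neg at hall
    refine h.hnc P fun g hg => ?_
    obtain ⟨a, ha, b, hb, rfl⟩ := hdec g hg
    exact mul_mem (h.le_centralizer P ha) (hall b hb)

/-- Elements of order prime to `p` centralizing `P` lie in every complement. -/
theorem mem_hall (h : Cfg p G) (P : Sylow p G) {H : Subgroup G} (hHp : ¬ p ∣ Nat.card H)
    (hdec : ∀ g ∈ normalizer ((P : Subgroup G) : Set G), ∃ a ∈ (P : Subgroup G), ∃ b ∈ H, g = a * b)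
    {g : G} (hg : g ∈ centralizer ((P : Subgroup G) : Set G)) (hgp : (orderOf g).Coprime p) :
    g ∈ H := by
  obtain ⟨a, ha, b, hb, rfl⟩ := hdec g (Subgroup.centralizer_le_normalizer _ hg)
  have hc : a * (a * b) = (a * b) * a := mem_centralizer_iff.1 hg a ha
  suffices h1 : a = 1 by simpa [h1] using hb
  refine eq_one_of_both ?_ P.isPGroup' ha
  have hab : Commute (a * b) b⁻¹ := by
    have hab' : a * b = b * a := by
      rw [mul_assoc] at hc
      exact mul_left_cancel hc
    show a * b * b⁻¹ = b⁻¹ * (a * b)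
    rw [hab', ← mul_assoc b⁻¹, inv_mul_cancel, one_mul, ← hab', mul_inv_cancel_right]
  have e : a = (a * b) * b⁻¹ := (mul_inv_cancel_right a b).symm
  rw [e]
  refine Nat.Coprime.coprime_dvd_left hab.orderOf_mul_dvd_lcm ?_
  refine Nat.Coprime.coprime_dvd_left (Nat.lcm_dvd_mul _ _) (Nat.Coprime.mul_left hgp ?_)
  rw [orderOf_inv]
  exact coprime_of_mem hHp hb

/-- `C(P)` meets every complement in the elements centralizing some nontrivial element of `P`. -/
theorem mem_inf_of_commute (h : Cfg p G) (P : Sylow p G) {H : Subgroup G} (hHp : ¬ p ∣ Nat.card H)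
    (hdec : ∀ g ∈ normalizer ((P : Subgroup G) : Set G), ∃ a ∈ (P : Subgroup G), ∃ b ∈ H, g = a * b)
    {y g : G} (hy : y ∈ (P : Subgroup G)) (hy1 : y ≠ 1) (hg : g * y = y * g)
    (hgp : (orderOf g).Coprime p) : g ∈ H ⊓ centralizer ((P : Subgroup G) : Set G) :=
  ⟨h.mem_hall P hHp hdec (h.mem_centralizer P hy hy1 hg) hgp, h.mem_centralizer P hy hy1 hg⟩

/-- In a simple group an abelian Sylow subgroup is not self-centralized in its normalizer. -/
theorem not_normalizer_le (h : Cfg p G) {r : ℕ} [hr : Fact r.Prime] (hrp : r ≠ p)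
    (hrG : r ∣ Nat.card G) (R : Sylow r G) :
    ¬ normalizer ((R : Subgroup G) : Set G) ≤ centralizer ((R : Subgroup G) : Set G) := fun hle => by
  obtain ⟨S, K, hKn, hK⟩ := Fusion.hasNormalPComplement_of_normalizer_le_centralizer R hle
  rcases h.normal_cases hKn with e | e
  · obtain ⟨x, hx⟩ := exists_prime_orderOf_dvd_card' p h.dvd_card
    obtain ⟨k, hk⟩ := IsPGroup.iff_card.1 S.isPGroup'
    have h1 : Nat.card G = r ^ k := by rw [← hK.card_mul, e, Subgroup.card_bot, one_mul, hk]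
    exact hrp ((Nat.prime_dvd_prime_iff_eq hp.out hr.out).1
      (hp.out.dvd_of_dvd_pow (h1 ▸ h.dvd_card : p ∣ r ^ k))).symm
  · exact Fusion.not_dvd_card_of_isComplement' S hK (by rw [e, Subgroup.card_top]; exact hrG)

/-- A Sylow subgroup of another prime is abelian. -/
theorem other_sylow_card (h : Cfg p G) {r : ℕ} [hr : Fact r.Prime] (hrp : r ≠ p) (R : Sylow r G) :
    ¬ p ∣ Nat.card (R : Subgroup G) := fun hd => by
  obtain ⟨k, hk⟩ := IsPGroup.iff_card.1 R.isPGroup'
  exact hrp ((Nat.prime_dvd_prime_iff_eq hp.out hr.out).1 (hp.out.dvd_of_dvd_pow (hk ▸ hd))).symm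

/-- Some element of order `p` normalizes each abelian Sylow subgroup. -/
theorem exists_p_normalizes (h : Cfg p G) {r : ℕ} [hr : Fact r.Prime] (hrp : r ≠ p)
    (hrG : r ∣ Nat.card G) (R : Sylow r G) :
    ∃ x : G, orderOf x = p ∧ x ∈ normalizer ((R : Subgroup G) : Set G) := by
  by_contra hno
  push_neg at hno
  refine h.not_normalizer_le hrp hrG R fun g hg => mem_centralizer_iff.2 fun z hz => ?_
  exact h.comm_pprime (not_dvd_of_forall fun x hx hxp => hno x hxp hx) (le_normalizer hz) hg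

end Cfg

end Cfsg.Agent.H74.CyclicAb
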