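import Cfsg.Agent.H74.SchurBasic
import Mathlib.GroupTheory.FreeGroup.IsFreeGroup
import Mathlib.GroupTheory.Schreier
import Mathlib.GroupTheory.Transfer
import Mathlib.LinearAlgebra.FreeModule.PID
import Mathlib.Algebra.EuclideanDomain.Int
import Mathlib.RingTheory.PrincipalIdealDomain
import Mathlib.Algebra.Module.Projective

/-!
The Schur multiplier through a free presentation `π : F →* Q`: the universal central extension
`F/[ker π, F]`, the finite group `M = R ∩ E'`, and existence of covering groups.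
-/

namespace Cfsg.Agent.H74.Schur

open Subgroup
open scoped IsMulCommutative

universe u v w

section Cext

variable {F : Type u} {Q : Type v} [Group F] [Group Q] (π : F →* Q)

/-- `F/[ker π, F]`. -/
abbrev CExt : Type u := F ⧸ ⁅π.ker, (⊤ : Subgroup F)⁆

/-- The projection `F/[ker π, F] →* Q`. -/
def cextHom : CExt π →* Q :=
  QuotientGroup.lift _ π (Subgroup.commutator_le_left _ _)

@[inherit_doc cextHom]
theorem cextHom_mk (x : F) : cextHom π (QuotientGroup.mk x) = π x := rfl

theorem cextHom_surjective (hπ : Function.Surjective π) : Function.Surjective (cextHom π) := fun q => by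
  obtain ⟨x, rfl⟩ := hπ q; exact ⟨QuotientGroup.mk x, rfl⟩

theorem ker_cextHom_le : (cextHom π).ker ≤ center (CExt π) := by
  intro e he
  induction e using QuotientGroup.induction_on with
  | H x =>
    rw [mem_center_iff]
    intro g
    induction g using QuotientGroup.induction_on with
    | H y =>
      rw [← QuotientGroup.mk_mul, ← QuotientGroup.mk_mul]
      refine (QuotientGroup.eq.2 ?_).symm
      have h := inv_mem (Subgroup.commutator_mem_commutator
        (inv_mem (show x ∈ π.ker from he)) (Subgroup.mem_top y⁻¹) (H₁ := π.ker) (H₂ := ⊤))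
      convert h using 1
      simp [commutatorElement_def, mul_assoc]

instance isMulCommutative_ker_cext : IsMulCommutative (cextHom π).ker :=
  ⟨⟨fun a b => Subtype.ext (mem_center_iff.1 (ker_cextHom_le π b.2) (a : CExt π))⟩⟩

/-- `M = R ∩ E'`, the Schur multiplier. -/
def mult : Subgroup (CExt π) := (cextHom π).ker ⊓ commutator (CExt π)

theorem mult_le_ker : mult π ≤ (cextHom π).ker := inf_le_left

instance isMulCommutative_mult : IsMulCommutative (mult π) :=
  ⟨⟨fun a b => Subtype.ext (mem_center_iff.1 (ker_cextHom_le π b.2.1) (a : CExt π))⟩⟩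

theorem commGroup_finite_mult [Finite Q] [Group.FG F] : Finite (mult π) := by
  haveI : (cextHom π).ker.FiniteIndex := ⟨by
    rw [Subgroup.index_ker]; exact Nat.card_pos.ne'⟩
  haveI : (center (CExt π)).FiniteIndex := Subgroup.finiteIndex_of_le (ker_cextHom_le π)
  have hfin : (commutatorSet (CExt π)).Finite := by
    let g : (CExt π ⧸ center (CExt π)) × (CExt π ⧸ center (CExt π)) → CExt π :=
      fun w => w.1.out * w.2.out * w.1.out⁻¹ * w.2.out⁻¹
    refine (Set.finite_range g).subset ?_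
    rintro _ ⟨a, b, rfl⟩
    refine ⟨(QuotientGroup.mk a, QuotientGroup.mk b), ?_⟩
    obtain ⟨z, hz⟩ := QuotientGroup.mk_out_eq_mul (center (CExt π)) a
    obtain ⟨z', hz'⟩ := QuotientGroup.mk_out_eq_mul (center (CExt π)) b
    simp only [g, hz, hz', commutatorElement_def]
    have c1 : ∀ x, x * (z : CExt π) = z * x := fun x => mem_center_iff.1 z.2 x
    have c2 : ∀ x, x * (z' : CExt π) = z' * x := fun x => mem_center_iff.1 z'.2 x
    calc a * z * (b * z') * (a * z)⁻¹ * (b * z')⁻¹
        = a * ((z : CExt π) * b) * z' * (z : CExt π)⁻¹ * a⁻¹ * (z' : CExt π)⁻¹ * b⁻¹ := by group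
      _ = a * (b * z) * z' * (z : CExt π)⁻¹ * a⁻¹ * (z' : CExt π)⁻¹ * b⁻¹ := by rw [c1 b]
      _ = a * b * ((z : CExt π) * z') * (z : CExt π)⁻¹ * a⁻¹ * (z' : CExt π)⁻¹ * b⁻¹ := by group
      _ = a * b * ((z' : CExt π) * a⁻¹) * (z' : CExt π)⁻¹ * b⁻¹ := by rw [c2 z]; group
      _ = a * b * (a⁻¹ * z') * (z' : CExt π)⁻¹ * b⁻¹ := by rw [c2 a⁻¹]
      _ = a * b * a⁻¹ * b⁻¹ := by group
  haveI : Finite (commutatorSet (CExt π)) := hfin.to_subtype
  exact Finite.of_injective _ (Subgroup.inclusion_injective (inf_le_right : mult π ≤ _))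

variable {π}

/-- Every central extension of `Q` receives a map from `F/[ker π, F]` when `F` is free. -/
theorem exists_lift [IsFreeGroup F] {Γ : Type w} [Group Γ] (σ : Γ →* Q)
    (hσ : Function.Surjective σ) (hc : σ.ker ≤ center Γ) :
    ∃ φ : CExt π →* Γ, σ.comp φ = cextHom π := by
  let φ₀ : F →* Γ := IsFreeGroup.lift fun a => Function.surjInv hσ (π (IsFreeGroup.of a))
  have hcomp : σ.comp φ₀ = π := by
    refine IsFreeGroup.ext_hom fun a => ?_
    simp [φ₀, IsFreeGroup.lift_of, Function.surjInv_eq hσ]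
  have hle : ⁅π.ker, (⊤ : Subgroup F)⁆ ≤ φ₀.ker := by
    rw [Subgroup.commutator_le]
    intro r hr g _
    rw [MonoidHom.mem_ker, map_commutatorElement]
    refine commutatorElement_eq_one_iff_mul_comm.2 ?_
    refine ((mem_center_iff.1 (hc ?_)) (φ₀ g)).symm
    rw [MonoidHom.mem_ker, ← MonoidHom.comp_apply, hcomp]
    exact hr
  refine ⟨QuotientGroup.lift _ φ₀ hle, ?_⟩
  refine QuotientGroup.monoidHom_ext _ ?_
  ext x
  exact DFunLike.congr_fun hcomp x

/-- A lift into a stem extension is surjective and maps `M` onto the kernel. -/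
theorem lift_stem (hπ : Function.Surjective π) {Γ : Type w} [Group Γ] {σ : Γ →* Q}
    (h : Cfsg.IsStemExtension σ) {φ : CExt π →* Γ} (hφ : σ.comp φ = cextHom π) :
    Function.Surjective φ ∧ (mult π).map φ = σ.ker := by
  have hcom : commutator Γ ≤ (commutator (CExt π)).map φ := by
    rw [commutator_def Γ, Subgroup.commutator_le]
    intro a _ b _
    obtain ⟨e, he⟩ := cextHom_surjective π hπ (σ a)
    obtain ⟨f, hf⟩ := cextHom_surjective π hπ (σ b)
    have key : ∀ (a : Γ) (e : CExt π), cextHom π e = σ a → ∃ z ∈ center Γ, a = φ e * z := by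
      intro a e he
      refine ⟨(φ e)⁻¹ * a, h.2.1 ?_, (mul_inv_cancel_left _ _).symm⟩
      rw [MonoidHom.mem_ker, map_mul, map_inv, ← MonoidHom.comp_apply, hφ, he, inv_mul_cancel]
    obtain ⟨z, hz, rfl⟩ := key a e he
    obtain ⟨z', hz', rfl⟩ := key b f hf
    refine ⟨e * f * e⁻¹ * f⁻¹, Subgroup.commutator_mem_commutator (mem_top e) (mem_top f), ?_⟩
    have c1 : ∀ x, x * z = z * x := fun x => mem_center_iff.1 hz x
    have c2 : ∀ x, x * z' = z' * x := fun x => mem_center_iff.1 hz' x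
    simp only [map_mul, map_inv, commutatorElement_def, mul_inv_rev]
    calc φ e * φ f * (φ e)⁻¹ * (φ f)⁻¹
        = φ e * φ f * (φ e)⁻¹ * z' * z'⁻¹ * (φ f)⁻¹ := by group
      _ = φ e * φ f * ((φ e)⁻¹ * z') * z'⁻¹ * (φ f)⁻¹ := by group
      _ = φ e * φ f * (z' * (φ e)⁻¹) * z'⁻¹ * (φ f)⁻¹ := by rw [c2]
      _ = φ e * (φ f * z * z⁻¹) * z' * (φ e)⁻¹ * z'⁻¹ * (φ f)⁻¹ := by group
      _ = φ e * (z * φ f * z⁻¹) * z' * (φ e)⁻¹ * z'⁻¹ * (φ f)⁻¹ := by rw [c1]
      _ = φ e * z * φ f * (z⁻¹ * z') * (φ e)⁻¹ * z'⁻¹ * (φ f)⁻¹ := by group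
      _ = φ e * z * φ f * (z' * z⁻¹) * (φ e)⁻¹ * z'⁻¹ * (φ f)⁻¹ := by rw [c2]
      _ = φ e * z * (φ f * z') * (z⁻¹ * (φ e)⁻¹) * (z'⁻¹ * (φ f)⁻¹) := by group
  have hker : σ.ker ≤ (mult π).map φ := by
    intro x hx
    obtain ⟨e, he, rfl⟩ := hcom (h.2.2 hx)
    refine ⟨e, ⟨?_, he⟩, rfl⟩
    show cextHom π e = 1
    rw [← hφ]
    exact hx
  refine ⟨fun a => ?_, le_antisymm ?_ hker⟩
  · obtain ⟨e, he⟩ := cextHom_surjective π hπ (σ a)
    obtain ⟨f, -, hf⟩ := hker (show (φ e)⁻¹ * a ∈ σ.ker by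
      rw [MonoidHom.mem_ker, map_mul, map_inv, ← MonoidHom.comp_apply, hφ, he, inv_mul_cancel])
    exact ⟨e * f, by rw [map_mul, hf, mul_inv_cancel_left]⟩
  · rintro _ ⟨e, he, rfl⟩
    rw [MonoidHom.mem_ker, ← MonoidHom.comp_apply, hφ]
    exact he.1

theorem exists_surjective_mult [IsFreeGroup F] (hπ : Function.Surjective π) {Γ : Type w} [Group Γ]
    {σ : Γ →* Q} (h : Cfsg.IsStemExtension σ) : ∃ f : mult π →* σ.ker, Function.Surjective f := by
  obtain ⟨φ, hφ⟩ := exists_lift (π := π) σ h.1 h.2.1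
  obtain ⟨-, hM⟩ := lift_stem hπ h hφ
  refine ⟨(φ.comp (mult π).subtype).codRestrict σ.ker (fun e => hM ▸ ⟨e, e.2, rfl⟩), fun z => ?_⟩
  obtain ⟨e, he, hez⟩ : (z : Γ) ∈ (mult π).map φ := hM.symm ▸ z.2
  exact ⟨⟨e, he⟩, Subtype.ext hez⟩

theorem map_commutator_of_surjective {A B : Type*} [Group A] [Group B] (f : A →* B)
    (hf : Function.Surjective f) : (commutator A).map f = commutator B := by
  rw [commutator_def, Subgroup.map_commutator, ← MonoidHom.range_eq_map,
    MonoidHom.range_eq_top.2 hf, commutator_def]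

variable (S : Subgroup (CExt π))

theorem normal_of_le_ker (hS : S ≤ (cextHom π).ker) : S.Normal :=
  ⟨fun x hx g => by rwa [(mem_center_iff.1 (ker_cextHom_le π (hS hx)) g), mul_inv_cancel_right]⟩

/-- The quotient by a complement of `M` inside `R` is a covering group. -/
theorem cover_of_complement [Finite Q] [Group.FG F] [S.Normal] (hπ : Function.Surjective π)
    (hS : S ≤ (cextHom π).ker) (hinf : S ⊓ mult π = ⊥) (hsup : (cextHom π).ker ≤ S ⊔ mult π) :
    ∃ (σ : CExt π ⧸ S →* Q), σ.comp (QuotientGroup.mk' S) = cextHom π ∧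
      Cfsg.IsStemExtension σ ∧ Finite (CExt π ⧸ S) ∧ Nonempty (mult π ≃* σ.ker) := by
  have hSk : ∀ x ∈ S, cextHom π x = 1 := fun x hx => hS hx
  let σ := QuotientGroup.lift S (cextHom π) hSk
  have hkimg : ∀ y ∈ σ.ker, ∃ m ∈ mult π, (QuotientGroup.mk' S m) = y := by
    intro y hy
    obtain ⟨e, rfl⟩ := QuotientGroup.mk'_surjective S y
    have he : e ∈ S ⊔ mult π := hsup hy
    obtain ⟨s, hs, m, hm, rfl⟩ := Subgroup.mem_sup_of_normal_left.1 (he)
    exact ⟨m, hm, by rw [map_mul, show QuotientGroup.mk' S s = 1 from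
      (QuotientGroup.eq_one_iff s).2 hs, one_mul]⟩
  have hst : Cfsg.IsStemExtension σ := by
    refine ⟨fun q => ?_, fun y hy => ?_, fun y hy => ?_⟩
    · obtain ⟨e, rfl⟩ := cextHom_surjective π hπ q
      exact ⟨QuotientGroup.mk e, rfl⟩
    · obtain ⟨m, hm, rfl⟩ := hkimg y hy
      rw [mem_center_iff]
      intro g
      obtain ⟨g, rfl⟩ := QuotientGroup.mk'_surjective S g
      rw [← map_mul, ← map_mul, mem_center_iff.1 (ker_cextHom_le π hm.1) g]
    · obtain ⟨m, hm, rfl⟩ := hkimg y hy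
      rw [← map_commutator_of_surjective _ (QuotientGroup.mk'_surjective S)]
      exact ⟨m, hm.2, rfl⟩
  let f : mult π →* σ.ker :=
    ((QuotientGroup.mk' S).comp (mult π).subtype).codRestrict σ.ker fun m => show σ (QuotientGroup.mk' S (m : CExt π)) = 1 from m.2.1
  have hf : Function.Bijective f := by
    refine ⟨(injective_iff_map_eq_one f).2 fun m hm => ?_, fun y => ?_⟩
    · have h1 : (m : CExt π) ∈ S := (QuotientGroup.eq_one_iff _).1 (congrArg Subtype.val hm)
      have h2 : (m : CExt π) ∈ S ⊓ mult π := ⟨h1, m.2⟩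
      rw [hinf, mem_bot] at h2
      exact Subtype.ext h2
    · obtain ⟨m, hm, hmy⟩ := hkimg y y.2
      exact ⟨⟨m, hm⟩, Subtype.ext hmy⟩
  refine ⟨σ, rfl, hst, ?_, ⟨MulEquiv.ofBijective f hf⟩⟩
  haveI := commGroup_finite_mult π
  haveI : Finite σ.ker := Finite.of_equiv _ (Equiv.ofBijective f hf)
  have h1 := Subgroup.card_mul_index σ.ker
  have h2 : σ.ker.index = Nat.card Q := by
    rw [Subgroup.index_ker, MonoidHom.range_eq_top.2 hst.1, Subgroup.card_top]
  refine Nat.finite_of_card_ne_zero ?_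
  rw [← h1, h2]
  exact Nat.mul_ne_zero Nat.card_pos.ne' Nat.card_pos.ne'

end Cext

section Free

variable {ι : Type u} {Q : Type v} [Group Q]

/-- Exponent-sum map on a free group. -/
noncomputable def expSum : FreeGroup ι →* Multiplicative (ι →₀ ℤ) :=
  FreeGroup.lift fun i => Multiplicative.ofAdd (Finsupp.single i 1)

theorem ker_expSum_le : (expSum (ι := ι)).ker ≤ commutator (FreeGroup ι) := by
  intro x hx
  rw [← Abelianization.ker_of, MonoidHom.mem_ker]
  let g : (ι →₀ ℤ) →+ Additive (Abelianization (FreeGroup ι)) :=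
    Finsupp.liftAddHom fun i => zmultiplesHom _ (Additive.ofMul (Abelianization.of (FreeGroup.of i)))
  have h : g.toMultiplicativeLeft.comp expSum = Abelianization.of := by
    refine FreeGroup.ext_hom _ _ fun i => ?_
    simp [g, expSum]
  rw [← h, MonoidHom.comp_apply, MonoidHom.mem_ker.1 hx, map_one]

variable (π : FreeGroup ι →* Q)

/-- Exponent sums on `F/[R,F]`; its kernel is the derived subgroup. -/
noncomputable def cextExp : CExt π →* Multiplicative (ι →₀ ℤ) :=
  QuotientGroup.lift _ expSum ((Subgroup.commutator_mono le_top le_top).trans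
    (Abelianization.commutator_subset_ker _))

theorem cextExp_eq_one_iff (e : CExt π) : cextExp π e = 1 ↔ e ∈ commutator (CExt π) := by
  refine ⟨fun h => ?_, fun h => Abelianization.commutator_subset_ker _ h⟩
  induction e using QuotientGroup.induction_on with
  | H x =>
    rw [← map_commutator_of_surjective (QuotientGroup.mk' ⁅π.ker, (⊤ : Subgroup (FreeGroup ι))⁆)
      (QuotientGroup.mk'_surjective _)]
    exact ⟨x, ker_expSum_le h, rfl⟩

/-- Complements to `M` in `R` exist inside every subgroup `K` supplementing `M`. -/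
theorem exists_complement [Finite ι] (K : Subgroup (CExt π)) (hK : K ≤ (cextHom π).ker)
    (hsup : (cextHom π).ker ≤ K ⊔ mult π) :
    ∃ S : Subgroup (CExt π), S ≤ K ∧ S ⊓ mult π = ⊥ ∧ (cextHom π).ker ≤ S ⊔ mult π := by
  haveI : IsMulCommutative K :=
    ⟨⟨fun a b => Subtype.ext (mem_center_iff.1 (ker_cextHom_le π (hK b.2)) (a : CExt π))⟩⟩
  let f : Additive K →+ (ι →₀ ℤ) :=
    AddMonoidHom.mk' (fun a => Multiplicative.toAdd (cextExp π ((Additive.toMul a : K) : CExt π)))
      fun a b => by simp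
  let fl := f.toIntLinearMap
  obtain ⟨k, ⟨b⟩⟩ := Submodule.nonempty_basis_of_pid (Finsupp.basisSingleOne : Module.Basis ι ℤ (ι →₀ ℤ))
    (LinearMap.range fl)
  haveI : Module.Free ℤ (LinearMap.range fl) := Module.Free.of_basis b
  obtain ⟨s, hs⟩ := Module.projective_lifting_property fl.rangeRestrict LinearMap.id
    fl.surjective_rangeRestrict
  let S : Subgroup (CExt π) :=
    { carrier := {e | ∃ l, ((Additive.toMul (s l) : K) : CExt π) = e}
      one_mem' := ⟨0, by simp⟩
      mul_mem' := by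
        rintro _ _ ⟨a, rfl⟩ ⟨b, rfl⟩
        exact ⟨a + b, by simp⟩
      inv_mem' := by
        rintro _ ⟨a, rfl⟩
        exact ⟨-a, by simp⟩ }
  have hfs : ∀ l, cextExp π ((Additive.toMul (s l) : K) : CExt π) =
      Multiplicative.ofAdd (l : ι →₀ ℤ) := fun l =>
    congrArg (fun y : LinearMap.range fl => Multiplicative.ofAdd (y : ι →₀ ℤ)) (LinearMap.congr_fun hs l)
  refine ⟨S, ?_, ?_, ?_⟩
  · rintro _ ⟨l, rfl⟩; exact SetLike.coe_mem _
  · rw [eq_bot_iff]
    rintro _ ⟨⟨l, rfl⟩, -, hm'⟩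
    have hm : cextExp π ((Additive.toMul (s l) : K) : CExt π) = 1 := (cextExp_eq_one_iff π _).2 hm'
    rw [hfs] at hm
    have : l = 0 := Subtype.ext (Multiplicative.ofAdd.injective hm)
    simp [this]
  · refine hsup.trans (sup_le (fun e he => ?_) le_sup_right)
    let l : LinearMap.range fl := fl.rangeRestrict (Additive.ofMul ⟨e, he⟩)
    have hl : ((Additive.toMul (s l) : K) : CExt π) ∈ S := ⟨l, rfl⟩
    rw [← mul_inv_cancel_left ((Additive.toMul (s l) : K) : CExt π) e]
    refine Subgroup.mul_mem_sup hl (Subgroup.mem_inf.2 ⟨?_, ?_⟩)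
    · exact mul_mem (inv_mem (hK (SetLike.coe_mem _))) (hK he)
    · rw [← cextExp_eq_one_iff, map_mul, map_inv, hfs]
      exact inv_mul_cancel _

theorem exists_cover [Finite ι] [Finite Q] (hπ : Function.Surjective π) :
    ∃ (S : Subgroup (CExt π)) (_ : S.Normal) (σ : CExt π ⧸ S →* Q),
      σ.comp (QuotientGroup.mk' S) = cextHom π ∧ Cfsg.IsStemExtension σ ∧ Finite (CExt π ⧸ S) ∧
        Nonempty (mult π ≃* σ.ker) := by
  obtain ⟨S, hS, hinf, hsup⟩ := exists_complement π (cextHom π).ker le_rfl le_sup_left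
  haveI := normal_of_le_ker S hS
  exact ⟨S, inferInstance, cover_of_complement S hπ hS hinf hsup⟩

/-- `M` is the Schur multiplier, for a presentation in the universe of `Q`. -/
theorem hasSchurMultiplier_mult {ι : Type v} [Finite ι] [Finite Q] (π : FreeGroup ι →* Q)
    (hπ : Function.Surjective π) : Cfsg.HasSchurMultiplier Q (mult π) := by
  obtain ⟨S, hS, σ, -, hσ, hfin, ⟨e⟩⟩ := exists_cover π hπ
  exact ⟨⟨CExt π ⧸ S, inferInstance, hfin, σ, hσ, ⟨e.symm⟩⟩,
    fun Γ _ _ τ hτ => exists_surjective_mult hπ hτ⟩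

theorem freeGroup_lift_id_surjective : Function.Surjective (FreeGroup.lift (id : Q → Q)) :=
  fun q => ⟨FreeGroup.of q, by simp⟩

/-- Every finite group has a Schur multiplier. -/
theorem exists_hasSchurMultiplier (Q : Type v) [Group Q] [Finite Q] :
    ∃ (A : Type v) (_ : CommGroup A) (_ : Finite A), Cfsg.HasSchurMultiplier Q A :=
  ⟨mult (FreeGroup.lift (id : Q → Q)), inferInstance, commGroup_finite_mult _,
    hasSchurMultiplier_mult _ freeGroup_lift_id_surjective⟩

/-- Any two multiplier certificates: the given `A` is `M` of any finite presentation. -/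
theorem mulEquiv_mult {ι : Type v} [Finite ι] [Finite Q] (π : FreeGroup ι →* Q)
    (hπ : Function.Surjective π) {A : Type w} [CommGroup A] (hA : Cfsg.HasSchurMultiplier Q A) :
    Nonempty (mult π ≃* A) :=
  mulEquiv_of_hasSchurMultiplier (hasSchurMultiplier_mult π hπ) hA

/-- The universal map carries `M` isomorphically onto the kernel of every covering group. -/
theorem lift_cover {ι : Type v} [Finite ι] [Finite Q] (π : FreeGroup ι →* Q) (hπ : Function.Surjective π)
    {A : Type w} [CommGroup A] (hA : Cfsg.HasSchurMultiplier Q A) {Γ : Type*} [Group Γ]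
    {σ : Γ →* Q} (h : Cfsg.IsStemExtension σ) (hk : Nonempty (σ.ker ≃* A)) {φ : CExt π →* Γ}
    (hφ : σ.comp φ = cextHom π) :
    φ.ker ≤ (cextHom π).ker ∧ φ.ker ⊓ mult π = ⊥ ∧ (cextHom π).ker ≤ φ.ker ⊔ mult π := by
  obtain ⟨-, hM⟩ := lift_stem hπ h hφ
  obtain ⟨e1⟩ := mulEquiv_mult π hπ hA
  obtain ⟨e2⟩ := hk
  haveI : Finite A := finite_of_hasSchurMultiplier hA
  haveI : Finite (mult π) := Finite.of_equiv _ e1.symm.toEquiv
  haveI : Finite σ.ker := Finite.of_equiv _ e2.symm.toEquiv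
  have hcomp : ∀ e, σ (φ e) = cextHom π e := fun e => DFunLike.congr_fun hφ e
  refine ⟨fun e he => ?_, ?_, fun e he => ?_⟩
  · rw [MonoidHom.mem_ker, ← hcomp, MonoidHom.mem_ker.1 he, map_one]
  · let f : mult π →* σ.ker :=
      (φ.comp (mult π).subtype).codRestrict σ.ker (fun e => hM ▸ ⟨e, e.2, rfl⟩)
    have hsurj : Function.Surjective f := fun z => by
      obtain ⟨e, he, hez⟩ : (z : Γ) ∈ (mult π).map φ := hM.symm ▸ z.2
      exact ⟨⟨e, he⟩, Subtype.ext hez⟩
    have hinj : Function.Injective f :=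
      ((Nat.bijective_iff_surjective_and_card f).2
        ⟨hsurj, by rw [Nat.card_congr e1.toEquiv, Nat.card_congr e2.toEquiv]⟩).1
    rw [eq_bot_iff]
    rintro m ⟨hm1, hm2⟩
    have h0 : f ⟨m, hm2⟩ = f 1 := Subtype.ext (by
      rw [map_one]; exact hm1)
    exact congrArg Subtype.val (hinj h0)
  · obtain ⟨m, hm, hme⟩ : φ e ∈ (mult π).map φ := hM.symm ▸ (show σ (φ e) = 1 by rw [hcomp]; exact he)
    rw [← inv_mul_cancel_right e m]
    refine Subgroup.mul_mem_sup ?_ hm
    rw [MonoidHom.mem_ker, map_mul, map_inv, hme, mul_inv_cancel]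

end Free

end Cfsg.Agent.H74.Schur
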