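import Mathlib

namespace Cfsg.Agent.H74

variable {G : Type*} [Group G]

/-- In a finite group, mapping a subgroup into itself by conjugation is normalizing it. -/
theorem mem_normalizer_of_conj [Finite G] {H : Subgroup G} {g : G}
    (h : ∀ z ∈ H, g * z * g⁻¹ ∈ H) : g ∈ Subgroup.normalizer (H : Set G) := by
  rw [Subgroup.mem_normalizer_iff_map_conj_eq]
  refine Subgroup.eq_of_le_of_card_ge (fun z ⟨w, hw, hwz⟩ => hwz ▸ h w hw) ?_
  rw [Subgroup.card_map_of_injective (MulAut.conj g).injective]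

/-- An element of the normalizer of a cyclic Sylow `p`-subgroup fixing one nontrivial element
centralizes the subgroup. -/
theorem fix_all [Finite G] (p : ℕ) [Fact p.Prime] (P : Sylow p G)
    (hcyc : IsCyclic ↥(P : Subgroup G))
    (g : G) (hN : g ∈ Subgroup.normalizer ((P : Subgroup G) : Set G))
    (x : G) (hx : x ∈ (P : Subgroup G)) (hx1 : x ≠ 1) (hg : g * x = x * g) :
    g ∈ Subgroup.centralizer ((P : Subgroup G) : Set G) := by
  classical
  have hp : p.Prime := Fact.out
  obtain ⟨c, hc⟩ := hcyc.exists_generator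
  have hgc : g * (c : G) * g⁻¹ ∈ (P : Subgroup G) :=
    (Subgroup.mem_normalizer_iff.1 hN c).1 c.2
  obtain ⟨k, hk⟩ := Submonoid.mem_powers_iff _ _ |>.1
    (mem_powers_iff_mem_zpowers.2 (hc ⟨_, hgc⟩))
  replace hk : g * (c : G) * g⁻¹ = (c : G) ^ k := by
    have := congrArg Subtype.val hk
    simpa using this.symm
  obtain ⟨a, ha⟩ := Submonoid.mem_powers_iff _ _ |>.1
    (mem_powers_iff_mem_zpowers.2 (hc ⟨x, hx⟩))
  replace ha : x = (c : G) ^ a := by simpa using (congrArg Subtype.val ha).symm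
  obtain ⟨n, hn⟩ := IsPGroup.iff_orderOf.1 P.isPGroup' c
  rw [Subgroup.orderOf_mk] at *
  have hfix : (c : G) ^ (k * a) = (c : G) ^ a := by
    rw [pow_mul, ← hk, conj_pow, ← ha, hg, mul_inv_cancel_right]
  rw [pow_eq_pow_iff_modEq, hn] at hfix
  have han : ¬ p ^ n ∣ a := by
    intro h
    apply hx1
    rw [ha, orderOf_dvd_iff_pow_eq_one.1 (hn ▸ h)]
  -- k ≡ 1 modulo p
  have hk1 : k ≡ 1 [MOD p] := by
    rw [← Int.natCast_modEq_iff] at hfix ⊢
    rw [Int.modEq_iff_dvd] at hfix ⊢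
    push_cast at hfix ⊢
    by_contra hnd
    apply han
    have hco : IsCoprime ((p : ℤ) ^ n) (1 - k : ℤ) :=
      (((Nat.prime_iff_prime_int.1 hp).coprime_iff_not_dvd).2 hnd).pow_left
    have h2 : (p : ℤ) ^ n ∣ (1 - (k : ℤ)) * a := by
      convert hfix using 1
      ring
    exact_mod_cast hco.dvd_of_dvd_mul_left h2
  have hk2 : k ^ p ^ n ≡ 1 [MOD p ^ n] := by
    rw [← Int.natCast_modEq_iff, Int.modEq_comm, Int.modEq_iff_dvd] at hk1 ⊢
    push_cast at hk1 ⊢
    exact (pow_dvd_pow _ n.le_succ).trans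
      (by simpa using dvd_sub_pow_of_dvd_sub hk1 n)
  -- powers of g act on c through powers of k
  have hpow : ∀ i : ℕ, g ^ i * (c : G) * (g ^ i)⁻¹ = (c : G) ^ k ^ i := by
    intro i
    induction i with
    | zero => simp
    | succ i ih =>
      calc g ^ (i + 1) * (c : G) * (g ^ (i + 1))⁻¹
          = g ^ i * (g * (c : G) * g⁻¹) * (g ^ i)⁻¹ := by rw [pow_succ]; group
        _ = (c : G) ^ k ^ (i + 1) := by rw [hk, ← conj_pow, ih, ← pow_mul, pow_succ]
  have hcent : ∀ u : G, u * (c : G) * u⁻¹ = c →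
      u ∈ Subgroup.centralizer ((P : Subgroup G) : Set G) := by
    intro u hu
    rw [Subgroup.mem_centralizer_iff]
    intro y hy
    obtain ⟨i, hi⟩ := hc ⟨y, hy⟩
    have hi' : (c : G) ^ i = y := by simpa using congrArg Subtype.val hi
    rw [← hi']
    exact ((show Commute u (c : G) from mul_inv_eq_iff_eq_mul.1 hu).zpow_right i).eq.symm
  -- g = (p-part) * (p'-part)
  have hPg : g ^ p ^ n ∈ Subgroup.centralizer ((P : Subgroup G) : Set G) := by
    apply hcent
    rw [hpow]
    nth_rw 2 [← pow_one (c : G)]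
    rw [pow_eq_pow_iff_modEq, hn]
    exact hk2
  set N := Subgroup.normalizer ((P : Subgroup G) : Set G) with hNdef
  set C := Subgroup.centralizer ((P : Subgroup G) : Set G) with hC
  have hPC : (P : Subgroup G) ≤ C := by
    intro y hy
    rw [hC, Subgroup.mem_centralizer_iff]
    intro z hz
    exact congrArg Subtype.val (IsCyclic.commutative.is_comm.comm (⟨z, hz⟩ : P) ⟨y, hy⟩)
  have hCN : C ≤ N := fun u hu => by
    rw [hC, Subgroup.mem_centralizer_iff] at hu
    apply mem_normalizer_of_conj fun z hz => ?_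
    rw [← hu z hz, mul_inv_cancel_right]
    exact hz
  have : (C.subgroupOf N).Normal := by
    refine ⟨fun u hu v => ?_⟩
    rw [Subgroup.mem_subgroupOf, hC, Subgroup.mem_centralizer_iff] at hu ⊢
    intro z hz
    have hz' : (v : G)⁻¹ * z * v ∈ (P : Subgroup G) := by
      simpa using (Subgroup.mem_normalizer_iff.1 (inv_mem v.2) z).1 hz
    have := hu _ hz'
    simp only [Subgroup.coe_mul, Subgroup.coe_inv]
    calc z * ((v : G) * u * (v : G)⁻¹) = v * (((v : G)⁻¹ * z * v) * u) * (v : G)⁻¹ := by group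
      _ = v * (u * ((v : G)⁻¹ * z * v)) * (v : G)⁻¹ := by rw [this]
      _ = (v : G) * u * (v : G)⁻¹ * z := by group
  have hidx : ¬ p ∣ (C.subgroupOf N).index := by
    intro h
    apply P.not_dvd_index
    refine h.trans ?_
    have h1 : C.relIndex N ∣ C.index := Subgroup.relIndex_dvd_index_of_le hCN
    exact h1.trans (Subgroup.index_dvd_of_le hPC)
  set q : N ⧸ C.subgroupOf N := QuotientGroup.mk ⟨g, hN⟩
  have h1 : orderOf q ∣ p ^ n := by
    rw [orderOf_dvd_iff_pow_eq_one, ← QuotientGroup.mk_pow, QuotientGroup.eq_one_iff,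
      Subgroup.mem_subgroupOf]
    simpa using hPg
  have h2 : orderOf q ∣ (C.subgroupOf N).index := orderOf_dvd_natCard q
  have h3 : q = 1 := by
    rw [← orderOf_eq_one_iff]
    exact Nat.eq_one_of_dvd_coprimes
      ((hp.coprime_iff_not_dvd.2 hidx).pow_left n) h1 h2
  rw [QuotientGroup.eq_one_iff, Subgroup.mem_subgroupOf] at h3
  exact h3

/-- Adjoining to a `p`-subgroup an element of its normalizer whose `p`th power lies in it gives a
`p`-subgroup. -/
theorem isPGroup_sup_zpowers (p : ℕ) [Fact p.Prime] (Q : Subgroup G) (hQ : IsPGroup p ↥Q) (x : G)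
    (hx : x ∈ Subgroup.normalizer (Q : Set G)) (hxp : x ^ p ∈ Q) :
    IsPGroup p ↥(Q ⊔ Subgroup.zpowers x) := by
  rintro ⟨z, hz⟩
  rw [← SetLike.mem_coe, Subgroup.coe_mul_of_right_le_normalizer_left _ _ ((Subgroup.zpowers_le).2 hx)] at hz
  obtain ⟨q, hq, _, ⟨i, rfl⟩, rfl⟩ := hz
  have hzp : (q * x ^ i) ^ p ∈ Q := by
    set N := Subgroup.normalizer (Q : Set G)
    let π := QuotientGroup.mk' (Q.subgroupOf N)
    have h : π (⟨q, Subgroup.le_normalizer hq⟩ * ⟨x, hx⟩ ^ i) ^ p = 1 := by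
      have h1 : π ⟨q, Subgroup.le_normalizer hq⟩ = 1 := (QuotientGroup.eq_one_iff _).2 hq
      have h2 : π ⟨x, hx⟩ ^ p = 1 := by
        rw [← map_pow]; exact (QuotientGroup.eq_one_iff _).2 hxp
      rw [map_mul, h1, one_mul, map_zpow, ← zpow_natCast, ← zpow_mul, mul_comm, zpow_mul,
        zpow_natCast, h2, one_zpow]
    rw [← map_pow] at h
    simpa [Subgroup.mem_subgroupOf] using (QuotientGroup.eq_one_iff _).1 h
  obtain ⟨j, hj⟩ := hQ ⟨_, hzp⟩
  refine ⟨j + 1, Subtype.ext ?_⟩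
  have := congrArg Subtype.val hj
  simp only [Subgroup.coe_pow, Subgroup.coe_one] at this ⊢
  rw [pow_succ', pow_mul]
  exact this

end Cfsg.Agent.H74
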