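import Cfsg.Prelude.Def_LieExceptional
import Cfsg.Agent.Cores.PCore
import Cfsg.Agent.Hall.MinimalNormal
import Cfsg.Agent.OddOrder.CN.Theorem
import Cfsg.Agent.H61.CoreClosure
import Mathlib

/-!
Non-solvable groups all of whose elements have prime power order.
-/

namespace Cfsg.Agent.H74.EPPO

open Subgroup

variable {G : Type*} [Group G]

/-- Commuting elements have orders powers of the same prime. -/
theorem prime_eq [Finite G] (hpp : ∀ g : G, g ≠ 1 → IsPrimePow (orderOf g)) {x y : G}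
    (hxy : Commute x y) {r s : ℕ} (hr : r.Prime) (hs : s.Prime) (hx : orderOf x = r)
    (hy : orderOf y = s) : r = s := by
  by_contra hne
  have hord : orderOf (x * y) = r * s := by
    rw [hxy.orderOf_mul_eq_mul_orderOf_of_coprime (by
      rw [hx, hy]; exact (Nat.coprime_primes hr hs).2 hne), hx, hy]
  have h1 : x * y ≠ 1 := fun h => by
    rw [h, orderOf_one] at hord
    exact hr.ne_one (Nat.eq_one_of_mul_eq_one_right hord.symm)
  obtain ⟨q, m, hq, -, hm⟩ := (isPrimePow_nat_iff _).1 (hord ▸ hpp _ h1)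
  have e1 := (Nat.prime_dvd_prime_iff_eq hr hq).1 (hr.dvd_of_dvd_pow (hm ▸ dvd_mul_right r s))
  have e2 := (Nat.prime_dvd_prime_iff_eq hs hq).1 (hs.dvd_of_dvd_pow (hm ▸ dvd_mul_left s r))
  exact hne (e1.trans e2.symm)

theorem isPGroup_of_forall_prime [Finite G] {p : ℕ} [Fact p.Prime] {H : Subgroup G}
    (h : ∀ r : ℕ, r.Prime → r ∣ Nat.card H → r = p) : IsPGroup p H := by
  rw [IsPGroup.iff_orderOf]
  intro g
  refine ⟨(orderOf g).primeFactorsList.length,
    Nat.eq_prime_pow_of_unique_prime_dvd (orderOf_pos g).ne' fun {d} hd hdg => ?_⟩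
  exact h d hd (hdg.trans (orderOf_dvd_natCard g))

/-- The centraliser of an element of order `p` is a `p`-group. -/
theorem isPGroup_centralizer [Finite G] (hpp : ∀ g : G, g ≠ 1 → IsPrimePow (orderOf g)) {p : ℕ}
    (hp : p.Prime) {x : G} (hx : orderOf x = p) : IsPGroup p (centralizer ({x} : Set G)) := by
  haveI : Fact p.Prime := ⟨hp⟩
  refine isPGroup_of_forall_prime fun r hr hrc => ?_
  haveI : Fact r.Prime := ⟨hr⟩
  obtain ⟨y, hy⟩ := exists_prime_orderOf_dvd_card' r hrc
  exact prime_eq hpp (mem_centralizer_singleton_iff.1 y.2) hr hp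
    (by rw [Subgroup.orderOf_coe]; exact hy) hx

theorem eppo_quotient [Finite G] (hpp : ∀ g : G, g ≠ 1 → IsPrimePow (orderOf g)) (N : Subgroup G)
    [N.Normal] (q : G ⧸ N) (hq : q ≠ 1) : IsPrimePow (orderOf q) := by
  obtain ⟨g, rfl⟩ := QuotientGroup.mk_surjective q
  exact (hpp g fun h => hq (by rw [h]; rfl)).dvd (orderOf_map_dvd (QuotientGroup.mk' N) g)
    fun h => hq (orderOf_eq_one_iff.1 h)

theorem isSolvable_of_quotient (N : Subgroup G) [N.Normal] (hN : Group.IsSolvable N)
    (hQ : Group.IsSolvable (G ⧸ N)) : Group.IsSolvable G := by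
  haveI := hN
  haveI := hQ
  exact solvable_of_ker_le_range N.subtype (QuotientGroup.mk' N) (by simp)

theorem isSolvable_of_isPGroup [Finite G] {p : ℕ} [Fact p.Prime] (h : IsPGroup p G) :
    Group.IsSolvable G := by
  haveI := h.isNilpotent
  infer_instance

/-- Groups with prime power element orders of odd order are solvable (the CN theorem). -/
theorem isSolvable_of_odd [Finite G] (hpp : ∀ g : G, g ≠ 1 → IsPrimePow (orderOf g))
    (hodd : Odd (Nat.card G)) : Group.IsSolvable G := by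
  refine OddOrder.CN.isSolvable_of_cn _ G le_rfl hodd fun g hg => ?_
  obtain ⟨p, hp⟩ := Nat.exists_prime_and_dvd (orderOf_eq_one_iff.not.2 hg)
  haveI : Fact p.Prime := ⟨hp.1⟩
  have hpx : orderOf (g ^ (orderOf g / p)) = p := orderOf_pow_orderOf_div (orderOf_pos g).ne' hp.2
  have hle : centralizer ({g} : Set G) ≤ centralizer ({g ^ (orderOf g / p)} : Set G) := fun y hy => by
    rw [mem_centralizer_singleton_iff] at hy ⊢
    exact (show Commute y g from hy).pow_right _
  exact (IsPGroup.to_le (isPGroup_centralizer hpp hp.1 hpx) hle).isNilpotent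

/-- No nontrivial normal `p`-subgroup for odd `p`. -/
theorem eq_bot_of_odd [Finite G] (hns : ¬ Group.IsSolvable G)
    (hpp : ∀ g : G, g ≠ 1 → IsPrimePow (orderOf g)) {p : ℕ} (hp : p.Prime) (hp2 : p ≠ 2)
    (P : Subgroup G) [P.Normal] (hP : IsPGroup p P) : P = ⊥ := by
  haveI : Fact p.Prime := ⟨hp⟩
  haveI : Fact (Nat.Prime 2) := ⟨Nat.prime_two⟩
  by_contra hne
  set A : Subgroup G := (center P).map P.subtype with hA
  haveI : A.Normal := inferInstance
  haveI : Nontrivial P := (Subgroup.nontrivial_iff_ne_bot P).2 hne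
  have hAne : A ≠ ⊥ := by
    rw [hA, Ne, Subgroup.map_eq_bot_iff_of_injective _ P.subtype_injective]
    exact (Subgroup.nontrivial_iff_ne_bot _).1 hP.center_nontrivial
  have hAP : IsPGroup p A := (hP.to_subgroup _).map _
  haveI : Nontrivial A := (Subgroup.nontrivial_iff_ne_bot A).2 hAne
  obtain ⟨n, hn, hcard⟩ := hAP.nontrivial_iff_card.1 inferInstance
  obtain ⟨z, hz⟩ := exists_prime_orderOf_dvd_card' p (hcard ▸ dvd_pow_self p hn.ne' : p ∣ Nat.card A)
  set K := centralizer (A : Set G) with hK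
  haveI : K.Normal := inferInstance
  have hKp : IsPGroup p K := by
    refine IsPGroup.to_le (isPGroup_centralizer hpp hp (x := (z : G))
      (by rw [Subgroup.orderOf_coe]; exact hz)) fun y hy => ?_
    rw [mem_centralizer_singleton_iff]
    exact ((mem_centralizer_iff.1 hy) z z.2).symm
  have h2 : 2 ∣ Nat.card G := by
    by_contra h
    exact hns (isSolvable_of_odd hpp (Nat.odd_iff.2 (Nat.two_dvd_ne_zero.1 h)))
  obtain ⟨t, ht⟩ := exists_prime_orderOf_dvd_card' 2 h2
  have hAc : ∀ a ∈ A, ∀ b ∈ A, a * b = b * a := by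
    rintro _ ⟨a, ha, rfl⟩ _ ⟨b, -, rfl⟩
    exact congrArg Subtype.val (mem_center_iff.1 ha b).symm
  have hinv : ∀ g : G, orderOf g = 2 → ∀ a ∈ A, g * a * g⁻¹ = a⁻¹ := by
    intro g hg
    refine H61.inverts_of_fpf (by rw [← hg, pow_orderOf_eq_one])
      (fun d hd => Subgroup.Normal.conj_mem ‹A.Normal› d hd g) fun d hd hc => ?_
    by_contra hd1
    obtain ⟨k, hk⟩ := IsPGroup.iff_orderOf.1 hAP ⟨d, hd⟩
    rw [Subgroup.orderOf_mk] at hk
    have hk0 : k ≠ 0 := fun h => hd1 (orderOf_eq_one_iff.1 (by rw [hk, h, pow_zero]))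
    have hpx : orderOf (d ^ (orderOf d / p)) = p :=
      orderOf_pow_orderOf_div (orderOf_pos d).ne' (hk ▸ dvd_pow_self p hk0)
    exact hp2 (prime_eq hpp (hc.pow_right _) Nat.prime_two hp hg hpx).symm
  have hcomm : ∀ g : G, g * t * g⁻¹ * t⁻¹ ∈ K := by
    intro g
    rw [hK, mem_centralizer_iff]
    intro a ha
    have h1 := hinv _ ht a⁻¹ (inv_mem ha)
    have hord : orderOf (g * t * g⁻¹) = 2 := by
      rw [← ht]; exact (MulAut.conj g).orderOf_eq t
    have h2 := hinv _ hord a ha
    rw [inv_inv] at h1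
    have h3 : t⁻¹ * a * t = a⁻¹ := by
      calc t⁻¹ * a * t = t⁻¹ * (t * a⁻¹ * t⁻¹) * t := by rw [h1]
        _ = a⁻¹ := by group
    have h4 : g * t * g⁻¹ * t⁻¹ * a * (g * t * g⁻¹ * t⁻¹)⁻¹ = a := by
      calc g * t * g⁻¹ * t⁻¹ * a * (g * t * g⁻¹ * t⁻¹)⁻¹
          = (g * t * g⁻¹) * (t⁻¹ * a * t) * (g * t * g⁻¹)⁻¹ := by group
        _ = a := by rw [h3, hinv _ hord a⁻¹ (inv_mem ha), inv_inv]
    exact (mul_inv_eq_iff_eq_mul.1 h4).symm
  have htK : t ∉ K := fun h => by
    obtain ⟨k, hk⟩ := IsPGroup.iff_orderOf.1 hKp ⟨t, h⟩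
    rw [Subgroup.orderOf_mk, ht] at hk
    exact hp2 ((Nat.prime_dvd_prime_iff_eq Nat.prime_two hp).1
      (Nat.prime_two.dvd_of_dvd_pow (dvd_of_eq hk))).symm
  have hq2 : IsPGroup 2 (G ⧸ K) := by
    have h : IsPGroup 2 (⊤ : Subgroup (G ⧸ K)) := by
      refine isPGroup_of_forall_prime fun r hr hrc => ?_
      rw [Subgroup.card_top] at hrc
      haveI : Fact r.Prime := ⟨hr⟩
      obtain ⟨q, hq⟩ := exists_prime_orderOf_dvd_card' r hrc
      have htc : Commute (QuotientGroup.mk' K t) q := by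
        obtain ⟨g, rfl⟩ := QuotientGroup.mk'_surjective K q
        have h0 : QuotientGroup.mk' K (g * t) = QuotientGroup.mk' K (t * g) := by
          rw [show g * t = (g * t * g⁻¹ * t⁻¹) * (t * g) by group, map_mul,
            show QuotientGroup.mk' K (g * t * g⁻¹ * t⁻¹) = 1 from (QuotientGroup.eq_one_iff _).2 (hcomm g),
            one_mul]
        rw [map_mul, map_mul] at h0
        exact h0.symm
      refine prime_eq (eppo_quotient hpp K) htc.symm hr Nat.prime_two hq ?_
      refine orderOf_eq_prime ?_ fun h => htK ((QuotientGroup.eq_one_iff t).1 h)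
      rw [← map_pow, ← ht, pow_orderOf_eq_one, map_one]
    exact h.of_equiv Subgroup.topEquiv
  exact hns (isSolvable_of_quotient K (isSolvable_of_isPGroup hKp) (isSolvable_of_isPGroup hq2))

/-- A nontrivial normal solvable subgroup meets some `p`-core. -/
theorem pCore_ne_bot_of_solvable [Finite G] (N : Subgroup G) [N.Normal] (hN : N ≠ ⊥)
    (hs : Group.IsSolvable N) : ∃ p : ℕ, p.Prime ∧ Cfsg.pCore p G ≠ ⊥ := by
  obtain ⟨M, hMn, hM, hMN, hmin⟩ := Hall.exists_minimal_normal_le N hN
  haveI := hs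
  have hMs : Group.IsSolvable M := solvable_of_solvable_injective (Subgroup.inclusion_injective hMN)
  obtain ⟨-, p, hp, hMp, -⟩ := Hall.minimal_normal_elementary hM hmin hMs
  exact ⟨p, hp, fun h => hM (le_bot_iff.1 (h ▸ Cores.le_pCore hMp))⟩

/-- The solvable radical is a `2`-group. -/
theorem isPGroup_two_of_solvable [Finite G] (hns : ¬ Group.IsSolvable G)
    (hpp : ∀ g : G, g ≠ 1 → IsPrimePow (orderOf g)) (R : Subgroup G) [R.Normal]
    (hR : Group.IsSolvable R) : IsPGroup 2 R := by
  haveI : Fact (Nat.Prime 2) := ⟨Nat.prime_two⟩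
  set T := Cfsg.pCore 2 G
  haveI : T.Normal := Cfsg.pCore_normal 2 G
  refine IsPGroup.to_le (Cores.pCore_isPGroup (p := 2)) ?_
  by_contra hle
  set Rb := R.map (QuotientGroup.mk' T) with hRb
  haveI : Rb.Normal := Subgroup.Normal.map ‹_› _ (QuotientGroup.mk'_surjective T)
  have hne : Rb ≠ ⊥ := by
    rw [hRb, Ne, Subgroup.map_eq_bot_iff, QuotientGroup.ker_mk']
    exact hle
  haveI := hR
  have hRbs : Group.IsSolvable Rb :=
    solvable_of_surjective (f := (QuotientGroup.mk' T).subgroupMap R)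
      ((QuotientGroup.mk' T).subgroupMap_surjective R)
  obtain ⟨p, hp, hpne⟩ := pCore_ne_bot_of_solvable Rb hne hRbs
  rcases eq_or_ne p 2 with rfl | hp2
  · exact hpne (Cores.pCore_quotient_pCore (p := 2) (G := G))
  · have hnsT : ¬ Group.IsSolvable (G ⧸ T) := fun h =>
      hns (isSolvable_of_quotient T (isSolvable_of_isPGroup (Cores.pCore_isPGroup (p := 2))) h)
    haveI := Cfsg.pCore_normal p (G ⧸ T)
    exact hpne (eq_bot_of_odd hnsT (eppo_quotient hpp T) hp hp2 _ Cores.pCore_isPGroup)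

/-- An element-wise commuting pair of nontrivial subgroups, one not a `p`-group. -/
theorem false_of_commute [Finite G] (hpp : ∀ g : G, g ≠ 1 → IsPrimePow (orderOf g))
    (A B : Subgroup G) (hB : B ≠ ⊥) (hA : ∀ p : ℕ, p.Prime → ¬ IsPGroup p A)
    (hc : ∀ a ∈ A, ∀ b ∈ B, Commute a b) : False := by
  obtain ⟨s, hs, hsB⟩ := Nat.exists_prime_and_dvd (fun h => hB (Subgroup.card_eq_one.1 h))
  haveI : Fact s.Prime := ⟨hs⟩
  obtain ⟨b, hb⟩ := exists_prime_orderOf_dvd_card' s hsB
  refine hA s hs (isPGroup_of_forall_prime fun r hr hrA => ?_)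
  haveI : Fact r.Prime := ⟨hr⟩
  obtain ⟨a, ha⟩ := exists_prime_orderOf_dvd_card' r hrA
  exact prime_eq hpp (hc a a.2 b b.2) hr hs (by rw [Subgroup.orderOf_coe]; exact ha)
    (by rw [Subgroup.orderOf_coe]; exact hb)

/-- With trivial solvable radical there is a unique minimal normal subgroup, which is simple. -/
theorem exists_simple_minimal [Finite G] [Nontrivial G]
    (hpp : ∀ g : G, g ≠ 1 → IsPrimePow (orderOf g))
    (hrad : ∀ N : Subgroup G, N.Normal → Group.IsSolvable N → N = ⊥) :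
    ∃ M : Subgroup G, M.Normal ∧ IsSimpleGroup M ∧ ¬ IsMulCommutative M ∧
      ∀ N : Subgroup G, N.Normal → N ≠ ⊥ → M ≤ N := by
  obtain ⟨M, hMn, hM, -, hmin⟩ := Hall.exists_minimal_normal_le (G := G) ⊤ top_ne_bot
  have hnp : ∀ N : Subgroup G, N.Normal → N ≠ ⊥ → ∀ p : ℕ, p.Prime → ¬ IsPGroup p N :=
    fun N hN hne p hp h => by
      haveI : Fact p.Prime := ⟨hp⟩
      exact hne (hrad N hN (isSolvable_of_isPGroup h))
  haveI := hMn
  haveI : Nontrivial M := (Subgroup.nontrivial_iff_ne_bot M).2 hM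
  refine ⟨M, hMn, ?_, fun hc => hM (hrad M hMn (Group.isSolvable_of_comm fun a b => hc.is_comm.comm a b)), fun N hN hne => ?_⟩
  · refine { exists_pair_ne := exists_pair_ne M, eq_bot_or_eq_top_of_normal := fun K hK => ?_ }
    rw [or_iff_not_imp_left]
    intro hKne
    haveI := hK
    obtain ⟨L, hLn, hL, hLK, hLmin⟩ := Hall.exists_minimal_normal_le (G := M) K hKne
    suffices h : L = ⊤ from top_le_iff.1 (h ▸ hLK)
    haveI := hLn
    have hconj : ∀ g : G, L.map (MulAut.conjNormal (H := M) g).toMonoidHom = L := by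
      intro g
      set e := MulAut.conjNormal (H := M) g
      set J := L.map e.toMonoidHom with hJ
      haveI : J.Normal := Subgroup.Normal.map hLn _ e.surjective
      by_contra hne
      rcases hLmin (J ⊓ L) inferInstance inf_le_right with h | h
      · have hLnp : ∀ p : ℕ, p.Prime → ¬ IsPGroup p (L.map M.subtype) := fun p hp hLp => by
          haveI : Fact p.Prime := ⟨hp⟩
          have hLp' : IsPGroup p L :=
            hLp.of_equiv (L.equivMapOfInjective _ M.subtype_injective).symm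
          haveI := Cfsg.pCore_normal p M
          refine hnp ((Cfsg.pCore p M).map M.subtype) inferInstance ?_ p hp (Cores.pCore_isPGroup.map _)
          rw [Ne, Subgroup.map_eq_bot_iff_of_injective _ M.subtype_injective]
          exact fun hb => hL (le_bot_iff.1 (hb ▸ Cores.le_pCore hLp'))
        refine false_of_commute hpp (L.map M.subtype) (J.map M.subtype) ?_ hLnp ?_
        · rw [Ne, Subgroup.map_eq_bot_iff_of_injective _ M.subtype_injective, hJ,
            Subgroup.map_eq_bot_iff_of_injective L (f := e.toMonoidHom) e.injective]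
          exact hL
        · rintro _ ⟨a, ha, rfl⟩ _ ⟨b, hb, rfl⟩
          exact (Subgroup.commute_of_normal_of_disjoint L J hLn inferInstance
            (disjoint_iff.2 (inf_comm J L ▸ h)) a b ha hb).map M.subtype
      · refine hne (Subgroup.eq_of_le_of_card_ge (inf_eq_right.1 h) ?_).symm
        rw [hJ, Subgroup.card_map_of_injective (f := e.toMonoidHom) e.injective]
    haveI : (L.map M.subtype).Normal := ⟨fun x hx g => by
      obtain ⟨l, hl, rfl⟩ := hx
      exact ⟨MulAut.conjNormal g l, (hconj g).le ⟨l, hl, rfl⟩, rfl⟩⟩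
    rcases hmin (L.map M.subtype) inferInstance (Subgroup.map_subtype_le L) with h | h
    · exact absurd ((Subgroup.map_eq_bot_iff_of_injective _ M.subtype_injective).1 h) hL
    · refine Subgroup.map_injective M.subtype_injective ?_
      rw [h, ← MonoidHom.range_eq_map, Subgroup.range_subtype]
  · haveI := hN
    rcases hmin (N ⊓ M) inferInstance inf_le_right with h | h
    · exact (false_of_commute hpp M N hne (hnp M hMn hM) fun a ha b hb =>
        Subgroup.commute_of_normal_of_disjoint M N hMn hN (disjoint_iff.2 (inf_comm N M ▸ h)) a b ha hb).elim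
    · exact inf_eq_right.1 h

end Cfsg.Agent.H74.EPPO
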