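import Cfsg.Agent.H38.St.Lift
import Cfsg.Agent.H38.St.LiftData
import Cfsg.Agent.H38.St.Coprime
import Cfsg.Agent.H38.St.Symbols
import Cfsg.Agent.H38.St.CentreData
import Cfsg.Agent.H74.SchurPerfect
import Cfsg.Agent.Linear.Mult.CentralQuot

/-!
Multipliers of the tabulated Chevalley groups from the splitting of central extensions of
Steinberg's cover.
-/

set_option autoImplicit false

namespace Cfsg.Agent.H74.ChevMult

open Cfsg.Lie Cfsg.Lie.ChevalleyDatum Cfsg.Agent.Chevalley Cfsg.Agent.H38.St

universe u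

variable {D : ChevalleyDatum} {K : Type u} [Field K]

/-- every central extension of Steinberg's cover splits -/
def Splits (D : ChevalleyDatum) (K : Type u) [Field K] : Prop :=
  ∀ (P : Type u) [Group P] (X : CExt P (D.SteinbergCover K)),
    ∃ f : D.SteinbergCover K →* P, ∀ x, X.p (f x) = x

theorem exists_finset_of_card [Fintype K] (h : 4 < Fintype.card K) :
    ∃ s : Finset K, 4 < s.card := ⟨Finset.univ, by simpa using h⟩

theorem perfect_cover_of_large (C : Cert D) (hA : Adj D) (hK : ∃ s : Finset K, 4 < s.card)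
    (hL : LiftOK D) : commutator (D.SteinbergCover K) = ⊤ := by
  obtain ⟨T⟩ := exists_scalers C hA hK hL
  refine sc_gen _ fun r hr t => ?_
  have hne : (T.e r r : K) - 1 ≠ 0 := sub_ne_zero.2 (T.ne r hr)
  set v := t / ((T.e r r : K) - 1)
  have e : D.scGen K r t = T.g r * D.scGen K r v * (T.g r)⁻¹ * (D.scGen K r v)⁻¹ := by
    rw [T.scl r hr r hr, eq_mul_inv_iff_mul_eq, sc_add hr]
    congr 1
    simp only [v]
    field_simp
    ring
  rw [e]
  exact Subgroup.commutator_mem_commutator (Subgroup.mem_top _) (Subgroup.mem_top _)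

theorem splits_of_large (C : Cert D) (hA : Adj D) (hK : ∃ s : Finset K, 4 < s.card)
    (hL : LiftOK D) : Splits D K := by
  intro P _ X
  obtain ⟨T⟩ := exists_scalers C hA hK hL
  exact T.exists_section X C hA hK hL

/-- The Steinberg group has trivial multiplier once all central extensions of the cover split. -/
theorem steinberg_trivial [Finite K] (Q : H37.Chev.Data D K) (hrel : RelOK Q.K Q.X.M) (hA : Adj D)
    (hperf : commutator (D.SteinbergCover K) = ⊤) (hsp : Splits D K) :
    Finite (D.SteinbergGroup K) ∧ Group.IsPerfect (D.SteinbergGroup K) ∧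
      Cfsg.HasCyclicSchurMultiplier (D.SteinbergGroup K) 1 := by
  obtain ⟨e, -⟩ := cover_equiv Q hrel hA
  have := finite_cover Q hrel hA hperf
  have hfin : Finite (D.SteinbergGroup K) := Finite.of_equiv _ e.toEquiv
  have hp : Group.IsPerfect (D.SteinbergGroup K) := by
    refine Schur.isPerfect_iff.2 ?_
    rw [← Subgroup.map_top_of_surjective e.toMonoidHom e.surjective, ← hperf]
    exact (Schur.map_commutator_of_surjective e.toMonoidHom e.surjective).symm
  refine ⟨hfin, hp, (Schur.universal_iff hp (MonoidHom.id _) Function.surjective_id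
    (fun x hx => by rw [show x = 1 from hx]; exact one_mem _)).1 ?_⟩
  intro P _ ξ hξ hc
  let X : CExt P (D.SteinbergCover K) :=
    ⟨e.symm.toMonoidHom.comp ξ, e.symm.surjective.comp hξ, fun z hz =>
      hc (e.symm.injective (hz.trans (map_one e.symm).symm))⟩
  obtain ⟨f, hf⟩ := hsp P X
  refine ⟨f.comp e.symm.toMonoidHom, MonoidHom.ext fun x => ?_⟩
  exact e.symm.injective (hf (e.symm x))

/-- The multiplier of the Chevalley group is the centre of the Steinberg group. -/
theorem group_multiplier [Finite K] (Q : H37.Chev.Data D K) (hrel : RelOK Q.K Q.X.M) (hA : Adj D)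
    (hfin : Finite (D.SteinbergGroup K)) (hp : Group.IsPerfect (D.SteinbergGroup K))
    (h1 : Cfsg.HasCyclicSchurMultiplier (D.SteinbergGroup K) 1) {k : ℕ}
    (hk : Nat.card (Subgroup.center (D.SteinbergGroup K)) = k) (hk' : k = 1 ∨ k.Prime) :
    Cfsg.HasCyclicSchurMultiplier ↥(D.group K) k := by
  obtain ⟨θ, hs, hker, -⟩ := steinberg Q hrel hA
  refine Linear.Mult.hasCyclicSchurMultiplier_of_cover hp h1 θ hs hker.le ?_ (by rw [hker, hk])
  rcases hk' with rfl | hk'
  · have : Subsingleton θ.ker := by
      rw [hker]; exact (Nat.card_eq_one_iff_unique.1 hk).1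
    infer_instance
  · have : Fact k.Prime := ⟨hk'⟩
    exact isCyclic_of_prime_card (p := k) (by rw [hker, hk])

theorem gcd_cases {p m : ℕ} (hp : p.Prime) : Nat.gcd p m = 1 ∨ (Nat.gcd p m).Prime := by
  rcases (Nat.dvd_prime hp).1 (Nat.gcd_dvd_left p m) with h | h
  · exact Or.inl h
  · exact Or.inr (by rw [h]; exact hp)

end Cfsg.Agent.H74.ChevMult
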