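import Cfsg.Prelude.Def_KGroupFacts
import Mathlib.Algebra.Group.Prod
import Mathlib.Data.Finite.Prod
import Mathlib.Algebra.Group.MinimalAxioms
import Mathlib.GroupTheory.Abelianization.Defs
import Mathlib.Tactic.Group

/-!
Central extensions by normalised 2-cocycles.
-/

namespace Cfsg.Agent.H74

universe u v

/-- A normalised 2-cocycle with values in a trivial module. -/
structure Coc (Q : Type u) [Group Q] (A : Type v) [CommGroup A] where
  /-- the function -/
  f : Q → Q → A
  one_left : ∀ x, f 1 x = 1
  one_right : ∀ x, f x 1 = 1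
  cocycle : ∀ x y z, f x y * f (x * y) z = f y z * f x (y * z)

namespace Coc

variable {Q : Type u} [Group Q] {A : Type v} [CommGroup A]

/-- The cocycle of a bimultiplicative pairing. -/
def ofBil (β : Q →* Q →* A) : Coc Q A where
  f x y := β x y
  one_left x := by simp
  one_right x := by simp
  cocycle x y z := by
    simp only [map_mul, MonoidHom.mul_apply]
    simp [mul_comm, mul_left_comm]

/-- The extension group of a cocycle. -/
@[ext]
structure Ext (c : Coc Q A) where
  /-- central coordinate -/
  cen : A
  /-- quotient coordinate -/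
  base : Q

variable (c : Coc Q A)

instance : Mul (Ext c) := ⟨fun p q => ⟨p.cen * q.cen * c.f p.base q.base, p.base * q.base⟩⟩
instance : One (Ext c) := ⟨⟨1, 1⟩⟩
instance : Inv (Ext c) := ⟨fun p => ⟨p.cen⁻¹ * (c.f p.base⁻¹ p.base)⁻¹, p.base⁻¹⟩⟩

@[simp] theorem mul_cen (p q : Ext c) : (p * q).cen = p.cen * q.cen * c.f p.base q.base := rfl
@[simp] theorem mul_base (p q : Ext c) : (p * q).base = p.base * q.base := rfl
@[simp] theorem one_cen : (1 : Ext c).cen = 1 := rfl
@[simp] theorem one_base : (1 : Ext c).base = 1 := rfl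

instance instGroupExt : Group (Ext c) :=
  Group.ofLeftAxioms
    (fun p q r => Ext.ext (by
      simp only [mul_cen, mul_base]
      have h := c.cocycle p.base q.base r.base
      calc p.cen * q.cen * c.f p.base q.base * r.cen * c.f (p.base * q.base) r.base
          = p.cen * q.cen * r.cen * (c.f p.base q.base * c.f (p.base * q.base) r.base) := by ac_rfl
        _ = p.cen * q.cen * r.cen * (c.f q.base r.base * c.f p.base (q.base * r.base)) := by rw [h]
        _ = _ := by ac_rfl) (mul_assoc _ _ _))
    (fun p => Ext.ext (by simp [c.one_left]) (one_mul _))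
    (fun p => Ext.ext (by
      show p.cen⁻¹ * (c.f p.base⁻¹ p.base)⁻¹ * p.cen * c.f p.base⁻¹ p.base = 1
      simp [mul_comm, mul_left_comm]) (inv_mul_cancel _))

/-- Projection to the base. -/
def proj : Ext c →* Q where
  toFun p := p.base
  map_one' := rfl
  map_mul' _ _ := rfl

/-- The central embedding. -/
def inc : A →* Ext c where
  toFun a := ⟨a, 1⟩
  map_one' := rfl
  map_mul' a b := Ext.ext (by simp [c.one_left]) (by simp)

theorem proj_surjective : Function.Surjective c.proj := fun x => ⟨⟨1, x⟩, rfl⟩

theorem inc_injective : Function.Injective c.inc := fun _ _ h => congrArg Ext.cen h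

theorem mem_ker_iff (p : Ext c) : p ∈ c.proj.ker ↔ p ∈ c.inc.range :=
  ⟨fun h => ⟨p.cen, Ext.ext rfl (show (1 : Q) = p.base from (show p.base = 1 from h).symm)⟩,
    fun ⟨_, h⟩ => h ▸ rfl⟩

theorem ker_proj : c.proj.ker = c.inc.range := Subgroup.ext (c.mem_ker_iff)

theorem range_inc_le_center : c.inc.range ≤ Subgroup.center (Ext c) := by
  rintro _ ⟨a, rfl⟩
  rw [Subgroup.mem_center_iff]
  intro g
  ext
  · simp [inc, c.one_left, c.one_right, mul_comm]
  · simp [inc]

/-- The kernel is a copy of `A`. -/
noncomputable def kerEquiv : c.proj.ker ≃* A :=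
  (MulEquiv.subgroupCongr c.ker_proj).trans (MonoidHom.ofInjective c.inc_injective).symm

theorem finite_ext [Finite Q] [Finite A] : Finite (Ext c) :=
  Finite.of_injective (fun p => (p.cen, p.base)) fun p q h =>
    Ext.ext (congrArg Prod.fst h) (congrArg Prod.snd h)

/-- The commutator of two lifts of commuting elements. -/
theorem inc_mem_commutator (x y : Q) (h : x * y = y * x) :
    c.inc (c.f x y / c.f y x) ∈ commutator (Ext c) := by
  let p : Ext c := ⟨1, x⟩
  let q : Ext c := ⟨1, y⟩
  have e : c.inc (c.f x y / c.f y x) * (q * p) = p * q := by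
    ext
    · simp [inc, p, q, c.one_left, div_eq_mul_inv]
    · simpa [inc, p, q] using h.symm
  rw [eq_mul_inv_of_mul_eq e, show p * q * (q * p)⁻¹ = p * q * p⁻¹ * q⁻¹ by group]
  exact Subgroup.commutator_mem_commutator (Subgroup.mem_top p) (Subgroup.mem_top q)

/-- Stem extension criterion. -/
theorem isStemExtension (hcomm : ∀ a : A, c.inc a ∈ commutator (Ext c)) :
    Cfsg.IsStemExtension c.proj := by
  refine ⟨c.proj_surjective, ?_, ?_⟩
  · rw [c.ker_proj]; exact c.range_inc_le_center
  · rw [c.ker_proj]
    rintro _ ⟨a, rfl⟩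
    exact hcomm a

end Coc

end Cfsg.Agent.H74
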