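import Cfsg.Agent.H74.OrderTypeTower
import Cfsg.Agent.Hall.MinimalNormal
import Cfsg.Agent.Frobenius.Sylow
import Cfsg.Agent.S0144
import Mathlib.GroupTheory.SchurZassenhaus
import Mathlib.Data.Nat.Prime.Factorial

/-!
Solvable Frobenius complements have normal Hall subgroups for the primes `≥ k`, for every `k ≥ 5`.
-/

namespace Cfsg.Agent.H74.Complement

open Subgroup
open scoped IsMulCommutative

/-- Every 2-subgroup is generated by two elements and other `p`-subgroups are cyclic. -/
def SmallSylows (G : Type*) [Group G] : Prop :=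
  ∀ p : ℕ, p.Prime → ∀ W : Subgroup G, IsPGroup p W →
    (∃ a b : G, W = closure {a, b}) ∧ (p ≠ 2 → ∃ a : G, W = zpowers a)

theorem SmallSylows.of_surjective {G H : Type*} [Group G] [Group H] [Finite G]
    (h : SmallSylows G) (f : G →* H) (hf : Function.Surjective f) : SmallSylows H := by
  intro p hp W hW
  haveI : Fact p.Prime := ⟨hp⟩
  haveI : Finite H := Finite.of_surjective f hf
  obtain ⟨S⟩ : Nonempty (Sylow p (W.comap f)) := inferInstance
  have hmap : (((S : Subgroup (W.comap f)).map (W.comap f).subtype).map f) = W := by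
    let S' : Subgroup G := (S : Subgroup (W.comap f)).map (W.comap f).subtype
    have hle : S'.map f ≤ W := map_le_iff_le_comap.2 (map_subtype_le _)
    let f' : W.comap f →* W := f.subgroupComap W
    have hf' : Function.Surjective f' := by
      rintro ⟨w, hw⟩
      obtain ⟨g, rfl⟩ := hf w
      exact ⟨⟨g, hw⟩, rfl⟩
    have hnd : ¬ p ∣ ((S : Subgroup (W.comap f)).map f').index := fun hd =>
      S.not_dvd_index (hd.trans (Subgroup.index_map_dvd _ hf'))
    obtain ⟨i, hi⟩ := hW.exists_card_eq
    have h1 : ((S : Subgroup (W.comap f)).map f').index = 1 := by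
      obtain ⟨j, -, hj⟩ := (Nat.dvd_prime_pow hp).1 (hi ▸ Subgroup.index_dvd_card
        ((S : Subgroup (W.comap f)).map f'))
      rcases j with _ | j
      · simpa using hj
      · exact absurd (hj ▸ dvd_pow_self p (Nat.succ_ne_zero j)) hnd
    refine le_antisymm hle fun w hw => ?_
    obtain ⟨s, hs, hsw⟩ : (⟨w, hw⟩ : W) ∈ (S : Subgroup (W.comap f)).map f' :=
      (Subgroup.index_eq_one.1 h1) ▸ mem_top _
    exact ⟨(s : G), ⟨s, hs, rfl⟩, congrArg Subtype.val hsw⟩
  obtain ⟨⟨a, b, hab⟩, hc⟩ := h p hp _ (S.2.map (W.comap f).subtype)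
  refine ⟨⟨f a, f b, ?_⟩, fun hp2 => ?_⟩
  · rw [← hmap, hab, MonoidHom.map_closure, Set.image_pair]
  · obtain ⟨a, ha⟩ := hc hp2
    exact ⟨f a, by rw [← hmap, ha, MonoidHom.map_zpowers]⟩

theorem smallSylows_of_complement {G : Type*} [Group G] [Finite G] {H : Subgroup G}
    (hH : Cfsg.IsFrobeniusComplement H) : SmallSylows H := by
  intro p hp W hW
  haveI : Fact p.Prime := ⟨hp⟩
  obtain ⟨S, hS⟩ := hW.exists_le_sylow
  -- a cyclic subgroup of index at most two in S
  have hcyc : ∃ A : Subgroup S, IsCyclic A ∧ A.index ∣ 2 ∧ (p ≠ 2 → A = ⊤) := by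
    rcases Cfsg.Agent.Frobenius.sylow_cyclic_or_quaternion hH p S with hc | ⟨h2, n, ⟨e⟩⟩
    · exact ⟨⊤, isCyclic_of_surjective (Subgroup.topEquiv (G := S)).symm.toMonoidHom
        (MulEquiv.surjective _), by simp, fun _ => rfl⟩
    · let A₀ : Subgroup (QuaternionGroup (2 ^ n)) := zpowers (QuaternionGroup.a 1)
      refine ⟨A₀.map e.symm.toMonoidHom, ?_, ?_, fun h => absurd h2 h⟩
      · haveI : IsCyclic A₀ := Subgroup.isCyclic_zpowers _
        exact isCyclic_of_surjective (A₀.equivMapOfInjective _ e.symm.injective).toMonoidHom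
          (MulEquiv.surjective _)
      · rw [Subgroup.index_map_of_bijective e.symm.bijective]
        have h1 := Subgroup.card_mul_index A₀
        rw [Nat.card_zpowers, QuaternionGroup.orderOf_a_one, Nat.card_eq_fintype_card,
          QuaternionGroup.card] at h1
        have h4 : 2 * (2 ^ n) * A₀.index = 2 * (2 ^ n) * 2 := by rw [h1]; ring
        exact (Nat.eq_of_mul_eq_mul_left (by positivity) h4).dvd
  obtain ⟨A, hA, hidx, htop⟩ := hcyc
  let W' : Subgroup S := W.subgroupOf (S : Subgroup H)
  have hWmap : W'.map (S : Subgroup H).subtype = W := by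
    rw [Subgroup.subgroupOf_map_subtype, inf_eq_left.2 hS]
  haveI : IsCyclic (A ⊓ W' : Subgroup S) :=
    isCyclic_of_injective (Subgroup.inclusion (inf_le_left : A ⊓ W' ≤ A))
      (Subgroup.inclusion_injective _)
  obtain ⟨⟨a, haAW⟩, ha⟩ := isCyclic_iff_exists_zpowers_eq_top.1 this
  have haW : zpowers a = A ⊓ W' := by
    have := congrArg (Subgroup.map (A ⊓ W').subtype) ha
    rwa [MonoidHom.map_zpowers, ← MonoidHom.range_eq_map, Subgroup.range_subtype] at this
  clear ha
  have key : ∀ b ∈ W', (A ≠ ⊤ → b ∉ A) → W' = closure {a, b} := by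
    intro b hbW hb
    refine le_antisymm (fun x hx => ?_) ((closure_le _).2 (by
      rintro y (rfl | rfl)
      · exact (Subgroup.mem_inf.1 haAW).2
      · exact hbW))
    have hza : A ⊓ W' ≤ closure {a, b} := by
      rw [← haW, zpowers_le]; exact subset_closure (Set.mem_insert _ _)
    by_cases hxA : x ∈ A
    · exact hza ⟨hxA, hx⟩
    · have hAtop : A ≠ ⊤ := fun h => hxA (h ▸ mem_top x)
      have hidx2 : A.index = 2 := by
        rcases (Nat.dvd_prime Nat.prime_two).1 hidx with h | h
        · exact absurd (Subgroup.index_eq_one.1 h) hAtop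
        · exact h
      have hxb : x * b ∈ A := by
        rw [Subgroup.mul_mem_iff_of_index_two hidx2]
        exact iff_of_false hxA (hb hAtop)
      rw [← mul_inv_cancel_right x b]
      exact mul_mem (hza ⟨hxb, mul_mem hx hbW⟩) (inv_mem (subset_closure (Set.mem_insert_of_mem _ rfl)))
  refine ⟨?_, fun hp2 => ?_⟩
  · obtain ⟨b, hbW, hb⟩ : ∃ b ∈ W', (¬ W' ≤ A → b ∉ A) := by
      by_cases h : W' ≤ A
      · exact ⟨1, one_mem _, fun h' => absurd h h'⟩
      · obtain ⟨b, hb, hbA⟩ := SetLike.not_le_iff_exists.1 h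
        exact ⟨b, hb, fun _ => hbA⟩
    by_cases hle : W' ≤ A
    · refine ⟨(a : H), (a : H), ?_⟩
      rw [Set.pair_eq_singleton, ← zpowers_eq_closure, ← hWmap]
      have : W' = A ⊓ W' := (inf_eq_right.2 hle).symm
      conv_lhs => rw [this, ← haW, MonoidHom.map_zpowers]
      rfl
    · refine ⟨(a : H), ((b : S) : H), ?_⟩
      rw [← hWmap, key b hbW (fun _ => hb hle), MonoidHom.map_closure, Set.image_pair]
      rfl
  · refine ⟨(a : H), ?_⟩
    rw [← hWmap]
    have : W' = A ⊓ W' := by rw [htop hp2, top_inf_eq]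
    conv_lhs => rw [this, ← haW, MonoidHom.map_zpowers]
    rfl

theorem card_elementary_le {G : Type*} [Group G] [Finite G] (h : SmallSylows G) {V : Subgroup G}
    [IsMulCommutative V] {r : ℕ} (hr : r.Prime) (hV : IsPGroup r V) (hexp : ∀ x ∈ V, x ^ r = 1) :
    Nat.card V ≤ max r 4 := by
  obtain ⟨⟨a, b, hab⟩, hc⟩ := h r hr V hV
  by_cases hr2 : r = 2
  · subst hr2
    have haV : a ∈ V := hab ▸ subset_closure (Set.mem_insert _ _)
    have hbV : b ∈ V := hab ▸ subset_closure (Set.mem_insert_of_mem _ rfl)
    have hle : V ≤ zpowers a ⊔ zpowers b := by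
      rw [hab, closure_le]
      rintro x (rfl | rfl)
      · exact mem_sup_left (mem_zpowers _)
      · exact mem_sup_right (mem_zpowers _)
    let g : (zpowers a).subgroupOf V × (zpowers b).subgroupOf V → V := fun w => w.1.1 * w.2.1
    have hsurj : Function.Surjective g := by
      intro x
      have hx : x ∈ (zpowers a).subgroupOf V ⊔ (zpowers b).subgroupOf V := by
        rw [← Subgroup.subgroupOf_sup (zpowers_le.2 haV) (zpowers_le.2 hbV)]
        exact hle x.2
      obtain ⟨y, hy, z, hz, rfl⟩ := Subgroup.mem_sup.1 hx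
      exact ⟨(⟨y, hy⟩, ⟨z, hz⟩), rfl⟩
    have h1 := Nat.card_le_card_of_surjective g hsurj
    rw [Nat.card_prod, Nat.card_congr (Subgroup.subgroupOfEquivOfLe (zpowers_le.2 haV)).toEquiv,
      Nat.card_congr (Subgroup.subgroupOfEquivOfLe (zpowers_le.2 hbV)).toEquiv, Nat.card_zpowers,
      Nat.card_zpowers] at h1
    have ha2 := Nat.le_of_dvd (by norm_num) (orderOf_dvd_of_pow_eq_one (hexp a haV))
    have hb2 := Nat.le_of_dvd (by norm_num) (orderOf_dvd_of_pow_eq_one (hexp b hbV))
    calc Nat.card V ≤ _ := h1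
      _ ≤ 2 * 2 := Nat.mul_le_mul ha2 hb2
      _ ≤ max 2 4 := by norm_num
  · obtain ⟨a, ha⟩ := hc hr2
    have haV : a ∈ V := ha ▸ mem_zpowers a
    rw [ha, Nat.card_zpowers]
    exact le_trans (Nat.le_of_dvd hr.pos (orderOf_dvd_of_pow_eq_one (hexp a haV))) (le_max_left _ _)

theorem centralizes_of_card_lt {G : Type*} [Group G] [Finite G] {V : Subgroup G} [V.Normal]
    {y : G} (hy : ∀ q : ℕ, q.Prime → q ∣ orderOf y → Nat.card V < q) : y ∈ centralizer (V : Set G) := by
  classical
  haveI := Fintype.ofFinite V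
  let φ : G →* Equiv.Perm V :=
    (MulAut.toPerm V).comp (MulAut.conjNormal : G →* MulAut V)
  have h1 : orderOf (φ y) ∣ orderOf y := orderOf_map_dvd _ _
  have h2 : orderOf (φ y) ∣ (Nat.card V).factorial := by
    rw [← Nat.card_perm]; exact orderOf_dvd_natCard _
  have h3 : orderOf (φ y) = 1 := by
    by_contra hne
    obtain ⟨q, hq, hd⟩ := Nat.exists_prime_and_dvd hne
    have := (Nat.Prime.dvd_factorial hq).1 (hd.trans h2)
    have := hy q hq (hd.trans h1)
    omega
  rw [mem_centralizer_iff]
  intro v hv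
  have h4 := congrArg Subtype.val (Equiv.ext_iff.1 (orderOf_eq_one_iff.1 h3) ⟨v, hv⟩)
  have h5 : y * v * y⁻¹ = v := h4
  exact (mul_inv_eq_iff_eq_mul.1 h5).symm

theorem exists_normal_hall {G : Type*} [Group G] [Finite G] [Group.IsSolvable G] (h : SmallSylows G)
    {k : ℕ} (hk : 5 ≤ k) :
    ∃ N : Subgroup G, N.Normal ∧ Nat.card N = Tower.upperPart (Nat.card G) k ∧
      (Nat.card N).Coprime N.index := by
  suffices key : ∀ (n : ℕ) (G : Type _) [Group G] [Finite G] [Group.IsSolvable G],
      Nat.card G ≤ n → SmallSylows G → ∃ N : Subgroup G, N.Normal ∧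
        (∀ p : ℕ, p.Prime → p ∣ Nat.card N → k ≤ p) ∧ (∀ p : ℕ, p.Prime → p ∣ N.index → p < k) by
    obtain ⟨N, hN, ha, hb⟩ := key _ G le_rfl h
    refine ⟨N, hN, Tower.eq_upperPart Nat.card_pos.ne' (Subgroup.card_mul_index N) ha hb,
      Nat.coprime_of_dvd fun p hp h1 h2 => ?_⟩
    have := ha p hp h1
    have := hb p hp h2
    omega
  intro n
  induction n with
  | zero => intro G _ _ _ hn; exact absurd Nat.card_pos (not_lt.2 hn)
  | succ n ih =>
    intro G _ _ _ hn hG
    rcases subsingleton_or_nontrivial G with hs | hnt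
    · refine ⟨⊥, inferInstance, fun p hp hd => ?_, fun p hp hd => ?_⟩
      · rw [Subgroup.card_bot, Nat.dvd_one] at hd; exact absurd (hd ▸ hp) Nat.not_prime_one
      · rw [Subgroup.index_bot, Nat.card_of_subsingleton (1 : G), Nat.dvd_one] at hd
        exact absurd (hd ▸ hp) Nat.not_prime_one
    obtain ⟨V, -, hVn, hV1, -, -, -, hmin⟩ := Hall.exists_minimal_normal_pgroup (G := G)
    haveI := hVn
    obtain ⟨hVc, r, hr, hVp, hexp⟩ := Hall.minimal_normal_of_solvable hV1 hmin
    haveI := hVc
    haveI : Fact r.Prime := ⟨hr⟩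
    have hlt : Nat.card (G ⧸ V) < Nat.card G := by
      have h1 := Subgroup.card_mul_index V
      have h2 := (Subgroup.one_lt_card_iff_ne_bot V).2 hV1
      have h3 : 0 < V.index := Nat.pos_of_ne_zero Subgroup.index_ne_zero_of_finite
      have : Nat.card (G ⧸ V) = V.index := rfl
      nlinarith
    obtain ⟨N', hN', ha', hb'⟩ := ih (G ⧸ V) (by omega)
      (hG.of_surjective _ (QuotientGroup.mk'_surjective V))
    let M : Subgroup G := N'.comap (QuotientGroup.mk' V)
    haveI hMn : M.Normal := hN'.comap _
    have hVM : V ≤ M := fun x hx => by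
      show QuotientGroup.mk' V x ∈ N'
      rw [QuotientGroup.mk'_apply, (QuotientGroup.eq_one_iff x).2 hx]; exact one_mem _
    have hMidx : M.index = N'.index :=
      Subgroup.index_comap_of_surjective _ (QuotientGroup.mk'_surjective V)
    have hrel : V.relIndex M = Nat.card N' := by
      have h1 := Subgroup.relIndex_mul_index hVM
      have h2 := Subgroup.card_mul_index N'
      have h3 : Nat.card (G ⧸ V) = V.index := rfl
      rw [hMidx, ← h3, ← h2] at h1
      exact Nat.eq_of_mul_eq_mul_right (Nat.pos_of_ne_zero Subgroup.index_ne_zero_of_finite) h1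
    have hMcard : Nat.card V * Nat.card N' = Nat.card M := by
      rw [← hrel, ← Nat.card_congr (Subgroup.subgroupOfEquivOfLe hVM).toEquiv]
      exact Subgroup.card_mul_index _
    obtain ⟨e, he⟩ := hVp.exists_card_eq
    have hdivV : ∀ p : ℕ, p.Prime → p ∣ Nat.card V → p = r := fun p hp hd =>
      (Nat.prime_dvd_prime_iff_eq hp hr).1 (hp.dvd_of_dvd_pow (he ▸ hd))
    by_cases hrk : k ≤ r
    · refine ⟨M, hMn, fun p hp hd => ?_, by rwa [hMidx]⟩
      rw [← hMcard] at hd
      rcases hp.dvd_mul.1 hd with h1 | h1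
      · exact hdivV p hp h1 ▸ hrk
      · exact ha' p hp h1
    -- small r: split off V
    have hcop : (Nat.card (V.subgroupOf M)).Coprime (V.subgroupOf M).index := by
      rw [Nat.card_congr (Subgroup.subgroupOfEquivOfLe hVM).toEquiv]
      show (Nat.card V).Coprime (V.relIndex M)
      rw [hrel]
      refine Nat.coprime_of_dvd fun p hp h1 h2 => ?_
      have := hdivV p hp h1
      have := ha' p hp h2
      omega
    obtain ⟨L, hL⟩ := Subgroup.exists_right_complement'_of_coprime hcop
    have hLcard : Nat.card L = Nat.card N' := by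
      rw [← hrel]; exact hL.symm.index_eq_card.symm
    let L' : Subgroup G := L.map M.subtype
    have hL'card : Nat.card L' = Nat.card N' := by
      rw [← hLcard]; exact (Nat.card_congr (L.equivMapOfInjective _ M.subtype_injective).toEquiv).symm
    have hVle : Nat.card V < k := by
      have := card_elementary_le hG hr hVp hexp
      omega
    have hcent : ∀ y ∈ L', y ∈ centralizer (V : Set G) := fun y hy =>
      centralizes_of_card_lt fun q hq hqd => lt_of_lt_of_le hVle
        (ha' q hq (hL'card ▸ hqd.trans (Subgroup.orderOf_dvd_natCard _ hy)))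
    have hset : ∀ x, x ∈ L' ↔ x ∈ M ∧ x ^ Nat.card N' = 1 := by
      intro x
      constructor
      · intro hx
        refine ⟨Subgroup.map_subtype_le L hx, ?_⟩
        rw [← orderOf_dvd_iff_pow_eq_one, ← hL'card]
        exact Subgroup.orderOf_dvd_natCard _ hx
      · rintro ⟨hxM, hx⟩
        obtain ⟨⟨v, l⟩, hvl⟩ := hL.2 ⟨x, hxM⟩
        have hlL : ((l : M) : G) ∈ L' := ⟨l, l.2, rfl⟩
        have hvV : ((v : M) : G) ∈ V := v.2
        have hxeq : ((v : M) : G) * ((l : M) : G) = x := congrArg Subtype.val hvl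
        have hcomm : Commute ((v : M) : G) ((l : M) : G) :=
          (mem_centralizer_iff.1 (hcent _ hlL)) _ hvV
        have hlu : ((l : M) : G) ^ Nat.card N' = 1 := by
          rw [← orderOf_dvd_iff_pow_eq_one, ← hL'card]
          exact Subgroup.orderOf_dvd_natCard _ hlL
        have hvu : ((v : M) : G) ^ Nat.card N' = 1 := by
          have h5 := hcomm.mul_pow (Nat.card N')
          rw [hxeq, hx, hlu, mul_one] at h5
          exact h5.symm
        have hv1 : ((v : M) : G) = 1 := by
          rw [← orderOf_eq_one_iff]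
          have h6 : orderOf ((v : M) : G) ∣ Nat.card V := Subgroup.orderOf_dvd_natCard _ hvV
          have h7 := orderOf_dvd_of_pow_eq_one hvu
          by_contra hne
          obtain ⟨p, hp, hd⟩ := Nat.exists_prime_and_dvd hne
          have := hdivV p hp (hd.trans h6)
          have := ha' p hp (hd.trans h7)
          omega
        rw [← hxeq, hv1, one_mul]
        exact hlL
    refine ⟨L', ⟨fun x hx g => ?_⟩, fun p hp hd => ha' p hp (hL'card ▸ hd), fun p hp hd => ?_⟩
    · obtain ⟨h1, h2⟩ := (hset x).1 hx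
      refine (hset _).2 ⟨hMn.conj_mem x h1 g, ?_⟩
      rw [conj_pow, h2, mul_one, mul_inv_cancel]
    · have h1 : L'.index = Nat.card V * N'.index := by
        have e1 := Subgroup.card_mul_index L'
        have e2 := Subgroup.card_mul_index M
        rw [← hMcard, hMidx] at e2
        rw [hL'card] at e1
        refine Nat.eq_of_mul_eq_mul_left (Nat.card_pos (α := N')) ?_
        rw [e1, ← e2]; ring
      rw [h1] at hd
      rcases hp.dvd_mul.1 hd with h2 | h2
      · rw [hdivV p hp h2]; omega
      · exact hb' p hp h2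

/-- Solvability of a complement is a property of its counts. -/
theorem isSolvable_iff_counts {G : Type*} [Group G] [Finite G] {H : Subgroup G}
    (hH : Cfsg.IsFrobeniusComplement H) :
    Group.IsSolvable H ↔ ∀ k, 5 ≤ k → Nat.card {x : H // x ^ Tower.upperPart (Nat.card H) k = 1} =
      Tower.upperPart (Nat.card H) k := by
  refine ⟨fun hs k hk => ?_, fun hc => ?_⟩
  · obtain ⟨N, hN, hcard, hcop⟩ := exists_normal_hall (smallSylows_of_complement hH) hk
    rw [← hcard]
    exact Tower.card_pow_eq_one_of_normal N hcop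
  · obtain ⟨N, hN, hNs, hcard⟩ := Tower.exists_normal_upper_of_ge 5 hc 5 le_rfl
    haveI := hN
    haveI := hNs
    haveI : Group.IsSolvable (H ⧸ N) := by
      have hsub : ∀ p ∈ (Nat.card (H ⧸ N)).primeFactors, p = 2 ∨ p = 3 := by
        intro p hp
        have hpp := Nat.prime_of_mem_primeFactors hp
        have hd : p ∣ N.index := Nat.dvd_of_mem_primeFactors hp
        have hp5 : p < 5 := by
          by_contra hge
          push Not at hge
          have hpH : p ∈ (Nat.card H).primeFactors := Nat.mem_primeFactors.2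
            ⟨hpp, hd.trans (Subgroup.index_dvd_card N), Nat.card_pos.ne'⟩
          have hpow : p ^ (Nat.card H).factorization p ∣ Nat.card N := by
            rw [hcard]
            exact Finset.dvd_prod_of_mem _ (Finset.mem_filter.2 ⟨hpH, hge⟩)
          have hmul : p ^ ((Nat.card H).factorization p + 1) ∣ Nat.card H := by
            rw [pow_succ]
            exact (Nat.mul_dvd_mul hpow hd).trans (Subgroup.card_mul_index N).dvd
          have := (hpp.pow_dvd_iff_le_factorization Nat.card_pos.ne').1 hmul
          omega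
        have := hpp.two_le
        interval_cases p
        · exact Or.inl rfl
        · exact Or.inr rfl
        · exact absurd hpp (by norm_num)
      refine Cfsg.Agent.S0144.result 2 3 ((Nat.card (H ⧸ N)).factorization 2)
        ((Nat.card (H ⧸ N)).factorization 3) Nat.prime_two Nat.prime_three ?_
      refine Nat.eq_of_factorization_eq Nat.card_pos.ne' (by positivity) fun p => ?_
      rw [Nat.factorization_mul (by positivity) (by positivity), Finsupp.add_apply,
        Nat.factorization_pow, Nat.factorization_pow, Nat.prime_two.factorization,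
        Nat.prime_three.factorization]
      simp only [Finsupp.smul_apply, smul_eq_mul, Finsupp.single_apply]
      by_cases h2 : 2 = p
      · subst h2; simp
      by_cases h3 : 3 = p
      · subst h3; simp
      rw [if_neg h2, if_neg h3, mul_zero, mul_zero, add_zero]
      by_contra hne
      have hmem : p ∈ (Nat.card (H ⧸ N)).primeFactors := by
        rw [← Nat.support_factorization, Finsupp.mem_support_iff]; exact hne
      rcases hsub p hmem with rfl | rfl
      · exact h2 rfl
      · exact h3 rfl
    exact (Group.isSolvable_iff_subgroup_quotient N).2 ⟨inferInstance, inferInstance⟩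

end Cfsg.Agent.H74.Complement
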