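import Cfsg.Agent.H74.CyclicBasic
import Cfsg.Agent.OddOrder.CN.Theorem
import Cfsg.Agent.H61.CoreClosure

/-!
The case in which no element of order prime to `p` commutes with an element of order `p`.
-/

namespace Cfsg.Agent.H74.CyclicAb

open Subgroup

universe u

variable {G : Type u} [Group G] [Finite G] {p : ℕ} [hp : Fact p.Prime]

omit hp in
/-- A fixed-point-free conjugation action gives divisibility. -/
theorem free_dvd (K : Subgroup G) (T : G → Prop) (hinv : ∀ k ∈ K, ∀ t, T t → T (k * t * k⁻¹))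
    (hfree : ∀ k ∈ K, k ≠ 1 → ∀ t, T t → k * t ≠ t * k) : Nat.card K ∣ Nat.card {t : G // T t} := by
  letI : MulAction K {t : G // T t} :=
    { smul := fun k t => ⟨(k : G) * t * (k : G)⁻¹, hinv k k.2 t t.2⟩
      one_smul := fun t => Subtype.ext (show (1 : G) * t * (1 : G)⁻¹ = t by group)
      mul_smul := fun k l t => Subtype.ext
        (show (k : G) * l * t * ((k : G) * l)⁻¹ = k * (l * t * (l : G)⁻¹) * (k : G)⁻¹ by group) }
  have hst : ∀ t : {t : G // T t}, MulAction.stabilizer K t = ⊥ := fun t => by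
    refine (Subgroup.eq_bot_iff_forall _).2 fun k hk => ?_
    by_contra hk1
    refine hfree k k.2 (fun e => hk1 (Subtype.ext e)) t t.2 ?_
    exact mul_inv_eq_iff_eq_mul.1 (congrArg Subtype.val hk)
  rw [Nat.card_congr (MulAction.selfEquivOrbitsQuotientProd hst), Nat.card_prod]
  exact dvd_mul_left _ _

theorem exists_order_of_dvd {g : G} {s : ℕ} (hd : s ∣ orderOf g) :
    ∃ i, orderOf (g ^ i) = s := ⟨_, orderOf_pow_orderOf_div (orderOf_pos g).ne' hd⟩

namespace Cfg

/-- Mixed elements must exist. -/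
theorem ca_false (h : Cfg p G)
    (hmix : ∀ x g : G, orderOf x = p → (orderOf g).Coprime p → g * x = x * g → g = 1) : False := by
  classical
  have hnp : ∀ {g : G}, g ≠ 1 → (orderOf g).Coprime p → ¬ p ∣ Nat.card (centralizer ({g} : Set G)) :=
    fun {g} hg1 hgp => not_dvd_of_forall fun x hx hxp =>
      hg1 (hmix x g hxp hgp (mem_centralizer_singleton_iff.1 hx).symm)
  have hppart : ∀ g : G, ∀ x : G, orderOf x = p → g * x = x * g → ∃ k, orderOf g = p ^ k := by
    intro g x hx hgx
    obtain ⟨a, b, hab, ha, hb, ⟨k, hk⟩, hbp⟩ := Fusion.exists_mul_eq_pPart (p := p) g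
    have hbx : b * x = x * b := by
      obtain ⟨i, rfl⟩ := mem_zpowers_iff.1 hb
      exact ((show Commute g x from hgx).zpow_left i).eq
    rw [hmix x b hx hbp hbx, mul_one] at hab
    obtain ⟨j, -, hj⟩ := (Nat.dvd_prime_pow hp.out).1 hk
    exact ⟨j, hab ▸ hj⟩
  rcases Nat.even_or_odd (Nat.card G) with heven | hodd
  swap
  · refine h.not_comm ?_
    haveI := h.simple
    refine IsSimpleGroup.comm_iff_isSolvable.2 (OddOrder.CN.isSolvable_of_cn _ G le_rfl hodd fun g hg => ?_)
    by_cases hgp : (orderOf g).Coprime p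
    · haveI := h.hab _ (hnp hg hgp)
      exact (open scoped IsMulCommutative in inferInstance)
    · have hd : p ∣ orderOf g := by
        by_contra hnd
        exact hgp (hp.out.coprime_iff_not_dvd.2 hnd).symm
      obtain ⟨i, hi⟩ := exists_order_of_dvd hd
      refine IsPGroup.isNilpotent (p := p) (IsPGroup.iff_orderOf.2 fun c => ?_)
      obtain ⟨k, hk⟩ := hppart (c : G) (g ^ i) hi
        ((show Commute (c : G) g from mem_centralizer_singleton_iff.1 c.2).pow_right i).eq
      exact ⟨k, by rw [← Subgroup.orderOf_coe, hk]⟩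
  haveI : Fact (Nat.Prime 2) := ⟨Nat.prime_two⟩
  have h2G : 2 ∣ Nat.card G := even_iff_two_dvd.1 heven
  have h2p : (2 : ℕ) ≠ p := Ne.symm h.hp2
  have hcop : ∀ {t : G}, orderOf t = 2 → (orderOf t).Coprime p := fun {t} ht => by
    rw [ht]; exact (Nat.coprime_primes Nat.prime_two hp.out).2 h2p
  have hinv1 : ∀ {t : G}, orderOf t = 2 → t ≠ 1 := fun {t} ht e => by
    rw [e, orderOf_one] at ht; omega
  have hsq : ∀ {t : G}, orderOf t = 2 → t⁻¹ = t := fun {t} ht =>
    inv_eq_of_mul_eq_one_right (by rw [← sq, ← ht, pow_orderOf_eq_one])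
  have hnocomm : ∀ {x t : G}, orderOf t = 2 → (∃ k, orderOf x = p ^ k) → x * t = t * x → x = 1 := by
    intro x t ht hx hc
    by_contra hx1
    obtain ⟨k, hk⟩ := hx
    have hd : p ∣ orderOf x := by
      rw [hk]
      exact dvd_pow_self p fun e => hx1 (orderOf_eq_one_iff.1 (by rw [hk, e, pow_zero]))
    obtain ⟨i, hi⟩ := exists_order_of_dvd hd
    exact hinv1 ht (hmix (x ^ i) t hi (hcop ht)
      ((show Commute t x from hc.symm).pow_right i).eq)
  have hpel : ∀ (Q : Sylow p G) {z : G}, z ∈ (Q : Subgroup G) → ∃ k, orderOf z = p ^ k := by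
    intro Q z hz
    obtain ⟨k, hk⟩ := IsPGroup.iff_orderOf.1 Q.isPGroup' ⟨z, hz⟩
    exact ⟨k, by rwa [Subgroup.orderOf_mk] at hk⟩
  -- involutions and a Sylow `p`-subgroup
  obtain ⟨P⟩ : Nonempty (Sylow p G) := inferInstance
  set P0 := Nat.card (P : Subgroup G) with hP0
  have hPI : P0 ∣ Nat.card {t : G // orderOf t = 2} :=
    free_dvd (P : Subgroup G) _ (fun k _ t ht => ((MulAut.conj k).orderOf_eq t).trans ht)
      fun k hk hk1 t ht hc => hk1 (hnocomm ht (hpel P hk) hc)
  -- centralizers of involutions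
  obtain ⟨S⟩ : Nonempty (Sylow 2 G) := inferInstance
  set s := Nat.card {v : G // orderOf v = 2 ∧ v ∈ (S : Subgroup G)} with hs
  have hCs : ∀ t : {t : G // orderOf t = 2},
      Nat.card {v : {t : G // orderOf t = 2} // (t : G) * v = v * t} = s := by
    rintro ⟨t, ht⟩
    obtain ⟨T, hT⟩ := exists_sylow_mem (p := 2) (g := t) ⟨1, by rw [ht, pow_one]⟩
    obtain ⟨c, hc⟩ := MulAction.exists_smul_eq G S T
    have hTC : (T : Subgroup G) ≤ centralizer ({t} : Set G) := fun z hz =>
      mem_centralizer_singleton_iff.2 (h.comm_pprime (h.other_sylow_card h2p T) hz hT)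
    have hmem : ∀ v : G, orderOf v = 2 → (t * v = v * t ↔ v ∈ (T : Subgroup G)) := fun v hv =>
      ⟨fun hvt => mem_sylow_of_normalizes T ⟨1, by rw [hv, pow_one]⟩
        (mem_normalizer_of_conj fun z hz => by
          rw [h.comm_pprime (hnp (hinv1 ht) (hcop ht)) (mem_centralizer_singleton_iff.2 hvt.symm) (hTC hz),
            mul_inv_cancel_right]
          exact hz),
       fun hvT => (mem_centralizer_singleton_iff.1 (hTC hvT)).symm⟩
    have hconj : ∀ v : G, v ∈ (T : Subgroup G) ↔ c⁻¹ * v * c ∈ (S : Subgroup G) := fun v => by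
      rw [← hc, Sylow.coe_subgroup_smul, Subgroup.mem_pointwise_smul_iff_inv_smul_mem]
      simp [MulAut.smul_def]
    have hord : ∀ v : G, orderOf (c⁻¹ * v * c) = orderOf v := fun v => by
      simpa using (MulAut.conj c⁻¹).orderOf_eq v
    refine Nat.card_congr
      { toFun := fun v => ⟨c⁻¹ * v.1.1 * c, (hord _).trans v.1.2,
          (hconj _).1 ((hmem _ v.1.2).1 v.2)⟩
        invFun := fun v => ⟨⟨c * v.1 * c⁻¹, ((MulAut.conj c).orderOf_eq v.1).trans v.2.1⟩,
          (hmem _ (((MulAut.conj c).orderOf_eq v.1).trans v.2.1)).2 ((hconj _).2 (by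
            show c⁻¹ * (c * v.1 * c⁻¹) * c ∈ _
            rw [show c⁻¹ * (c * v.1 * c⁻¹) * c = v.1 by group]; exact v.2.2))⟩
        left_inv := fun v => Subtype.ext (Subtype.ext (show c * (c⁻¹ * v.1.1 * c) * c⁻¹ = v.1.1 by group))
        right_inv := fun v => Subtype.ext (show c⁻¹ * (c * v.1 * c⁻¹) * c = v.1 by group) }
  have hps : p ∣ s := by
    obtain ⟨x, hx, hxN⟩ := h.exists_p_normalizes h2p h2G S
    have := free_dvd (zpowers x) (fun v => orderOf v = 2 ∧ v ∈ (S : Subgroup G))
      (fun k hk v hv => ⟨((MulAut.conj k).orderOf_eq v).trans hv.1,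
        (Subgroup.mem_normalizer_iff.1 ((zpowers_le.2 hxN) hk) v).1 hv.2⟩)
      fun k hk hk1 v hv hc => hk1 (hnocomm hv.1 (by
        obtain ⟨j, -, hj⟩ := (Nat.dvd_prime_pow hp.out (m := 1)).1 (show orderOf k ∣ p ^ 1 by
          rw [pow_one, ← hx]; exact orderOf_dvd_of_mem_zpowers hk)
        exact ⟨j, hj⟩) hc)
    rwa [Nat.card_zpowers, hx] at this
  -- involutions normalizing a Sylow subgroup
  have hinvert : ∀ (Q : Sylow p G) {t : G}, orderOf t = 2 →
      t ∈ normalizer ((Q : Subgroup G) : Set G) → ∀ d ∈ (Q : Subgroup G), t * d * t⁻¹ = d⁻¹ :=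
    fun Q {t} ht htN => H61.inverts_of_fpf (by rw [← ht, pow_orderOf_eq_one])
      (fun d hd => (Subgroup.mem_normalizer_iff.1 htN d).1 hd)
      fun d hd hc => hnocomm ht (hpel Q hd) hc.eq.symm
  have hprod : ∀ (Q : Sylow p G) {t v : G}, orderOf t = 2 → orderOf v = 2 →
      t ∈ normalizer ((Q : Subgroup G) : Set G) → v ∈ normalizer ((Q : Subgroup G) : Set G) →
      t * v ∈ (Q : Subgroup G) := by
    intro Q t v ht hv htN hvN
    obtain ⟨x, hx, hxp⟩ := h.exists_ne_one Q
    refine mem_sylow_of_normalizes Q (hppart _ x hxp ?_) (mul_mem htN hvN)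
    refine mul_inv_eq_iff_eq_mul.1 ?_
    calc t * v * x * (t * v)⁻¹ = t * (v * x * v⁻¹) * t⁻¹ := by group
      _ = x := by rw [hinvert Q hv hvN x hx, hinvert Q ht htN _ (inv_mem hx), inv_inv]
  have hsurj : ∀ {t v : G}, orderOf t = 2 → orderOf v = 2 → t * v ≠ v * t →
      ∃ Q : Sylow p G, t ∈ normalizer ((Q : Subgroup G) : Set G) ∧
        v ∈ normalizer ((Q : Subgroup G) : Set G) := by
    intro t v ht hv htv
    set y := t * v with hy
    have hty : t * y * t⁻¹ = y⁻¹ := by
      rw [hy, mul_inv_rev, hsq hv, hsq ht, show t * (t * v) = (t * t) * v from (mul_assoc _ _ _).symm,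
        show t * t = 1 by rw [← sq, ← ht, pow_orderOf_eq_one], one_mul]
    have hy1 : y ≠ 1 := fun e => htv (by
      have e' : t = v := by rw [eq_inv_of_mul_eq_one_left (show t * v = 1 from e), hsq hv]
      show t * v = v * t
      rw [e'])
    have hy2 : y⁻¹ ≠ y := fun e => htv (by
      calc t * v = y⁻¹ := e.symm
        _ = v * t := by rw [hy, mul_inv_rev, hsq hv, hsq ht])
    have hall : ∀ r : ℕ, r.Prime → r ∣ orderOf y → r = p := by
      intro r hr hrd
      by_contra hrp
      obtain ⟨i, hi⟩ := exists_order_of_dvd hrd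
      set z := y ^ i with hz
      have htz : t * z * t⁻¹ = z⁻¹ := by rw [hz, ← conj_pow, hty, inv_pow]
      have hzc : (orderOf z).Coprime p := by rw [hi]; exact (Nat.coprime_primes hr hp.out).2 hrp
      have hz1 : z ≠ 1 := fun e => by rw [e, orderOf_one] at hi; exact hr.ne_one hi.symm
      rcases eq_or_ne r 2 with rfl | hr2
      · -- the central involution case
        have htcz : t ∈ centralizer ({z} : Set G) := mem_centralizer_singleton_iff.2
          (mul_inv_eq_iff_eq_mul.1 (htz.trans (hsq hi)))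
        have hycz : y ∈ centralizer ({z} : Set G) :=
          mem_centralizer_singleton_iff.2 ((Commute.refl y).pow_right i).eq
        refine hy2 ?_
        rw [← hty, h.comm_pprime (hnp hz1 hzc) htcz hycz, mul_inv_cancel_right]
      · have hW : ¬ p ∣ Nat.card (zpowers z ⊔ zpowers t : Subgroup G) := by
          intro hd
          have h1 : zpowers t ≤ normalizer ((zpowers z : Subgroup G) : Set G) :=
            zpowers_le.2 (mem_normalizer_of_conj fun w hw => by
              obtain ⟨j, rfl⟩ := mem_zpowers_iff.1 hw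
              rw [← conj_zpow, htz]
              exact zpow_mem (inv_mem (mem_zpowers z)) j)
          have h2 : Nat.card (zpowers z ⊔ zpowers t : Subgroup G) ∣ orderOf z * orderOf t := by
            have hN : zpowers z ≤ normalizer ((zpowers z : Subgroup G) : Set G) := le_normalizer
            set M := normalizer ((zpowers z : Subgroup G) : Set G)
            have h3 := Cores.card_sup_dvd ((zpowers t).subgroupOf M) ((zpowers z).subgroupOf M)
            have e : ∀ K : Subgroup G, K ≤ M → Nat.card (K.subgroupOf M) = Nat.card K := fun K hK =>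
              Nat.card_congr (Subgroup.subgroupOfEquivOfLe hK).toEquiv
            rw [← Subgroup.subgroupOf_sup h1 hN, e _ (sup_le h1 hN), e _ h1, e _ hN, Nat.card_zpowers,
              Nat.card_zpowers, sup_comm, mul_comm] at h3
            exact h3
          rcases hp.out.dvd_mul.1 (hd.trans h2) with hd' | hd'
          · rw [hi] at hd'; exact hrp ((Nat.prime_dvd_prime_iff_eq hp.out hr).1 hd').symm
          · rw [ht] at hd'; exact h2p ((Nat.prime_dvd_prime_iff_eq hp.out Nat.prime_two).1 hd').symm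
        have hc := h.comm_pprime hW (mem_sup_left (mem_zpowers z)) (mem_sup_right (mem_zpowers t))
        rw [← hc, mul_inv_cancel_right] at htz
        have h4 : orderOf z ∣ 2 := orderOf_dvd_of_pow_eq_one (by rw [sq]; nth_rw 1 [htz]; exact inv_mul_cancel z)
        exact hr2 ((Nat.prime_dvd_prime_iff_eq hr Nat.prime_two).1 (hi ▸ h4))
    obtain ⟨Q, hQ⟩ := exists_sylow_mem (p := p) (g := y)
      ⟨_, Nat.eq_prime_pow_of_unique_prime_dvd (orderOf_pos y).ne' fun {d} hd hdy => hall d hd hdy⟩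
    have htN : t ∈ normalizer ((Q : Subgroup G) : Set G) :=
      h.normalizer_zpowers_le Q hQ hy1 (mem_normalizer_of_conj fun w hw => by
        obtain ⟨j, rfl⟩ := mem_zpowers_iff.1 hw
        rw [← conj_zpow, hty]
        exact zpow_mem (inv_mem (mem_zpowers y)) j)
    refine ⟨Q, htN, ?_⟩
    have e : v = t⁻¹ * y := by rw [hy, inv_mul_cancel_left]
    rw [e]
    exact mul_mem (inv_mem htN) (le_normalizer hQ)
  -- two noncommuting involutions
  obtain ⟨t₁, v₁, ht₁, hv₁, htv₁⟩ : ∃ t v : G, orderOf t = 2 ∧ orderOf v = 2 ∧ t * v ≠ v * t := by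
    by_contra hno
    push_neg at hno
    obtain ⟨t, ht⟩ := exists_prime_orderOf_dvd_card' 2 h2G
    have hn : (closure {s : G | orderOf s = 2}).Normal := ⟨fun x hx g => by
      have hle : closure {s : G | orderOf s = 2} ≤
          (closure {s : G | orderOf s = 2}).comap (MulAut.conj g).toMonoidHom := by
        rw [Subgroup.closure_le]
        intro z hz
        exact Subgroup.subset_closure (((MulAut.conj g).orderOf_eq z).trans hz)
      simpa using hle hx⟩
    rcases h.normal_cases hn with e | e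
    · exact hinv1 ht (mem_bot.1 (e ▸ subset_closure ht))
    · refine h.centralizer_ne_top (hinv1 ht) (top_le_iff.1 (e ▸ ?_))
      rw [closure_le]
      exact fun v hv => mem_centralizer_singleton_iff.2 (hno v t hv ht)
  obtain ⟨Q₁, hQ₁, -⟩ := hsurj ht₁ hv₁ htv₁
  -- each normalizer has `P0` involutions
  have hJ : ∀ Q : Sylow p G,
      Nat.card {t : G // orderOf t = 2 ∧ t ∈ normalizer ((Q : Subgroup G) : Set G)} = P0 := by
    intro Q
    obtain ⟨c, rfl⟩ := MulAction.exists_smul_eq G Q₁ Q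
    set e := c * t₁ * c⁻¹ with he
    have heo : orderOf e = 2 := ((MulAut.conj c).orderOf_eq t₁).trans ht₁
    have heN : e ∈ normalizer (((c • Q₁ : Sylow p G) : Subgroup G) : Set G) := by
      refine Sylow.smul_eq_iff_mem_normalizer.1 ?_
      rw [he, smul_smul, inv_mul_cancel_right, mul_smul,
        Sylow.smul_eq_iff_mem_normalizer.2 hQ₁]
    have hinv := hinvert _ heo heN
    have hee : e * e = 1 := by rw [← sq, ← heo, pow_orderOf_eq_one]
    rw [hP0, ← Nat.card_congr ((c • Q₁).equiv P).toEquiv]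
    refine Nat.card_congr
      { toFun := fun t => ⟨e * t.1, hprod _ heo t.2.1 heN t.2.2⟩
        invFun := fun z => ⟨e * z, ?_, mul_mem heN (le_normalizer z.2)⟩
        left_inv := fun t => Subtype.ext (by
          show e * (e * t.1) = t.1
          rw [← mul_assoc, hee, one_mul])
        right_inv := fun z => Subtype.ext (by
          show e * (e * (z : G)) = z
          rw [← mul_assoc, hee, one_mul]) }
    refine orderOf_eq_prime ?_ fun e1 => ?_
    · have h1 := hinv z z.2
      rw [hsq heo] at h1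
      calc (e * (z : G)) ^ 2 = (e * z * e) * z := by rw [sq]; group
        _ = 1 := by rw [h1, inv_mul_cancel]
    · refine hinv1 heo (eq_one_of_both (hcop heo) (c • Q₁).isPGroup' ?_)
      rw [eq_inv_of_mul_eq_one_left e1]
      exact inv_mem z.2
  -- the pairs
  set I := {t : G // orderOf t = 2}
  set NC := Nat.card {u : I × I // (u.1 : G) * u.2 ≠ u.2 * u.1}
  have hsplit : Nat.card I * Nat.card I = Nat.card I * s + NC := by
    rw [← Nat.card_prod, ← Nat.card_congr (Equiv.sumCompl fun u : I × I => (u.1 : G) * u.2 = u.2 * u.1),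
      Nat.card_sum]
    congr 1
    letI : Fintype I := Fintype.ofFinite _
    rw [Nat.card_congr (Equiv.subtypeProdEquivSigmaSubtype fun (a b : I) => (a : G) * b = b * a),
      Nat.card_sigma, Finset.sum_congr rfl (g := fun _ => s) fun a _ => hCs a, Finset.sum_const,
      Finset.card_univ, smul_eq_mul, Nat.card_eq_fintype_card]
  let J : Sylow p G → Type u := fun Q => {t : G // orderOf t = 2 ∧ t ∈ normalizer ((Q : Subgroup G) : Set G)}
  have hcount : Nat.card (Sylow p G) * (P0 * P0) = Nat.card (Sylow p G) * P0 + NC := by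
    letI : Fintype (Sylow p G) := Fintype.ofFinite _
    have h1 : Nat.card (Σ Q : Sylow p G, J Q × J Q) = Nat.card (Sylow p G) * (P0 * P0) := by
      rw [Nat.card_sigma, Finset.sum_congr rfl (g := fun _ => P0 * P0) fun Q _ => by
        rw [Nat.card_prod]; show Nat.card (J Q) * Nat.card (J Q) = _; rw [hJ Q], Finset.sum_const,
        Finset.card_univ, smul_eq_mul, Nat.card_eq_fintype_card]
    have h2 : Nat.card (Σ Q : Sylow p G, J Q) = Nat.card (Sylow p G) * P0 := by
      rw [Nat.card_sigma, Finset.sum_congr rfl (g := fun _ => P0) fun Q _ => hJ Q, Finset.sum_const,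
        Finset.card_univ, smul_eq_mul, Nat.card_eq_fintype_card]
    have hneq : ∀ (Q : Sylow p G) (a b : J Q), a.1 ≠ b.1 → a.1 * b.1 ≠ b.1 * a.1 := by
      intro Q a b hab hc
      have hm := hprod Q a.2.1 b.2.1 a.2.2 b.2.2
      have h2' : (a.1 * b.1) ^ 2 = 1 := by
        rw [(show Commute a.1 b.1 from hc).mul_pow]
        rw [orderOf_dvd_iff_pow_eq_one.1 a.2.1.dvd, orderOf_dvd_iff_pow_eq_one.1 b.2.1.dvd, one_mul]
      have h3 : a.1 * b.1 = 1 := eq_one_of_both
        (Nat.Coprime.coprime_dvd_left (orderOf_dvd_of_pow_eq_one h2')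
          ((Nat.coprime_primes Nat.prime_two hp.out).2 h2p)) Q.isPGroup' hm
      exact hab (by rw [eq_inv_of_mul_eq_one_left h3, hsq b.2.1])
    let F : (Σ Q : Sylow p G, J Q) ⊕ {u : I × I // (u.1 : G) * u.2 ≠ u.2 * u.1} →
        (Σ Q : Sylow p G, J Q × J Q) := fun w =>
      match w with
      | Sum.inl a => ⟨a.1, a.2, a.2⟩
      | Sum.inr u => ⟨(hsurj u.1.1.2 u.1.2.2 u.2).choose,
          ⟨u.1.1.1, u.1.1.2, (hsurj u.1.1.2 u.1.2.2 u.2).choose_spec.1⟩,
          ⟨u.1.2.1, u.1.2.2, (hsurj u.1.1.2 u.1.2.2 u.2).choose_spec.2⟩⟩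
    have hval : ∀ a b : (Σ Q : Sylow p G, J Q × J Q), a = b → a.2.1.1 = b.2.1.1 ∧ a.2.2.1 = b.2.2.1 :=
      fun a b e => by subst e; exact ⟨rfl, rfl⟩
    have hF : Function.Bijective F := by
      refine ⟨?_, ?_⟩
      · rintro (⟨Q, a⟩ | ⟨⟨⟨t, ht⟩, ⟨v, hv⟩⟩, htv⟩) (⟨Q', a'⟩ | ⟨⟨⟨t', ht'⟩, ⟨v', hv'⟩⟩, htv'⟩) e
        · obtain ⟨e1, -⟩ := hval _ _ e
          obtain rfl : Q = Q' := congrArg Sigma.fst e
          exact congrArg Sum.inl (Sigma.ext rfl (heq_of_eq (Subtype.ext e1)))
        · obtain ⟨e1, e2⟩ := hval _ _ e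
          simp only [F] at e1 e2
          exact absurd (show t' * v' = v' * t' by rw [← e1, ← e2]) htv'
        · obtain ⟨e1, e2⟩ := hval _ _ e
          simp only [F] at e1 e2
          exact absurd (show t * v = v * t by rw [e1, e2]) htv
        · obtain ⟨e1, e2⟩ := hval _ _ e
          simp only [F] at e1 e2
          subst e1 e2
          rfl
      · rintro ⟨Q, a, b⟩
        by_cases hab : a.1 = b.1
        · obtain rfl : a = b := Subtype.ext hab
          exact ⟨Sum.inl ⟨Q, a⟩, rfl⟩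
        refine ⟨Sum.inr ⟨(⟨a.1, a.2.1⟩, ⟨b.1, b.2.1⟩), hneq Q a b hab⟩, ?_⟩
        obtain ⟨hsp1, hsp2⟩ := (hsurj a.2.1 b.2.1 (hneq Q a b hab)).choose_spec
        have hQ : (hsurj a.2.1 b.2.1 (hneq Q a b hab)).choose = Q := by
          refine h.sylow_eq Q _ (hprod Q a.2.1 b.2.1 a.2.2 b.2.2) (hprod _ a.2.1 b.2.1 hsp1 hsp2) ?_
          intro e1
          exact hab (by rw [eq_inv_of_mul_eq_one_left e1, hsq b.2.1])
        have key : ∀ (Q' : Sylow p G) (x y : J Q'), Q' = Q → x.1 = a.1 → y.1 = b.1 →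
            (⟨Q', x, y⟩ : Σ Q : Sylow p G, J Q × J Q) = ⟨Q, a, b⟩ := by
          rintro Q' x y rfl e1 e2
          rw [Subtype.ext e1, Subtype.ext e2]
        exact key _ _ _ hQ rfl rfl
    rw [← h1, ← h2, ← Nat.card_sum, Nat.card_eq_of_bijective F hF]
  -- the contradiction
  obtain ⟨i, hi⟩ := hPI
  obtain ⟨j, hj⟩ := hps
  obtain ⟨k, hk⟩ := P.dvd_card_of_dvd_card h.dvd_card
  rw [← hP0] at hk
  rw [hi, hj, hk] at hsplit
  rw [hk] at hcount
  have hpk : (p : ℕ) * k ≠ 0 := hk ▸ Nat.card_pos.ne'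
  have hNC : p * (p * k) ∣ NC := (Nat.dvd_add_right (⟨i * j, by ring⟩ :
    p * (p * k) ∣ p * k * i * (p * j))).1 (hsplit ▸ ⟨i * i * k, by ring⟩)
  have hL : p * (p * k) ∣ Nat.card (Sylow p G) * (p * k) := (Nat.dvd_add_left hNC).1
    (hcount ▸ ⟨Nat.card (Sylow p G) * k, by ring⟩)
  exact not_dvd_card_sylow p G (Nat.dvd_of_mul_dvd_mul_right (Nat.pos_of_ne_zero hpk) hL)

end Cfg

end Cfsg.Agent.H74.CyclicAb
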