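import Mathlib.LinearAlgebra.Matrix.Charpoly.FiniteField
import Mathlib.Data.Matrix.Basic
import Mathlib.Algebra.CharP.Lemmas

/-!
A regular friendship graph has degree at most 2.
-/

namespace Cfsg.Agent.H74

open Matrix Finset

/-- A finite regular symmetric irreflexive relation in which any two distinct points have exactly one
common neighbour has degree at most two. -/
theorem friendship_regular_degree_le_two {V : Type*} [Fintype V] [DecidableEq V] [Nonempty V]
    (R : V → V → Prop) [DecidableRel R] (hsymm : ∀ a b, R a b → R b a) (hirr : ∀ a, ¬ R a a)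
    (k : ℕ) (hdeg : ∀ a, (univ.filter (R a)).card = k)
    (hone : ∀ a b, a ≠ b → ∃! c, R a c ∧ R b c) : k ≤ 2 := by
  by_contra hk
  obtain ⟨p, hp, hpk⟩ := Nat.exists_prime_and_dvd (n := k - 1) (by omega)
  haveI : Fact p.Prime := ⟨hp⟩
  have hk1 : ((k : ℕ) : ZMod p) = 1 := by
    have h0 : ((k - 1 : ℕ) : ZMod p) = 0 := (ZMod.natCast_eq_zero_iff _ p).2 hpk
    have : k = (k - 1) + 1 := by omega
    rw [this, Nat.cast_add, h0, zero_add, Nat.cast_one]
  let A : Matrix V V (ZMod p) := Matrix.of fun a b => if R a b then 1 else 0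
  let J : Matrix V V (ZMod p) := Matrix.of fun _ _ => 1
  have hA2 : A * A = J := by
    ext a b
    simp only [Matrix.mul_apply, A, J, Matrix.of_apply, ite_mul, one_mul, zero_mul]
    rw [← Finset.sum_filter, Finset.sum_boole]
    by_cases hab : a = b
    · subst hab
      have : (univ.filter (R a)).filter (fun c => R c a) = univ.filter (R a) :=
        Finset.filter_true_of_mem fun c hc => hsymm _ _ (Finset.mem_filter.1 hc).2
      rw [this, hdeg, hk1]
    · obtain ⟨c, ⟨hc1, hc2⟩, hcu⟩ := hone a b hab
      have : (univ.filter (R a)).filter (fun x => R x b) = {c} := by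
        ext x
        simp only [Finset.mem_filter, Finset.mem_univ, true_and, Finset.mem_singleton]
        constructor
        · intro hx
          exact hcu x ⟨hx.1, hsymm _ _ hx.2⟩
        · rintro rfl
          exact ⟨hc1, hsymm _ _ hc2⟩
      rw [this, Finset.card_singleton, Nat.cast_one]
  have hAJ : A * J = J := by
    ext a b
    simp only [Matrix.mul_apply, A, J, Matrix.of_apply, mul_one]
    rw [Finset.sum_boole, hdeg, hk1]
  have hpow : ∀ m, A ^ (m + 2) = J := by
    intro m
    induction m with
    | zero => rw [zero_add, pow_two, hA2]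
    | succ m ih => rw [pow_succ', ih, hAJ]
  have hn : ((Fintype.card V : ℕ) : ZMod p) = 1 := by
    have hJJ : J * J = J := by
      calc J * J = A ^ 2 * A ^ 2 := by rw [hpow 0]
        _ = A ^ (2 + 2) := by rw [← pow_add]
        _ = J := hpow 2
    obtain ⟨a⟩ := ‹Nonempty V›
    have := congrFun (congrFun hJJ a) a
    simpa [Matrix.mul_apply, J] using this
  have h1 : Matrix.trace (A ^ p) = 1 := by
    obtain ⟨m, hm⟩ : ∃ m, p = m + 2 := ⟨p - 2, by have := hp.two_le; omega⟩
    have hAp : A ^ p = J := (congrArg (A ^ ·) hm).trans (hpow m)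
    rw [hAp]
    simpa [Matrix.trace, J] using hn
  have h2 : Matrix.trace A = 0 := by
    simp [Matrix.trace, A, hirr]
  rw [ZMod.trace_pow_card, h2, zero_pow hp.ne_zero] at h1
  exact zero_ne_one h1

end Cfsg.Agent.H74
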