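import Cfsg.Agent.H74.CyclicBasic
import Cfsg.Agent.H74.Friendship
import Cfsg.Agent.Cores.Basic

/-!
The case in which some element of order prime to `p` centralizes a Sylow `p`-subgroup: then the
commuting graph on involutions would be a friendship graph.
-/

namespace Cfsg.Agent.H74.CyclicAb

open Subgroup

universe u

variable {G : Type u} [Group G] [Finite G] {p : ℕ} [hp : Fact p.Prime]

omit hp in
/-- A finite cyclic group of exponent dividing `q` has at most `q` elements. -/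
theorem card_le_of_pow {C : Type*} [Group C] [Finite C] [IsCyclic C] {q : ℕ} (hq : 0 < q)
    (h : ∀ c : C, c ^ q = 1) : Nat.card C ≤ q := by
  refine Nat.le_of_dvd hq ?_
  rw [← IsCyclic.exponent_eq_card]
  exact Monoid.exponent_dvd_of_forall_pow_eq_one h

namespace Cfg

set_option maxHeartbeats 800000 in
/-- No element of order prime to `p` centralizes a Sylow `p`-subgroup. -/
theorem friend_false (h : Cfg p G) (P : Sylow p G) {d₀ : G}
    (hd0 : d₀ ∈ centralizer ((P : Subgroup G) : Set G)) (hd0p : (orderOf d₀).Coprime p) (hd01 : d₀ ≠ 1) :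
    False := by
  classical
  obtain ⟨H, hHN, hHp, -, hdec, g₀, hg0H, hg0c⟩ := h.exists_hall P
  set D : Subgroup G := H ⊓ centralizer ((P : Subgroup G) : Set G) with hD
  have hd0D : d₀ ∈ D := ⟨h.mem_hall P hHp hdec hd0 hd0p, hd0⟩
  have hcommH : ∀ {a b : G}, a ∈ H → b ∈ H → a * b = b * a := fun {a b} => h.comm_pprime hHp
  have hmem_smul : ∀ (c z : G), z ∈ ((c • P : Sylow p G) : Subgroup G) ↔ c⁻¹ * z * c ∈ (P : Subgroup G) :=
    fun c z => by
      rw [Sylow.coe_subgroup_smul, Subgroup.mem_pointwise_smul_iff_inv_smul_mem]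
      simp [MulAut.smul_def]
  have hord : ∀ c z : G, orderOf (c⁻¹ * z * c) = orderOf z := fun c z => by
    simpa using (MulAut.conj c⁻¹).orderOf_eq z
  have hback : ∀ (c x g : G), x ∈ ((c • P : Sylow p G) : Subgroup G) → x ≠ 1 → g * x = x * g →
      (orderOf g).Coprime p → c⁻¹ * g * c ∈ D := by
    intro c x g hx hx1 hgx hgp
    refine h.mem_inf_of_commute P hHp hdec ((hmem_smul c x).1 hx) (fun e => hx1 ?_) ?_ (by rwa [hord])
    · calc x = c * (c⁻¹ * x * c) * c⁻¹ := by group
        _ = 1 := by rw [e]; group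
    · calc c⁻¹ * g * c * (c⁻¹ * x * c) = c⁻¹ * (g * x) * c := by group
        _ = c⁻¹ * x * c * (c⁻¹ * g * c) := by rw [hgx]; group
  -- centralizers of elements of `D`
  have hPC : ∀ d ∈ D, (P : Subgroup G) ≤ centralizer ({d} : Set G) := fun d hd z hz =>
    mem_centralizer_singleton_iff.2 (mem_centralizer_iff.1 hd.2 z hz)
  have hdcent : ∀ d ∈ D, d ≠ 1 → centralizer ({d} : Set G) ≤ normalizer ((P : Subgroup G) : Set G) :=
    fun d hd hd1 => h.le_normalizer_of_mover P (h.centralizer_ne_top hd1) (hPC d hd) (hHN hg0H)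
      (coprime_of_mem hHp hg0H) hg0c (mem_centralizer_singleton_iff.2 (hcommH hg0H hd.1))
  have hkD : ∀ d ∈ D, d ≠ 1 → ∀ k : G, k * d * k⁻¹ ∈ D → k ∈ normalizer ((P : Subgroup G) : Set G) := by
    intro d hd hd1 k hk
    refine Sylow.smul_eq_iff_mem_normalizer.1 (eq_of_le_normalizer P (k • P) fun z hz => ?_)
    refine hdcent _ hk (fun e => hd1 (conj_eq_one_iff.1 e)) (mem_centralizer_singleton_iff.2 ?_)
    have h1 := mem_centralizer_singleton_iff.1 (hPC d hd ((hmem_smul k z).1 hz))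
    calc z * (k * d * k⁻¹) = k * ((k⁻¹ * z * k) * d) * k⁻¹ := by group
      _ = k * d * k⁻¹ * z := by rw [h1]; group
  -- the action of `H` on the subgroup of order `p`
  obtain ⟨x₀, hx0P, hx0⟩ := h.exists_ne_one P
  have hx01 : x₀ ≠ 1 := fun e => by rw [e, orderOf_one] at hx0; exact hp.out.ne_one hx0.symm
  set X := zpowers x₀ with hXdef
  have hXcard : Nat.card X = p := by rw [hXdef, Nat.card_zpowers, hx0]
  have hHX : H ≤ normalizer (X : Set G) := by
    intro b hb
    refine mem_normalizer_of_conj fun z hz => ?_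
    obtain ⟨i, rfl⟩ := mem_zpowers_iff.1 hz
    rw [← conj_zpow]
    haveI := h.hcyc P
    exact zpow_mem (mem_zpowers_of_cyclic hx0P ((Subgroup.mem_normalizer_iff.1 (hHN hb) x₀).1 hx0P)
      ((MulAut.conj b).orderOf_eq x₀).dvd) i
  let f : H →* MulAut X := X.normalizerMonoidHom.comp (Subgroup.inclusion hHX)
  have hker : f.ker = D.subgroupOf H := by
    ext b
    show X.normalizerMonoidHom (Subgroup.inclusion hHX b) = 1 ↔ (b : G) ∈ D
    rw [← MonoidHom.mem_ker, Subgroup.normalizerMonoidHom_ker, Subgroup.mem_subgroupOf]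
    refine ⟨fun hb => ⟨b.2, h.mem_centralizer P hx0P hx01
      (mem_centralizer_iff.1 hb x₀ (mem_zpowers x₀)).symm⟩, fun hb => ?_⟩
    exact Subgroup.centralizer_le (SetLike.coe_subset_coe.2 ((zpowers_le.2 hx0P : X ≤ _))) hb.2
  haveI : Fact (Nat.card X).Prime := ⟨hXcard ▸ hp.out⟩
  haveI hMc : IsCyclic (MulAut X) :=
    isCyclic_of_injective (IsCyclic.mulAutMulEquiv X).toMonoidHom (IsCyclic.mulAutMulEquiv X).injective
  have hMcard : Nat.card (MulAut X) = p - 1 := by
    rw [IsCyclic.card_mulAut, hXcard, Nat.totient_prime hp.out]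
  set e := Nat.card f.range with he
  have hep : e ∣ p - 1 := hMcard ▸ Subgroup.card_subgroup_dvd_card f.range
  have hHde : Nat.card D * e = Nat.card H := by
    have h1 := f.ker.card_mul_index
    rwa [Subgroup.index_ker, hker, Nat.card_congr (Subgroup.subgroupOfEquivOfLe inf_le_left).toEquiv] at h1
  have he1 : e ≠ 1 := fun e1 => by
    rw [e1, mul_one] at hHde
    have : D = H := Subgroup.eq_of_le_of_card_ge inf_le_left hHde.ge
    exact hg0c (this.ge hg0H).2
  obtain ⟨r, hr, hre⟩ := Nat.exists_prime_and_dvd he1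
  haveI : Fact r.Prime := ⟨hr⟩
  have hrH : r ∣ Nat.card H := hHde ▸ hre.mul_left _
  have hrp : r ≠ p := fun e' => hHp (e' ▸ hrH)
  -- a Sylow subgroup of `H` for a prime dividing `e`
  obtain ⟨Hs⟩ : Nonempty (Sylow r H) := inferInstance
  set Hr : Subgroup G := (Hs : Subgroup H).map H.subtype with hHr
  have hnox : ∀ x : G, orderOf x = p → x ∉ centralizer (Hr : Set G) := by
    intro x hx hxC
    obtain ⟨Q, hQ⟩ := exists_sylow_mem (p := p) (g := x) ⟨1, by rw [hx, pow_one]⟩
    obtain ⟨c, rfl⟩ := MulAction.exists_smul_eq G P Q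
    have hle : Hr.map (MulAut.conj c⁻¹).toMonoidHom ≤ D := by
      rintro _ ⟨y, hy, rfl⟩
      have hyH : y ∈ H := Subgroup.map_subtype_le _ hy
      have := hback c x y hQ (fun e' => by rw [e', orderOf_one] at hx; exact hp.out.ne_one hx.symm)
        (mem_centralizer_iff.1 hxC y hy) (coprime_of_mem hHp hyH)
      simpa using this
    have h1 := Subgroup.card_dvd_of_le hle
    rw [Subgroup.card_map_of_injective (MulAut.conj c⁻¹).injective, hHr,
      Subgroup.card_map_of_injective H.subtype_injective] at h1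
    have h2 : Nat.card (Hs : Subgroup H) * r ∣ Nat.card (Hs : Subgroup H) * (Hs : Subgroup H).index := by
      rw [(Hs : Subgroup H).card_mul_index, ← hHde]
      exact mul_dvd_mul h1 hre
    exact Hs.not_dvd_index (Nat.dvd_of_mul_dvd_mul_left Nat.card_pos h2)
  set A := centralizer (Hr : Set G) with hA
  have hAp : ¬ p ∣ Nat.card A := not_dvd_of_forall fun x hx hxp => hnox x hxp hx
  have hAcomm : ∀ {a b : G}, a ∈ A → b ∈ A → a * b = b * a := fun {a b} => h.comm_pprime hAp
  have hHA : H ≤ A := fun b hb => mem_centralizer_iff.2 fun y hy => hcommH (Subgroup.map_subtype_le _ hy) hb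
  obtain ⟨R, hR⟩ := (Hs.isPGroup'.map H.subtype).exists_le_sylow
  have hRA : (R : Subgroup G) ≤ A := fun z hz => mem_centralizer_iff.2 fun y hy =>
    h.comm_pprime (h.other_sylow_card hrp R) (hR hy) hz
  obtain ⟨x, hx, hxR⟩ := h.exists_p_normalizes hrp (hrH.trans (Subgroup.card_subgroup_dvd_card H)) R
  have hx1 : x ≠ 1 := fun e' => by rw [e', orderOf_one] at hx; exact hp.out.ne_one hx.symm
  have hxA : ∀ a ∈ A, x * a * x⁻¹ ∈ A := fun a ha => mem_centralizer_iff.2 fun y hy => by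
    have h1 : x⁻¹ * y * x ∈ (R : Subgroup G) := by
      simpa using (Subgroup.mem_normalizer_iff''.1 hxR y).1 (hR hy)
    have h2 := hAcomm ha (hRA h1)
    calc y * (x * a * x⁻¹) = x * ((x⁻¹ * y * x) * a) * x⁻¹ := by group
      _ = x * a * x⁻¹ * y := by rw [← h2]; group
  -- `x` acts fixed point freely
  have hfpf : ∀ a ∈ A, a * x = x * a → a = 1 := by
    intro a ha hax
    by_contra ha1
    obtain ⟨Q, hQ⟩ := exists_sylow_mem (p := p) (g := x) ⟨1, by rw [hx, pow_one]⟩
    obtain ⟨c, rfl⟩ := MulAction.exists_smul_eq G P Q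
    have had := hback c x a hQ hx1 hax (coprime_of_mem hAp ha)
    refine hnox x hx (mem_centralizer_iff.2 fun y hy => ?_)
    have hyA : y ∈ A := hHA (Subgroup.map_subtype_le _ hy)
    have hcent := hdcent _ had (fun e' => ha1 (by
      calc a = c * (c⁻¹ * a * c) * c⁻¹ := by group
        _ = 1 := by rw [e']; group))
    have hy' : c⁻¹ * y * c ∈ normalizer ((P : Subgroup G) : Set G) :=
      hcent (mem_centralizer_singleton_iff.2 (by
        calc c⁻¹ * y * c * (c⁻¹ * a * c) = c⁻¹ * (y * a) * c := by group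
          _ = c⁻¹ * a * c * (c⁻¹ * y * c) := by rw [hAcomm hyA ha]; group))
    have hmA : y * x * y⁻¹ * x⁻¹ ∈ A := by
      have h1 := mul_mem hyA (hxA _ (inv_mem hyA))
      convert h1 using 1
      group
    have hmP : c⁻¹ * (y * x * y⁻¹ * x⁻¹) * c ∈ (P : Subgroup G) := by
      have h1 := mul_mem ((Subgroup.mem_normalizer_iff.1 hy' _).1 ((hmem_smul c x).1 hQ))
        (inv_mem ((hmem_smul c x).1 hQ))
      convert h1 using 1
      group
    have h3 : c⁻¹ * (y * x * y⁻¹ * x⁻¹) * c = 1 :=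
      eq_one_of_both (by rw [hord]; exact coprime_of_mem hAp hmA) P.isPGroup' hmP
    calc y * x = c * (c⁻¹ * (y * x * y⁻¹ * x⁻¹) * c) * c⁻¹ * (x * y) := by group
      _ = x * y := by rw [h3]; group
  -- `A = H`
  have hAH : A ≤ H := by
    intro a ha
    obtain ⟨z, hz, b, hb, rfl⟩ := hdec a (hdcent d₀ hd0D hd01
      (mem_centralizer_singleton_iff.2 (hAcomm ha (hHA hd0D.1))))
    have hz' : z ∈ A := by simpa using mul_mem ha (inv_mem (hHA hb))
    rw [eq_one_of_both (coprime_of_mem hAp hz') P.isPGroup' hz, one_mul]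
    exact hb
  have hxH : ∀ b ∈ H, x * b * x⁻¹ ∈ H := fun b hb => hAH (hxA b (hHA hb))
  have hxN : x ∉ normalizer ((P : Subgroup G) : Set G) := fun hxN => by
    have hxP := mem_sylow_of_normalizes P ⟨1, by rw [hx, pow_one]⟩ hxN
    exact hd01 (hfpf d₀ (hHA hd0D.1) (mem_centralizer_singleton_iff.1 (hPC d₀ hd0D hxP)).symm)
  have hxiN : ∀ i, 0 < i → i < p → x ^ i ∉ normalizer ((P : Subgroup G) : Set G) := by
    intro i hi0 hip hiN
    obtain ⟨j, hj⟩ := exists_pow_eq_self_of_coprime (x := x) (n := i) (by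
      rw [hx]
      exact ((hp.out.coprime_iff_not_dvd).2 fun hd => by have := Nat.le_of_dvd hi0 hd; omega).symm)
    exact hxN (hj ▸ pow_mem hiN j)
  have hxiH : ∀ (i : ℕ), ∀ b ∈ H, x ^ i * b * (x ^ i)⁻¹ ∈ H := by
    intro i
    induction i with
    | zero => intro b hb; simpa using hb
    | succ i ih =>
      intro b hb
      have h1 := hxH _ (ih b hb)
      convert h1 using 1
      rw [pow_succ']; group
  -- `D` is cyclic and small
  set K := D.map (MulAut.conj x).toMonoidHom with hK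
  have hKH : K ≤ H := by
    rintro _ ⟨d, hd, rfl⟩
    simpa using hxH d hd.1
  have hKinj : Function.Injective (f.rangeRestrict.comp (Subgroup.inclusion hKH)) := by
    rw [injective_iff_map_eq_one]
    intro k hk
    by_contra hk1
    have h1 : Subgroup.inclusion hKH k ∈ f.ker := congrArg Subtype.val hk
    rw [hker, Subgroup.mem_subgroupOf] at h1
    obtain ⟨d, hd, hdk⟩ := k.2
    refine hxN (hkD d hd (fun e' => hk1 (Subtype.ext ?_)) x ?_)
    · show (k : G) = 1
      rw [← hdk, e', map_one]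
    · have h2 : (k : G) ∈ D := h1
      rw [← hdk] at h2
      simpa using h2
  have hDe : Nat.card D ∣ e := by
    have h1 := Subgroup.card_dvd_of_injective _ hKinj
    rwa [hK, Subgroup.card_map_of_injective (MulAut.conj x).injective] at h1
  haveI hKc : IsCyclic K := isCyclic_of_injective _ hKinj
  haveI hDc : IsCyclic D :=
    isCyclic_of_injective (D.equivMapOfInjective (MulAut.conj x).toMonoidHom (MulAut.conj x).injective).toMonoidHom
      (MulEquiv.injective _)
  -- a prime dividing `|D|`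
  have hD1 : Nat.card D ≠ 1 := fun e' => hd01 (by
    rw [Subgroup.card_eq_one.1 e'] at hd0D
    exact mem_bot.1 hd0D)
  obtain ⟨q, hq, hqD⟩ := Nat.exists_prime_and_dvd hD1
  haveI : Fact q.Prime := ⟨hq⟩
  obtain ⟨b₀, hb0⟩ := exists_prime_orderOf_dvd_card' (G := D) q hqD
  rw [← Subgroup.orderOf_coe] at hb0
  let T : Subgroup G :=
    { carrier := {b | b ∈ H ∧ b ^ q = 1}
      one_mem' := ⟨one_mem _, one_pow q⟩
      mul_mem' := fun {a b} ha hb => ⟨mul_mem ha.1 hb.1, by
        rw [(show Commute a b from hcommH ha.1 hb.1).mul_pow, ha.2, hb.2, one_mul]⟩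
      inv_mem' := fun {a} ha => ⟨inv_mem ha.1, by rw [inv_pow, ha.2, inv_one]⟩ }
  have hTH : T ≤ H := fun b hb => hb.1
  let φ := f.comp (Subgroup.inclusion hTH)
  have hT2 : Nat.card T ≤ q * q := by
    rw [← φ.ker.card_mul_index, Subgroup.index_ker]
    refine Nat.mul_le_mul ?_ (card_le_of_pow hq.pos ?_)
    · have hle : ∀ k : φ.ker, ((k : T) : G) ∈ D := fun k => by
        have h1 : Subgroup.inclusion hTH k.1 ∈ f.ker := k.2
        rwa [hker, Subgroup.mem_subgroupOf] at h1
      let j : φ.ker →* D :=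
        { toFun := fun k => ⟨((k : T) : G), hle k⟩
          map_one' := rfl
          map_mul' := fun _ _ => rfl }
      have hj : Function.Injective j := fun a b hab =>
        Subtype.ext (Subtype.ext (congrArg (fun z : D => (z : G)) hab))
      haveI := isCyclic_of_injective j hj
      exact card_le_of_pow hq.pos fun k => Subtype.ext (Subtype.ext k.1.2.2)
    · rintro ⟨_, t, rfl⟩
      refine Subtype.ext ?_
      show φ t ^ q = 1
      rw [← map_pow, show t ^ q = 1 from Subtype.ext t.2.2, map_one]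
  have hbi : ∀ (i j : ℕ), x ^ i * (b₀ : G) ^ j * (x ^ i)⁻¹ ∈ T := fun i j =>
    ⟨hxiH i _ (pow_mem b₀.2.1 j), by
      rw [conj_pow, ← pow_mul, mul_comm, pow_mul, ← hb0, pow_orderOf_eq_one, one_pow, mul_one,
        mul_inv_cancel]⟩
  let F : Option (Fin p × Fin (q - 1)) → T := fun o =>
    o.elim 1 fun u => ⟨_, hbi u.1 (u.2.val + 1)⟩
  have hb0j : ∀ j, 0 < j → j < q → (b₀ : G) ^ j ≠ 1 := fun j h0 h1 e' => by
    have := Nat.le_of_dvd h0 (orderOf_dvd_of_pow_eq_one e')
    omega
  have hFinj : Function.Injective F := by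
    have key : ∀ (i i' : Fin p) (j j' : ℕ), 0 < j → j < q → (i : ℕ) ≤ i' →
        x ^ (i : ℕ) * (b₀ : G) ^ j * (x ^ (i : ℕ))⁻¹ = x ^ (i' : ℕ) * (b₀ : G) ^ j' * (x ^ (i' : ℕ))⁻¹ →
        i = i' := by
      intro i i' j j' hj0 hjq hle e'
      rcases eq_or_lt_of_le hle with h1 | h1
      · exact Fin.ext h1
      exfalso
      obtain ⟨d, hd⟩ := Nat.exists_eq_add_of_le h1.le
      have hlt := i'.2
      rw [hd, pow_add] at e'
      have e2 : x ^ d * (b₀ : G) ^ j' * (x ^ d)⁻¹ = (b₀ : G) ^ j := by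
        calc x ^ d * (b₀ : G) ^ j' * (x ^ d)⁻¹
            = (x ^ (i : ℕ))⁻¹ * (x ^ (i : ℕ) * x ^ d * (b₀ : G) ^ j' * (x ^ (i : ℕ) * x ^ d)⁻¹) * x ^ (i : ℕ) := by
              group
          _ = (b₀ : G) ^ j := by rw [← e']; group
      refine hxiN d (by omega) (by omega) (hkD _ (pow_mem b₀.2 j') (fun e3 => hb0j j hj0 hjq ?_) _
        (e2 ▸ pow_mem b₀.2 j))
      rw [← e2, e3, mul_one, mul_inv_cancel]
    have hne : ∀ (i : ℕ) (j : Fin (q - 1)), x ^ i * (b₀ : G) ^ (j.val + 1) * (x ^ i)⁻¹ ≠ 1 := fun i j e' =>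
      hb0j _ (by omega) (by have := j.2; omega) (conj_eq_one_iff.1 e')
    rintro (_ | ⟨i, j⟩) (_ | ⟨i', j'⟩) e'
    · rfl
    · exact absurd (congrArg Subtype.val e').symm (hne i' j')
    · exact absurd (congrArg Subtype.val e') (hne i j)
    · have e2 : x ^ (i : ℕ) * (b₀ : G) ^ (j.val + 1) * (x ^ (i : ℕ))⁻¹ =
          x ^ (i' : ℕ) * (b₀ : G) ^ (j'.val + 1) * (x ^ (i' : ℕ))⁻¹ := congrArg Subtype.val e'
      have hii : i = i' := by
        rcases le_total (i : ℕ) i' with hle | hle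
        · exact key i i' _ _ (by omega) (by have := j.2; omega) hle e2
        · exact (key i' i _ _ (by omega) (by have := j'.2; omega) hle e2.symm).symm
      subst hii
      have e3 := pow_eq_pow_iff_modEq.1 (mul_left_cancel (mul_right_cancel e2))
      rw [hb0] at e3
      have h4 := Nat.ModEq.eq_of_lt_of_lt e3 (by have := j.2; omega) (by have := j'.2; omega)
      exact congrArg some (Prod.ext rfl (Fin.ext (by simpa using h4)))
  have hT1 := Nat.card_le_card_of_injective F hFinj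
  rw [Finite.card_option, Nat.card_prod, Nat.card_fin, Nat.card_fin] at hT1
  have hqp : q ∣ p - 1 := hqD.trans (hDe.trans hep)
  have hp3 : p = 3 ∧ q = 2 := by
    have hp2' := h.hp2
    have hple : p ≤ q + 1 := by
      obtain ⟨q', rfl⟩ : ∃ q', q = q' + 2 := ⟨q - 2, by have := hq.two_le; omega⟩
      by_contra hlt
      push_neg at hlt
      have h1 : (q' + 4) * (q' + 1) ≤ p * (q' + 1) := Nat.mul_le_mul_right _ hlt
      have h2 : p * (q' + 2 - 1) + 1 ≤ (q' + 2) * (q' + 2) := hT1.trans hT2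
      rw [show q' + 2 - 1 = q' + 1 by omega] at h2
      nlinarith
    have hqle := Nat.le_of_dvd (by have := hp.out.two_le; omega) hqp
    have heven : 2 ∣ q := by
      obtain ⟨k, hk⟩ := hp.out.odd_of_ne_two hp2'
      exact ⟨k, by have := hp.out.two_le; omega⟩
    have hq2 : q = 2 := ((Nat.prime_dvd_prime_iff_eq Nat.prime_two hq).1 heven).symm
    have := hp.out.two_le
    exact ⟨by omega, hq2⟩
  obtain ⟨hp3, hq2⟩ := hp3
  have he2 : e = 2 := by
    have h1 := Nat.le_of_dvd (by omega) hep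
    have h2 : 0 < e := Nat.card_pos
    omega
  have hd2 : Nat.card D = 2 := by
    have h1 := Nat.le_of_dvd (by omega) hDe
    have h2 : 0 < Nat.card D := Nat.card_pos
    omega
  have hH4 : Nat.card H = 4 := by rw [← hHde, hd2, he2]
  have hTeq : T = H := Subgroup.eq_of_le_of_card_ge hTH (by
    rw [hH4]
    subst hq2
    rw [hp3] at hT1
    omega)
  have hsq : ∀ b ∈ H, b * b = 1 := fun b hb => by
    have h1 : b ^ q = 1 := (hTeq.ge hb).2
    rwa [hq2, sq] at h1
  have hinvH : ∀ b ∈ H, b ≠ 1 → orderOf b = 2 := fun b hb hb1 =>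
    orderOf_eq_prime (by rw [sq]; exact hsq b hb) hb1
  haveI : Fact (Nat.Prime 2) := ⟨Nat.prime_two⟩
  have hd02 : orderOf d₀ = 2 := hinvH d₀ hd0D.1 hd01
  -- `H` is a Sylow `2`-subgroup
  obtain rfl : r = 2 := (Nat.prime_dvd_prime_iff_eq hr Nat.prime_two).1 (he2 ▸ hre)
  have hH2 : IsPGroup 2 H := IsPGroup.of_card (n := 2) (by rw [hH4]; rfl)
  have hRH : (R : Subgroup G) = H := (R.is_maximal' hH2 (hRA.trans hAH)).symm
  have hCH : ∀ z : G, (∀ b ∈ H, z * b = b * z) → z ∈ H := fun z hz =>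
    hAH (mem_centralizer_iff.2 fun y hy => (hz y (Subgroup.map_subtype_le _ hy)).symm)
  -- the involutions
  have hone : ∀ b ∈ H, b ≠ 1 → ∃ i : ℕ, x ^ i * d₀ * (x ^ i)⁻¹ = b := by
    let E : Option (Fin p) → H := fun o =>
      o.elim 1 fun i => ⟨x ^ (i : ℕ) * d₀ * (x ^ (i : ℕ))⁻¹, hxiH i d₀ hd0D.1⟩
    have hEinj : Function.Injective E := by
      rintro (_ | i) (_ | i') e'
      · rfl
      · exact absurd (conj_eq_one_iff.1 (congrArg Subtype.val e').symm) hd01
      · exact absurd (conj_eq_one_iff.1 (congrArg Subtype.val e')) hd01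
      · have key : ∀ a b : Fin p, (a : ℕ) ≤ b →
            x ^ (a : ℕ) * d₀ * (x ^ (a : ℕ))⁻¹ = x ^ (b : ℕ) * d₀ * (x ^ (b : ℕ))⁻¹ → a = b := by
          intro a b hle e2
          rcases eq_or_lt_of_le hle with h1 | h1
          · exact Fin.ext h1
          exfalso
          obtain ⟨d, hd⟩ := Nat.exists_eq_add_of_le h1.le
          have hlt := b.2
          rw [hd, pow_add] at e2
          refine hxiN d (by omega) (by omega) (hkD d₀ hd0D hd01 _ ?_)
          have e3 : x ^ d * d₀ * (x ^ d)⁻¹ = d₀ := by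
            calc x ^ d * d₀ * (x ^ d)⁻¹
                = (x ^ (a : ℕ))⁻¹ * (x ^ (a : ℕ) * x ^ d * d₀ * (x ^ (a : ℕ) * x ^ d)⁻¹) * x ^ (a : ℕ) := by
                  group
              _ = d₀ := by rw [← e2]; group
          rw [e3]; exact hd0D
        rcases le_total (i : ℕ) i' with hle | hle
        · exact congrArg some (key i i' hle (congrArg Subtype.val e'))
        · exact congrArg some (key i' i hle (congrArg Subtype.val e').symm).symm
    have hEb : Function.Bijective E := (Nat.bijective_iff_injective_and_card E).2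
      ⟨hEinj, by rw [Finite.card_option, Nat.card_fin, hH4, hp3]⟩
    intro b hb hb1
    obtain ⟨(_ | i), hi⟩ := hEb.2 ⟨b, hb⟩
    · exact absurd (congrArg Subtype.val hi).symm hb1
    · exact ⟨i, congrArg Subtype.val hi⟩
  have hconjR : ∀ S : Sylow 2 G, ∃ c : G, (∀ z, z ∈ (S : Subgroup G) ↔ c⁻¹ * z * c ∈ H) ∧
      Nat.card (S : Subgroup G) = 4 := by
    intro S
    obtain ⟨c, rfl⟩ := MulAction.exists_smul_eq G R S
    refine ⟨c, fun z => ?_, ?_⟩
    · rw [Sylow.coe_subgroup_smul, Subgroup.mem_pointwise_smul_iff_inv_smul_mem, hRH]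
      simp [MulAut.smul_def]
    · rw [← hH4, ← hRH]
      exact Nat.card_congr ((c • R).equiv R).toEquiv
  have hconj : ∀ t : G, orderOf t = 2 → ∃ g : G, g * d₀ * g⁻¹ = t := by
    intro t ht
    obtain ⟨S, hS⟩ := exists_sylow_mem (p := 2) (g := t) ⟨1, by rw [ht, pow_one]⟩
    obtain ⟨c, hc, -⟩ := hconjR S
    obtain ⟨i, hi⟩ := hone _ ((hc t).1 hS) (fun e' => by
      have h1 := hord c t
      rw [e', orderOf_one, ht] at h1
      omega)
    refine ⟨c * x ^ i, ?_⟩
    calc c * x ^ i * d₀ * (c * x ^ i)⁻¹ = c * (x ^ i * d₀ * (x ^ i)⁻¹) * c⁻¹ := by group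
      _ = t := by rw [hi]; group
  have hC0 : ∀ z, z * d₀ = d₀ * z ↔ z ∈ normalizer ((P : Subgroup G) : Set G) := fun z =>
    ⟨fun hz => hdcent d₀ hd0D hd01 (mem_centralizer_singleton_iff.2 hz), fun hz => by
      obtain ⟨a, ha, b, hb, rfl⟩ := hdec z hz
      exact ((show Commute a d₀ from mem_centralizer_singleton_iff.1 (hPC d₀ hd0D ha)).mul_left
        (hcommH hb hd0D.1)).eq⟩
  have hnsmul : ∀ g z : G, z ∈ normalizer (((g • P : Sylow p G) : Subgroup G) : Set G) ↔
      g⁻¹ * z * g ∈ normalizer ((P : Subgroup G) : Set G) := fun g z => by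
    constructor
    · intro hz
      refine Sylow.smul_eq_iff_mem_normalizer.1 ?_
      rw [mul_smul, mul_smul, Sylow.smul_eq_iff_mem_normalizer.2 hz, inv_smul_smul]
    · intro hz
      refine Sylow.smul_eq_iff_mem_normalizer.1 ?_
      have h1 := Sylow.smul_eq_iff_mem_normalizer.2 hz
      rw [mul_smul, mul_smul, inv_smul_eq_iff] at h1
      exact h1
  have hCw : ∀ g z : G, z * (g * d₀ * g⁻¹) = g * d₀ * g⁻¹ * z ↔
      z ∈ normalizer (((g • P : Sylow p G) : Subgroup G) : Set G) := fun g z => by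
    rw [hnsmul, ← hC0]
    constructor
    · intro e'
      calc g⁻¹ * z * g * d₀ = g⁻¹ * (z * (g * d₀ * g⁻¹)) * g := by group
        _ = d₀ * (g⁻¹ * z * g) := by rw [e']; group
    · intro e'
      calc z * (g * d₀ * g⁻¹) = g * (g⁻¹ * z * g * d₀) * g⁻¹ := by group
        _ = g * d₀ * g⁻¹ * z := by rw [e']; group
  have hsqP : ∀ g z : G, z ∈ normalizer (((g • P : Sylow p G) : Subgroup G) : Set G) →
      z * z ∈ ((g • P : Sylow p G) : Subgroup G) := by
    intro g z hz
    obtain ⟨a, ha, b, hb, hab⟩ := hdec _ ((hnsmul g z).1 hz)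
    rw [hmem_smul]
    have e' : g⁻¹ * (z * z) * g = a * (b * a * b⁻¹) * (b * b) := by
      calc g⁻¹ * (z * z) * g = (g⁻¹ * z * g) * (g⁻¹ * z * g) := by group
        _ = _ := by rw [hab]; group
    rw [e', hsq b hb, mul_one]
    exact mul_mem ha ((Subgroup.mem_normalizer_iff.1 (hHN hb) a).1 ha)
  have hne1 : ∀ {t : G}, orderOf t = 2 → t ≠ 1 := fun {t} ht e' => by rw [e', orderOf_one] at ht; omega
  have hinv2 : ∀ {t : G}, orderOf t = 2 → t⁻¹ = t := fun {t} ht =>
    inv_eq_of_mul_eq_one_right (by rw [← sq, ← ht, pow_orderOf_eq_one])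
  have hmulinv : ∀ {t v : G}, orderOf t = 2 → orderOf v = 2 → t ≠ v → t * v ≠ 1 := fun {t v} _ hv hne e' =>
    hne (by rw [eq_inv_of_mul_eq_one_left e', hinv2 hv])
  -- commuting pairs
  have h12 : ∀ t v : G, orderOf t = 2 → orderOf v = 2 → t ≠ v → t * v = v * t →
      orderOf (t * v) = 2 ∧ ∀ z : G, z * t = t * z → z * v = v * z → z ≠ 1 → z ≠ t → z ≠ v → z = t * v := by
    intro t v ht hv hne hc
    have hvN : v ∈ normalizer ((zpowers t : Subgroup G) : Set G) := mem_normalizer_of_conj fun w hw => by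
      obtain ⟨i, rfl⟩ := mem_zpowers_iff.1 hw
      rw [← conj_zpow, ← hc, mul_inv_cancel_right]
      exact zpow_mem (mem_zpowers t) i
    obtain ⟨S, hS⟩ := (isPGroup_sup_zpowers 2 (zpowers t)
      (IsPGroup.of_card (n := 1) (by rw [Nat.card_zpowers, ht, pow_one])) v hvN
      (by rw [← hv, pow_orderOf_eq_one]; exact one_mem _)).exists_le_sylow
    have htS : t ∈ (S : Subgroup G) := hS (mem_sup_left (mem_zpowers t))
    have hvS : v ∈ (S : Subgroup G) := hS (mem_sup_right (mem_zpowers v))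
    obtain ⟨c, hcm, hS4⟩ := hconjR S
    refine ⟨orderOf_eq_prime ?_ (hmulinv ht hv hne), fun z hzt hzv hz1 hznt hznv => ?_⟩
    · rw [(show Commute t v from hc).mul_pow, ← ht, pow_orderOf_eq_one, ht, ← hv, pow_orderOf_eq_one,
        one_mul]
    have hsur : ∀ w ∈ (S : Subgroup G), w = 1 ∨ w = t ∨ w = v ∨ w = t * v := by
      letI : Fintype (S : Subgroup G) := Fintype.ofFinite _
      let U : Finset (S : Subgroup G) := {1, ⟨t, htS⟩, ⟨v, hvS⟩, ⟨t * v, mul_mem htS hvS⟩}
      have hU : U = Finset.univ := by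
        refine Finset.eq_univ_of_card U ?_
        rw [← Nat.card_eq_fintype_card, hS4]
        refine Finset.card_eq_four.2 ⟨_, _, _, _, ?_, ?_, ?_, ?_, ?_, ?_, rfl⟩
        · exact fun e' => hne1 ht (congrArg Subtype.val e').symm
        · exact fun e' => hne1 hv (congrArg Subtype.val e').symm
        · exact fun e' => hmulinv ht hv hne (congrArg Subtype.val e').symm
        · exact fun e' => hne (congrArg Subtype.val e')
        · exact fun e' => hne1 hv (by
            have e2 : t = t * v := congrArg Subtype.val e'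
            simpa using e2.symm)
        · exact fun e' => hne1 ht (by
            have e2 : v = t * v := congrArg Subtype.val e'
            simpa using e2.symm)
      intro w hw
      have hm : (⟨w, hw⟩ : (S : Subgroup G)) ∈ U := hU ▸ Finset.mem_univ _
      simp only [U, Finset.mem_insert, Finset.mem_singleton] at hm
      rcases hm with e' | e' | e' | e'
      · exact Or.inl (congrArg Subtype.val e')
      · exact Or.inr (Or.inl (congrArg Subtype.val e'))
      · exact Or.inr (Or.inr (Or.inl (congrArg Subtype.val e')))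
      · exact Or.inr (Or.inr (Or.inr (congrArg Subtype.val e')))
    have hzS : z ∈ (S : Subgroup G) := (hcm z).2 (hCH _ fun b hb => by
      have hwS : c * b * c⁻¹ ∈ (S : Subgroup G) := (hcm _).2 (by
        rw [show c⁻¹ * (c * b * c⁻¹) * c = b by group]; exact hb)
      have hzw : z * (c * b * c⁻¹) = c * b * c⁻¹ * z := by
        rcases hsur _ hwS with e' | e' | e' | e' <;> rw [e']
        · rw [mul_one, one_mul]
        · exact hzt
        · exact hzv
        · exact ((show Commute z t from hzt).mul_right hzv).eq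
      calc c⁻¹ * z * c * b = c⁻¹ * (z * (c * b * c⁻¹)) * c := by group
        _ = b * (c⁻¹ * z * c) := by rw [hzw]; group)
    rcases hsur z hzS with e' | e' | e' | e'
    · exact absurd e' hz1
    · exact absurd e' hznt
    · exact absurd e' hznv
    · exact e'
  -- non-commuting pairs
  have h13 : ∀ t v : G, orderOf t = 2 → orderOf v = 2 → t * v ≠ v * t →
      ∃ w : G, (orderOf w = 2 ∧ w * t = t * w ∧ w * v = v * w ∧ w ≠ t ∧ w ≠ v) ∧
        ∀ w' : G, orderOf w' = 2 → w' * t = t * w' → w' * v = v * w' → w' = w := by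
    intro t v ht hv htv
    set y := t * v with hy
    have hty : t * y * t⁻¹ = y⁻¹ := by
      rw [hy, mul_inv_rev, hinv2 hv, hinv2 ht, show t * (t * v) = (t * t) * v from (mul_assoc _ _ _).symm,
        show t * t = 1 by rw [← sq, ← ht, pow_orderOf_eq_one], one_mul]
    have hy2 : y * y ≠ 1 := fun e' => htv (by
      have h1 : y⁻¹ = y := inv_eq_of_mul_eq_one_right e'
      calc t * v = y⁻¹ := h1.symm
        _ = v * t := by rw [hy, mul_inv_rev, hinv2 hv, hinv2 ht])
    have hvy : v = t⁻¹ * y := by rw [hy, inv_mul_cancel_left]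
    have huniq : ∀ w w' : G, orderOf w = 2 → w * t = t * w → w * v = v * w → orderOf w' = 2 →
        w' * t = t * w' → w' * v = v * w' → w' = w := by
      intro w w' hw hwt hwv hw' hwt' hwv'
      obtain ⟨g, rfl⟩ := hconj w hw
      obtain ⟨g', rfl⟩ := hconj w' hw'
      have hy1' : y ∈ normalizer (((g • P : Sylow p G) : Subgroup G) : Set G) :=
        (hCw g y).1 ((show Commute _ t from hwt).mul_right hwv).symm.eq
      have hy2' : y ∈ normalizer (((g' • P : Sylow p G) : Subgroup G) : Set G) :=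
        (hCw g' y).1 ((show Commute _ t from hwt').mul_right hwv').symm.eq
      have hQ : g' • P = g • P := h.sylow_eq _ _ (hsqP g y hy1') (hsqP g' y hy2') hy2
      have h1 : g⁻¹ * g' ∈ normalizer ((P : Subgroup G) : Set G) :=
        Sylow.smul_eq_iff_mem_normalizer.1 (by rw [mul_smul, hQ, inv_smul_smul])
      have h2 := (hC0 _).2 h1
      calc g' * d₀ * g'⁻¹ = g * (g⁻¹ * g' * d₀) * g'⁻¹ := by group
        _ = g * d₀ * g⁻¹ := by rw [h2]; group
    obtain ⟨s, hs, hsd⟩ := Nat.exists_prime_and_dvd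
      (show orderOf (y * y) ≠ 1 from fun e' => hy2 (orderOf_eq_one_iff.1 e'))
    haveI : Fact s.Prime := ⟨hs⟩
    set z := (y * y) ^ (orderOf (y * y) / s) with hzdef
    have hz : orderOf z = s := orderOf_pow_orderOf_div (orderOf_pos _).ne' hsd
    have hz1 : z ≠ 1 := fun e' => by rw [e', orderOf_one] at hz; exact hs.ne_one hz.symm
    have hzy : Commute z y := ((Commute.refl y).mul_left (Commute.refl y)).pow_left _
    have htz : t * z * t⁻¹ = z⁻¹ := by
      rw [hzdef, ← conj_pow, ← inv_pow, mul_inv_rev]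
      congr 1
      calc t * (y * y) * t⁻¹ = (t * y * t⁻¹) * (t * y * t⁻¹) := by group
        _ = y⁻¹ * y⁻¹ := by rw [hty]
    have hvz : v * z * v⁻¹ = z⁻¹ := by
      calc v * z * v⁻¹ = t⁻¹ * (y * z * y⁻¹) * t := by rw [hvy]; group
        _ = t * z * t⁻¹ := by rw [← hzy.eq, mul_inv_cancel_right, hinv2 ht]
        _ = z⁻¹ := htz
    have hnyt : ∀ u : G, (u = t ∨ u = v) → u * y ≠ y * u := by
      rintro u (rfl | rfl) e'
      · rw [e', mul_inv_cancel_right] at hty
        exact hy2 (eq_inv_iff_mul_eq_one.1 hty)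
      · apply htv
        rw [hy, ← mul_assoc] at e'
        exact (mul_right_cancel e').symm
    rcases eq_or_ne s 2 with rfl | hs2
    · have hzi := hinv2 hz
      have hzt : z * t = t * z := (mul_inv_eq_iff_eq_mul.1 (htz.trans hzi)).symm
      have hzv : z * v = v * z := (mul_inv_eq_iff_eq_mul.1 (hvz.trans hzi)).symm
      refine ⟨z, ⟨hz, hzt, hzv, fun e' => hnyt t (Or.inl rfl) ?_, fun e' => hnyt v (Or.inr rfl) ?_⟩,
        fun w' hw' h1 h2 => huniq z w' hz hzt hzv hw' h1 h2⟩
      · rw [← e']; exact hzy.eq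
      · rw [← e']; exact hzy.eq
    rcases eq_or_ne s p with rfl | hsp
    · obtain ⟨Q, hQ⟩ := exists_sylow_mem (p := s) (g := z) ⟨1, by rw [hz, pow_one]⟩
      obtain ⟨g, rfl⟩ := MulAction.exists_smul_eq G P Q
      have hN : ∀ u : G, (u * z * u⁻¹ = z ∨ u * z * u⁻¹ = z⁻¹) →
          u ∈ normalizer (((g • P : Sylow s G) : Subgroup G) : Set G) := fun u hu =>
        h.normalizer_zpowers_le _ hQ hz1 (mem_normalizer_of_conj fun w hw => by
          obtain ⟨j, rfl⟩ := mem_zpowers_iff.1 hw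
          rw [← conj_zpow]
          rcases hu with e' | e' <;> rw [e']
          · exact zpow_mem (mem_zpowers z) j
          · exact zpow_mem (inv_mem (mem_zpowers z)) j)
      have hwt := ((hCw g t).2 (hN t (Or.inr htz))).symm
      have hwv := ((hCw g v).2 (hN v (Or.inr hvz))).symm
      have hwz : g * d₀ * g⁻¹ * z = z * (g * d₀ * g⁻¹) := ((hCw g z).2 (le_normalizer hQ)).symm
      have hw2 : orderOf (g * d₀ * g⁻¹) = 2 := ((MulAut.conj g).orderOf_eq d₀).trans hd02
      have hnw : ∀ u : G, u * z * u⁻¹ = z⁻¹ → g * d₀ * g⁻¹ ≠ u := fun u hu e' => by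
        rw [e'] at hwz
        rw [hwz, mul_inv_cancel_right] at hu
        have h1 : orderOf z ∣ 2 := orderOf_dvd_of_pow_eq_one (by rw [sq]; exact eq_inv_iff_mul_eq_one.1 hu)
        rw [hz] at h1
        exact hs2 ((Nat.prime_dvd_prime_iff_eq hs Nat.prime_two).1 h1)
      exact ⟨g * d₀ * g⁻¹, ⟨hw2, hwt, hwv, hnw t htz, hnw v hvz⟩,
        fun w' hw' h1 h2 => huniq _ w' hw2 hwt hwv hw' h1 h2⟩
    · exfalso
      have h1 : zpowers t ≤ normalizer ((zpowers z : Subgroup G) : Set G) :=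
        zpowers_le.2 (mem_normalizer_of_conj fun w hw => by
          obtain ⟨j, rfl⟩ := mem_zpowers_iff.1 hw
          rw [← conj_zpow, htz]
          exact zpow_mem (inv_mem (mem_zpowers z)) j)
      have hW : ¬ p ∣ Nat.card (zpowers z ⊔ zpowers t : Subgroup G) := by
        intro hd
        have h2 : Nat.card (zpowers z ⊔ zpowers t : Subgroup G) ∣ orderOf z * orderOf t := by
          have hN : zpowers z ≤ normalizer ((zpowers z : Subgroup G) : Set G) := le_normalizer
          set M := normalizer ((zpowers z : Subgroup G) : Set G)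
          have h3 := Cores.card_sup_dvd ((zpowers t).subgroupOf M) ((zpowers z).subgroupOf M)
          have e : ∀ K : Subgroup G, K ≤ M → Nat.card (K.subgroupOf M) = Nat.card K := fun K hK =>
            Nat.card_congr (Subgroup.subgroupOfEquivOfLe hK).toEquiv
          rw [← Subgroup.subgroupOf_sup h1 hN, e _ (sup_le h1 hN), e _ h1, e _ hN, Nat.card_zpowers,
            Nat.card_zpowers, sup_comm, mul_comm] at h3
          exact h3
        rcases hp.out.dvd_mul.1 (hd.trans h2) with hd' | hd'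
        · rw [hz] at hd'; exact hsp ((Nat.prime_dvd_prime_iff_eq hp.out hs).1 hd').symm
        · rw [ht] at hd'; exact h.hp2 ((Nat.prime_dvd_prime_iff_eq hp.out Nat.prime_two).1 hd')
      have hc := h.comm_pprime hW (mem_sup_left (mem_zpowers z)) (mem_sup_right (mem_zpowers t))
      rw [← hc, mul_inv_cancel_right] at htz
      have h4 : orderOf z ∣ 2 :=
        orderOf_dvd_of_pow_eq_one (by rw [sq]; exact eq_inv_iff_mul_eq_one.1 htz)
      exact hs2 ((Nat.prime_dvd_prime_iff_eq hs Nat.prime_two).1 (hz ▸ h4))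
  -- the friendship graph
  letI : Fintype {t : G // orderOf t = 2} := Fintype.ofFinite _
  haveI : Nonempty {t : G // orderOf t = 2} := ⟨⟨d₀, hd02⟩⟩
  let Rel : {t : G // orderOf t = 2} → {t : G // orderOf t = 2} → Prop := fun t v =>
    t.1 ≠ v.1 ∧ t.1 * v.1 = v.1 * t.1
  let k := (Finset.univ.filter (Rel ⟨d₀, hd02⟩)).card
  have hdeg : ∀ t, (Finset.univ.filter (Rel t)).card = k := by
    rintro ⟨t, ht⟩
    obtain ⟨g, hg⟩ := hconj t ht
    let eqv : {s : G // orderOf s = 2} ≃ {s : G // orderOf s = 2} :=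
      (MulAut.conj g).toEquiv.subtypeEquiv fun a => by
        show _ ↔ orderOf (g * a * g⁻¹) = 2
        rw [show orderOf (g * a * g⁻¹) = orderOf a from (MulAut.conj g).orderOf_eq a]
    refine (Finset.card_equiv eqv fun s => ?_).symm
    simp only [Rel, Finset.mem_filter, Finset.mem_univ, true_and]
    show _ ↔ t ≠ g * s.1 * g⁻¹ ∧ t * (g * s.1 * g⁻¹) = g * s.1 * g⁻¹ * t
    rw [← hg]
    have e1 : ∀ a b : G, g * a * g⁻¹ * (g * b * g⁻¹) = g * (a * b) * g⁻¹ := fun a b => by group
    rw [e1, e1]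
    simp only [ne_eq, mul_left_inj, mul_right_inj]
  have huniq1 : ∀ a b, a ≠ b → ∃! c, Rel a c ∧ Rel b c := by
    rintro ⟨t, ht⟩ ⟨v, hv⟩ hne
    replace hne : t ≠ v := fun e' => hne (Subtype.ext e')
    by_cases hc : t * v = v * t
    · obtain ⟨ho, hu⟩ := h12 t v ht hv hne hc
      refine ⟨⟨t * v, ho⟩, ⟨⟨fun e' => hne1 hv ?_, ?_⟩, ⟨fun e' => hne1 ht ?_, ?_⟩⟩, ?_⟩
      · have e2 : t = t * v := e'
        simpa using e2.symm
      · show t * (t * v) = t * v * t
        rw [mul_assoc, ← hc]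
      · have e2 : v = t * v := e'
        simpa using e2.symm
      · show v * (t * v) = t * v * v
        rw [← mul_assoc, ← hc]
      · rintro ⟨z, hz⟩ ⟨⟨hzt, hzt'⟩, ⟨hzv, hzv'⟩⟩
        exact Subtype.ext (hu z hzt'.symm hzv'.symm (hne1 hz) (Ne.symm hzt) (Ne.symm hzv))
    · obtain ⟨w, ⟨hw, hwt, hwv, hnt, hnv⟩, hu⟩ := h13 t v ht hv hc
      exact ⟨⟨w, hw⟩, ⟨⟨Ne.symm hnt, hwt.symm⟩, ⟨Ne.symm hnv, hwv.symm⟩⟩,
        fun z hz => Subtype.ext (hu z.1 z.2 hz.1.2.symm hz.2.2.symm)⟩
  have hk : k ≤ 2 := friendship_regular_degree_le_two Rel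
    (fun a b hab => ⟨Ne.symm hab.1, hab.2.symm⟩) (fun a ha => ha.1 rfl) k hdeg huniq1
  -- three neighbours of `d₀`
  have hg01 : g₀ ≠ 1 := fun e' => hg0c (e' ▸ one_mem _)
  have hg02 : orderOf g₀ = 2 := hinvH g₀ hg0H hg01
  have hne : d₀ ≠ g₀ := fun e' => hg0c (e' ▸ hd0)
  have hcdg : d₀ * g₀ = g₀ * d₀ := hcommH hd0D.1 hg0H
  have ho : orderOf (d₀ * g₀) = 2 := (h12 d₀ g₀ hd02 hg02 hne hcdg).1
  set g₁ := x₀ * g₀ * x₀⁻¹ with hg1
  have hg12 : orderOf g₁ = 2 := ((MulAut.conj x₀).orderOf_eq g₀).trans hg02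
  have hxd : x₀ * d₀ = d₀ * x₀ := mem_centralizer_singleton_iff.1 (hPC d₀ hd0D hx0P)
  have hd0g1 : d₀ * g₁ = g₁ * d₀ := by
    have c1 : Commute d₀ x₀ := hxd.symm
    exact ((c1.mul_right hcdg).mul_right c1.inv_right).eq
  have hn1 : g₁ ≠ g₀ := fun e' => hg0c (h.mem_centralizer P hx0P hx01
    ((mul_inv_eq_iff_eq_mul.1 (show x₀ * g₀ * x₀⁻¹ = g₀ from e')).symm))
  have hn2 : g₁ ≠ d₀ * g₀ := fun e' => hd01 (eq_one_of_both hd0p P.isPGroup' (by
    have h1 : d₀ = x₀ * (g₀ * x₀⁻¹ * g₀⁻¹) := by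
      calc d₀ = d₀ * g₀ * g₀⁻¹ := (mul_inv_cancel_right _ _).symm
        _ = g₁ * g₀⁻¹ := by rw [e']
        _ = x₀ * (g₀ * x₀⁻¹ * g₀⁻¹) := by rw [hg1]; group
    rw [h1]
    exact mul_mem hx0P ((Subgroup.mem_normalizer_iff.1 (hHN hg0H) _).1 (inv_mem hx0P))))
  have h3 : 3 ≤ k := by
    let U : Finset {t : G // orderOf t = 2} := {⟨g₀, hg02⟩, ⟨d₀ * g₀, ho⟩, ⟨g₁, hg12⟩}
    have hU : U.card = 3 := by
      refine Finset.card_eq_three.2 ⟨_, _, _, ?_, ?_, ?_, rfl⟩
      · exact fun e' => hd01 (by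
          have e2 : g₀ = d₀ * g₀ := congrArg Subtype.val e'
          simpa using e2.symm)
      · exact fun e' => hn1 (congrArg Subtype.val e').symm
      · exact fun e' => hn2 (congrArg Subtype.val e').symm
    rw [← hU]
    refine Finset.card_le_card fun s hs => ?_
    simp only [U, Finset.mem_insert, Finset.mem_singleton] at hs
    rw [Finset.mem_filter]
    refine ⟨Finset.mem_univ _, ?_⟩
    rcases hs with rfl | rfl | rfl
    · exact ⟨hne, hcdg⟩
    · refine ⟨fun e' => hg01 ?_, ?_⟩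
      · have e2 : d₀ = d₀ * g₀ := e'
        simpa using e2.symm
      · show d₀ * (d₀ * g₀) = d₀ * g₀ * d₀
        rw [mul_assoc, ← hcdg]
    · refine ⟨fun e' => hg0c ?_, hd0g1⟩
      have e2 : d₀ = x₀ * g₀ * x₀⁻¹ := e'
      have e3 : g₀ = d₀ := by
        calc g₀ = x₀⁻¹ * (x₀ * g₀ * x₀⁻¹) * x₀ := by group
          _ = x₀⁻¹ * (d₀ * x₀) := by rw [← e2, mul_assoc]
          _ = d₀ := by rw [← hxd, inv_mul_cancel_left]
      exact e3 ▸ hd0
  omega

end Cfg

end Cfsg.Agent.H74.CyclicAb
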