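import Cfsg.Agent.H74.CyclicCA
import Cfsg.Agent.H74.CyclicFriend

/-!
Cyclic Sylow `p`-subgroups and abelian subgroups of order prime to `p`: normal complement or
normal Sylow subgroup.
-/

namespace Cfsg.Agent.H74.CyclicAb

open Subgroup
open scoped IsMulCommutative

universe u

variable {G : Type u} [Group G] [Finite G] {p : ℕ} [hp : Fact p.Prime]

theorem habP_subgroup (h : HabP p G) (L : Subgroup G) : HabP p L := fun H hH => by
  haveI := h (H.map L.subtype) (by rwa [Subgroup.card_map_of_injective L.subtype_injective])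
  refine ⟨⟨fun a b => Subtype.ext (Subtype.ext ?_)⟩⟩
  show ((a : L) : G) * ((b : L) : G) = ((b : L) : G) * ((a : L) : G)
  exact congrArg Subtype.val
    (mul_comm (⟨_, ⟨a.1, a.2, rfl⟩⟩ : H.map L.subtype) ⟨_, ⟨b.1, b.2, rfl⟩⟩)

omit hp in
theorem cyclic_subgroup (h : ∀ P : Sylow p G, IsCyclic (P : Subgroup G)) (L : Subgroup G)
    (Q : Sylow p L) : IsCyclic (Q : Subgroup L) := by
  obtain ⟨P, hP⟩ := (Q.isPGroup'.map L.subtype).exists_le_sylow
  haveI := h P
  let f : (Q : Subgroup L) →* (P : Subgroup G) :=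
    (Subgroup.inclusion hP).comp ((Q : Subgroup L).equivMapOfInjective L.subtype L.subtype_injective).toMonoidHom
  exact isCyclic_of_injective f ((Subgroup.inclusion_injective hP).comp (MulEquiv.injective _))

theorem habP_quotient (h : HabP p G) (N : Subgroup G) [N.Normal] (hN : ¬ p ∣ Nat.card N) :
    HabP p (G ⧸ N) := fun K hK => by
  set π := QuotientGroup.mk' N
  have hπ : Function.Surjective π := QuotientGroup.mk'_surjective N
  have hc : ¬ p ∣ Nat.card (K.comap π) := by
    have h1 : Nat.card (K.comap π) = Nat.card K * Nat.card N := by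
      have h2 := (K.comap π).card_mul_index
      rw [Subgroup.index_comap_of_surjective K hπ, ← N.card_mul_index, Subgroup.index_eq_card N,
        ← K.card_mul_index] at h2
      have h3 : 0 < K.index := Nat.pos_of_ne_zero Subgroup.index_ne_zero_of_finite
      exact Nat.eq_of_mul_eq_mul_right h3 (h2.trans (by ring))
    rw [h1]
    exact hp.out.not_dvd_mul hK hN
  haveI := h _ hc
  refine ⟨⟨fun a b => Subtype.ext ?_⟩⟩
  obtain ⟨x, hx⟩ := hπ a.1
  obtain ⟨y, hy⟩ := hπ b.1
  show (a : G ⧸ N) * b = b * a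
  rw [← hx, ← hy, ← map_mul, ← map_mul]
  exact congrArg π (congrArg Subtype.val (mul_comm
    (⟨x, show π x ∈ K by rw [hx]; exact a.2⟩ : K.comap π) ⟨y, show π y ∈ K by rw [hy]; exact b.2⟩))

/-- A normal complement of a normal subgroup gives a normal subgroup of order prime to `p`. -/
theorem normal_map_of_complement {L : Subgroup G} [L.Normal] {Q : Sylow p L} {K : Subgroup L}
    (hKn : K.Normal) (hK : K.IsComplement' (Q : Subgroup L)) :
    (K.map L.subtype).Normal ∧ ¬ p ∣ Nat.card (K.map L.subtype) := by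
  haveI := hKn
  have hKp : ¬ p ∣ Nat.card K := Fusion.not_dvd_card_of_isComplement' Q hK
  obtain ⟨k, hk⟩ := IsPGroup.iff_card.1 Q.isPGroup'
  refine ⟨⟨?_⟩, by rwa [Subgroup.card_map_of_injective L.subtype_injective]⟩
  rintro _ ⟨⟨z, hz⟩, hzK, rfl⟩ g
  have hgz : g * z * g⁻¹ ∈ L := Subgroup.Normal.conj_mem ‹_› z hz g
  refine ⟨⟨_, hgz⟩, ?_, rfl⟩
  show (⟨g * z * g⁻¹, hgz⟩ : L) ∈ K
  have hcop : (orderOf (⟨g * z * g⁻¹, hgz⟩ : L)).Coprime p := by
    rw [Subgroup.orderOf_mk, show orderOf (g * z * g⁻¹) = orderOf z from (MulAut.conj g).orderOf_eq z,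
      ← Subgroup.orderOf_mk z hz]
    exact coprime_of_mem hKp hzK
  rw [← QuotientGroup.eq_one_iff, ← orderOf_eq_one_iff]
  refine Nat.eq_one_of_dvd_coprimes (hcop.pow_right k) (orderOf_map_dvd (QuotientGroup.mk' K) _) ?_
  rw [← hk, ← hK.symm.index_eq_card, Subgroup.index_eq_card]
  exact orderOf_dvd_natCard _

theorem main : ∀ (n : ℕ) (G : Type u) [Group G] [Finite G], Nat.card G = n →
    (∀ P : Sylow p G, IsCyclic (P : Subgroup G)) → HabP p G →
    HasNormalPComplement p G ∨ ∀ P : Sylow p G, (P : Subgroup G).Normal := by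
  intro n
  induction n using Nat.strong_induction_on with
  | _ n ih =>
  intro G _ _ hn hcyc hab
  by_contra hcon
  push_neg at hcon
  obtain ⟨hnpc, P₀, hP₀⟩ := hcon
  have hcomm : ∀ P : Sylow p G, ∀ a ∈ (P : Subgroup G), ∀ b ∈ (P : Subgroup G), a * b = b * a := by
    intro P a ha b hb
    haveI := hcyc P
    letI : CommGroup (P : Subgroup G) := IsCyclic.commGroup
    exact congrArg Subtype.val (mul_comm (⟨a, ha⟩ : (P : Subgroup G)) ⟨b, hb⟩)
  have hnc : ∀ P : Sylow p G,
      ¬ normalizer ((P : Subgroup G) : Set G) ≤ centralizer ((P : Subgroup G) : Set G) :=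
    fun P hle => hnpc (Fusion.hasNormalPComplement_of_normalizer_le_centralizer P hle)
  have hp2 : p ≠ 2 := by
    rintro rfl
    refine hnc P₀ ?_
    by_cases h2 : 2 ∣ Nat.card G
    · exact IsCyclic.normalizer_le_centralizer
        ((Nat.minFac_eq_two_iff _).2 h2) (hcyc P₀)
    · intro g _
      refine mem_centralizer_iff.2 fun x hx => ?_
      have h1 : x = 1 := eq_one_of_both
        ((Nat.prime_two.coprime_iff_not_dvd.2 h2).coprime_dvd_right (orderOf_dvd_natCard x)).symm
        P₀.isPGroup' hx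
      rw [h1, one_mul, mul_one]
  have hsub : ∀ L : Subgroup G, L ≠ ⊤ →
      HasNormalPComplement p L ∨ ∀ Q : Sylow p L, (Q : Subgroup L).Normal := fun L hL =>
    ih _ (hn ▸ lt_of_le_of_ne (Subgroup.card_le_card_group L) fun e => hL (Subgroup.eq_top_of_card_eq _ e))
      L rfl (cyclic_subgroup hcyc L) (habP_subgroup hab L)
  have hmover : ∀ P : Sylow p G, ∃ g ∈ normalizer ((P : Subgroup G) : Set G), (orderOf g).Coprime p ∧
      g ∉ centralizer ((P : Subgroup G) : Set G) := by
    intro P
    obtain ⟨g, hg, hgc⟩ := SetLike.not_le_iff_exists.1 (hnc P)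
    obtain ⟨a, b, rfl, ha, hb, ⟨k, hak⟩, hbp⟩ := Fusion.exists_mul_eq_pPart (p := p) g
    refine ⟨b, zpowers_le.2 hg hb, hbp, fun hbc => hgc (mul_mem ?_ hbc)⟩
    obtain ⟨j, -, hj⟩ := (Nat.dvd_prime_pow hp.out).1 hak
    have haP := mem_sylow_of_normalizes P ⟨j, hj⟩ (zpowers_le.2 hg ha)
    exact mem_centralizer_iff.2 fun x hx => hcomm P x hx a haP
  -- no normal `p'`-subgroup
  have hA : ∀ N : Subgroup G, N.Normal → ¬ p ∣ Nat.card N → N = ⊥ := by
    intro N hN hNp
    by_contra hNb
    haveI := hN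
    set π := QuotientGroup.mk' N
    have hπ : Function.Surjective π := QuotientGroup.mk'_surjective N
    have hlt : Nat.card (G ⧸ N) < n := by
      rw [← hn, ← Subgroup.index_eq_card, ← N.card_mul_index]
      exact lt_mul_left (Nat.pos_of_ne_zero Subgroup.index_ne_zero_of_finite)
        ((Subgroup.one_lt_card_iff_ne_bot N).2 hNb)
    rcases ih _ hlt (G ⧸ N) rfl (fun Q => by
        obtain ⟨P, rfl⟩ := Sylow.mapSurjective_surjective hπ p Q
        haveI := hcyc P
        exact isCyclic_of_surjective _ (MonoidHom.subgroupMap_surjective π (P : Subgroup G)))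
      (habP_quotient hab N hNp) with ⟨Q, K, hKn, hK⟩ | hnorm
    · obtain ⟨P, rfl⟩ := Sylow.mapSurjective_surjective hπ p Q
      refine hnpc ⟨P, K.comap π, inferInstance, ?_⟩
      have hKp : ¬ p ∣ Nat.card K := Fusion.not_dvd_card_of_isComplement' _ hK
      have hidx : (K.comap π).index = Nat.card (P : Subgroup G) := by
        rw [Subgroup.index_comap_of_surjective K hπ, hK.symm.index_eq_card, Sylow.coe_mapSurjective]
        have h1 := Subgroup.relIndex_map_map (f := π) (H := ⊥) (K := (P : Subgroup G))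
        rw [Subgroup.map_bot, Subgroup.relIndex_bot_left, QuotientGroup.ker_mk', bot_sup_eq] at h1
        have hinf : N ⊓ (P : Subgroup G) = ⊥ := (Subgroup.eq_bot_iff_forall _).2 fun z hz =>
          eq_one_of_both (coprime_of_mem hNp hz.1) P.isPGroup' hz.2
        rw [h1, Subgroup.relIndex_sup_right, ← Subgroup.inf_relIndex_right, hinf, Subgroup.relIndex_bot_left]
      have hc := (K.comap π).card_mul_index
      rw [hidx] at hc
      refine Subgroup.isComplement'_of_coprime hc ?_
      obtain ⟨k, hk⟩ := IsPGroup.iff_card.1 P.isPGroup'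
      rw [hk]
      refine ((hp.out.coprime_iff_not_dvd.2 fun hd => ?_).pow_left k).symm
      obtain ⟨z, hz⟩ := exists_prime_orderOf_dvd_card' p hd
      rw [← Subgroup.orderOf_coe] at hz
      have h1 : π z = 1 := by
        rw [← orderOf_eq_one_iff]
        exact Nat.eq_one_of_dvd_coprimes (coprime_of_mem hKp z.2).symm
          (hz ▸ orderOf_map_dvd π (z : G)) dvd_rfl
      have h2 := coprime_of_mem hNp ((QuotientGroup.eq_one_iff _).1 h1)
      rw [hz] at h2
      exact hp.out.ne_one ((Nat.coprime_self p).1 h2)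
    · -- the Sylow subgroup centralizes `N`
      obtain ⟨g, hg, hgp, hgc⟩ := hmover P₀
      haveI := hab (zpowers g ⊔ N) (fun hd => by
        have h1 := hd.trans (Cores.card_sup_dvd (zpowers g) N)
        rw [Nat.card_zpowers] at h1
        rcases hp.out.dvd_mul.1 h1 with h2 | h2
        · exact (hp.out.coprime_iff_not_dvd.1 hgp.symm) h2
        · exact hNp h2)
      have hgN : g ∈ centralizer (N : Set G) := mem_centralizer_iff.2 fun z hz =>
        congrArg Subtype.val (mul_comm (⟨z, mem_sup_right hz⟩ : ↥(zpowers g ⊔ N))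
          ⟨g, mem_sup_left (mem_zpowers g)⟩)
      have hPC : (P₀ : Subgroup G) ≤ centralizer (N : Set G) := by
        let θ : ↥(P₀ : Subgroup G) → ↥(P₀ : Subgroup G) := fun v =>
          ⟨(v : G)⁻¹ * (g * v * g⁻¹), mul_mem (inv_mem v.2) ((Subgroup.mem_normalizer_iff.1 hg _).1 v.2)⟩
        have hθ : Function.Injective θ := by
          intro v w e
          have e' : (v : G)⁻¹ * (g * v * g⁻¹) = (w : G)⁻¹ * (g * w * g⁻¹) := congrArg Subtype.val e
          by_contra hvw
          have hu : (v : G) * (w : G)⁻¹ ∈ (P₀ : Subgroup G) := mul_mem v.2 (inv_mem w.2)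
          refine hgc (fix_all p P₀ (hcyc P₀) g hg _ hu
            (fun e1 => hvw (Subtype.ext (mul_inv_eq_one.1 e1))) (mul_inv_eq_iff_eq_mul.1 ?_))
          calc g * ((v : G) * (w : G)⁻¹) * g⁻¹
              = v * ((v : G)⁻¹ * (g * v * g⁻¹)) * ((w : G)⁻¹ * (g * w * g⁻¹))⁻¹ * (w : G)⁻¹ := by group
            _ = (v : G) * (w : G)⁻¹ := by rw [e']; group
        intro z hz
        obtain ⟨v, hv⟩ := (Finite.injective_iff_surjective.1 hθ) ⟨z, hz⟩
        have hv' : (v : G)⁻¹ * (g * v * g⁻¹) = z := congrArg Subtype.val hv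
        rw [← hv']
        have h1 := mul_mem ((inferInstance : (centralizer (N : Set G)).Normal).conj_mem g hgN (v : G)⁻¹)
          (inv_mem hgN)
        convert h1 using 1
        group
      refine hP₀ ?_
      rw [← Subgroup.normalizer_eq_top_iff, eq_top_iff]
      intro c _
      refine Sylow.smul_eq_iff_mem_normalizer.1 (eq_of_le_normalizer P₀ (c • P₀) fun z hz => ?_)
      have hz' : π z ∈ (P₀ : Subgroup G).map π := by
        haveI := hnorm (P₀.mapSurjective hπ)
        rw [Sylow.coe_subgroup_smul, Subgroup.mem_pointwise_smul_iff_inv_smul_mem] at hz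
        have h1 : π (c⁻¹ * z * c) ∈ (P₀ : Subgroup G).map π :=
          mem_map_of_mem π (by simpa [MulAut.smul_def] using hz)
        have hn' : ((P₀ : Subgroup G).map π).Normal := by
          rw [← Sylow.coe_mapSurjective hπ P₀]; infer_instance
        have h2 := hn'.conj_mem _ h1 (π c)
        convert h2 using 1
        rw [← map_mul, ← map_inv, ← map_mul]
        exact congrArg π (by group)
      obtain ⟨v, hv, hvz⟩ := hz'
      have hvN : v⁻¹ * z ∈ N := QuotientGroup.eq.1 hvz
      have hN2 : v⁻¹ * z ∈ normalizer ((P₀ : Subgroup G) : Set G) :=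
        Subgroup.centralizer_le_normalizer _ (mem_centralizer_iff.2 fun w hw =>
          (mem_centralizer_iff.1 (hPC hw) _ hvN).symm)
      have := mul_mem (le_normalizer hv) hN2
      rwa [mul_inv_cancel_left] at this
  -- no normal `p`-subgroup
  have hB : ∀ Y : Subgroup G, Y.Normal → IsPGroup p Y → Y = ⊥ := by
    intro Y hY hYp
    by_contra hYb
    haveI := hY
    obtain ⟨Q, hQ⟩ := hYp.exists_le_sylow
    have hYP : ∀ P : Sylow p G, Y ≤ (P : Subgroup G) := fun P z hz => by
      obtain ⟨c, rfl⟩ := MulAction.exists_smul_eq G Q P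
      rw [Sylow.coe_subgroup_smul, Subgroup.mem_pointwise_smul_iff_inv_smul_mem]
      simpa [MulAut.smul_def] using hQ (hY.conj_mem z hz c⁻¹)
    set L := centralizer (Y : Set G)
    haveI : L.Normal := inferInstance
    by_cases hL : L = ⊤
    · obtain ⟨g, hg, -, hgc⟩ := hmover P₀
      obtain ⟨y, hy, hy1⟩ := (Subgroup.bot_or_exists_ne_one Y).resolve_left hYb
      exact hgc (fix_all p P₀ (hcyc P₀) g hg y (hYP P₀ hy) hy1
        (mem_centralizer_iff.1 (hL ▸ mem_top g : g ∈ L) y hy).symm)
    have hPL : ∀ P : Sylow p G, (P : Subgroup G) ≤ L := fun P z hz =>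
      mem_centralizer_iff.2 fun y hy => hcomm P y (hYP P hy) z hz
    refine hP₀ ?_
    have hnL : ((P₀.subtype (hPL P₀) : Sylow p L) : Subgroup L).Normal := by
      rcases hsub L hL with ⟨S, K, hKn, hK⟩ | hn'
      · obtain ⟨h1, h2⟩ := normal_map_of_complement hKn hK
        have hKb : K = ⊥ := (Subgroup.map_eq_bot_iff_of_injective _ L.subtype_injective).1 (hA _ h1 h2)
        have hS : (S : Subgroup L) = ⊤ := by
          rw [← Subgroup.index_eq_one, hK.index_eq_card, hKb, Subgroup.card_bot]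
        have hLp : IsPGroup p (⊤ : Subgroup L) := hS ▸ S.isPGroup'
        rw [← (P₀.subtype (hPL P₀)).is_maximal' hLp le_top]
        infer_instance
      · exact hn' _
    refine Subgroup.normalizer_eq_top_iff.1 (eq_top_iff.2 fun c _ =>
      Sylow.smul_eq_iff_mem_normalizer.1 (eq_of_le_normalizer P₀ (c • P₀) fun z hz => ?_))
    refine mem_normalizer_of_conj fun w hw => ?_
    have h1 := hnL.conj_mem ⟨w, hPL P₀ hw⟩ (by simpa [Sylow.coe_subtype, Subgroup.mem_subgroupOf] using hw)
      ⟨z, hPL (c • P₀) hz⟩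
    simpa [Sylow.coe_subtype, Subgroup.mem_subgroupOf] using h1
  have hsimple : IsSimpleGroup G := by
    haveI : Nontrivial G := by
      by_contra hnt
      rw [not_nontrivial_iff_subsingleton] at hnt
      exact hP₀ ⟨fun z hz g => by rwa [Subsingleton.elim (g * z * g⁻¹) z]⟩
    refine ⟨fun N hN => ?_⟩
    by_contra hc
    push_neg at hc
    obtain ⟨hNb, hNt⟩ := hc
    haveI := hN
    by_cases hNp : p ∣ Nat.card N
    swap
    · exact hNb (hA N hN hNp)
    rcases hsub N hNt with ⟨S, K, hKn, hK⟩ | hn'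
    · obtain ⟨h1, h2⟩ := normal_map_of_complement hKn hK
      have hKb : K = ⊥ := (Subgroup.map_eq_bot_iff_of_injective _ N.subtype_injective).1 (hA _ h1 h2)
      have hS : (S : Subgroup N) = ⊤ := by
        rw [← Subgroup.index_eq_one, hK.index_eq_card, hKb, Subgroup.card_bot]
      have hN2 : IsPGroup p N := (hS ▸ S.isPGroup' : IsPGroup p (⊤ : Subgroup N)).of_equiv Subgroup.topEquiv
      exact hNb (hB N hN hN2)
    · obtain ⟨S⟩ : Nonempty (Sylow p N) := inferInstance
      haveI : (S : Subgroup N).Characteristic := S.characteristic_of_normal (hn' S)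
      have := hB ((S : Subgroup N).map N.subtype) inferInstance (S.isPGroup'.map _)
      exact S.ne_bot_of_dvd_card hNp ((Subgroup.map_eq_bot_iff_of_injective _ N.subtype_injective).1 this)
  have hcfg : Cfg p G := ⟨hp2, hsimple, hab, hcyc, hnc, hsub⟩
  by_cases hmix : ∀ x g : G, orderOf x = p → (orderOf g).Coprime p → g * x = x * g → g = 1
  · exact hcfg.ca_false hmix
  push_neg at hmix
  obtain ⟨x, g, hx, hgp, hgx, hg1⟩ := hmix
  obtain ⟨Q, hQ⟩ := exists_sylow_mem (p := p) (g := x) ⟨1, by rw [hx, pow_one]⟩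
  exact hcfg.friend_false Q
    (hcfg.mem_centralizer Q hQ (fun e => by rw [e, orderOf_one] at hx; exact hp.out.ne_one hx.symm) hgx)
    hgp hg1

end Cfsg.Agent.H74.CyclicAb
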