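import Cfsg.Agent.H74.DerivedPerm
import Cfsg.Agent.H49.KSeq
import Cfsg.Agent.H74.LocalTI

/-!
Derived length of linear `p`-groups.
-/

namespace Cfsg.Agent.H74.DerivedLinear

open Module MulAction
open scoped commutatorElement

variable {P : Type*} [Group P] {L : Type*} [Field L] {V : Type*} [AddCommGroup V] [Module L V]
variable {p : ℕ} [Fact p.Prime] (φ : P →* Module.End L V)

theorem hom_mul_apply (g h : P) (v : V) : φ (g * h) v = φ g (φ h v) := by
  rw [map_mul, Module.End.mul_apply]

theorem hom_inv_apply (g : P) (v : V) : φ g (φ g⁻¹ v) = v := by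
  rw [← hom_mul_apply, mul_inv_cancel, map_one, Module.End.one_apply]

theorem hom_inv_apply' (g : P) (v : V) : φ g⁻¹ (φ g v) = v := by
  rw [← hom_mul_apply, inv_mul_cancel, map_one, Module.End.one_apply]

/-- In characteristic `p` a nonzero module of a finite `p`-group has a nonzero fixed vector. -/
theorem exists_fixed_vector [Finite P] (hP : IsPGroup p P) [CharP L p] {v : V} (hv : v ≠ 0) :
    ∃ w : V, w ≠ 0 ∧ ∀ g, φ g w = w := by
  classical
  cases nonempty_fintype P
  have hp : p.Prime := Fact.out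
  let κ : ZMod p →+* L := ZMod.castHom dvd_rfl L
  let Φ : (P → ZMod p) →+ V :=
    { toFun := fun c => ∑ g, κ (c g) • φ g v
      map_zero' := by simp
      map_add' := fun c d => by simp [add_smul, Finset.sum_add_distrib] }
  have hΦ : ∀ c, Φ c = ∑ g, κ (c g) • φ g v := fun _ => rfl
  let W : AddSubgroup V := Φ.range
  haveI : Finite W := Finite.of_surjective Φ.rangeRestrict Φ.rangeRestrict_surjective
  have hmem : ∀ (s : P) (w : W), φ s (w : V) ∈ W := by
    rintro s ⟨w, c, rfl⟩
    refine ⟨fun g => c (s⁻¹ * g), ?_⟩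
    show Φ _ = φ s (Φ c)
    rw [hΦ, ← Equiv.sum_comp (Equiv.mulLeft s), hΦ, map_sum]
    refine Finset.sum_congr rfl fun g _ => ?_
    simp [map_mul]
  letI : MulAction P W :=
    { smul := fun s w => ⟨φ s w, hmem s w⟩
      one_smul := fun w => Subtype.ext (show φ 1 (w : V) = w by simp)
      mul_smul := fun s t w => Subtype.ext
        (show φ (s * t) (w : V) = φ s (φ t (w : V)) from hom_mul_apply φ s t _) }
  have hvW : v ∈ W := by
    refine ⟨Pi.single 1 1, ?_⟩
    rw [hΦ, Finset.sum_eq_single 1 (fun g _ hg => by simp [hg]) (fun h => absurd (Finset.mem_univ _) h)]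
    simp
  have hdvd : p ∣ Nat.card W := by
    have h1 : addOrderOf (⟨v, hvW⟩ : W) = p := by
      refine addOrderOf_eq_prime (Subtype.ext ?_) fun h => hv (congrArg Subtype.val h)
      show p • v = 0
      rw [← Nat.cast_smul_eq_nsmul L, CharP.cast_eq_zero, zero_smul]
    exact h1 ▸ addOrderOf_dvd_natCard _
  obtain ⟨w, hw, hw0⟩ := hP.exists_fixed_point_of_prime_dvd_card_of_fixed_point W hdvd
    (a := (0 : W)) (fun g => Subtype.ext (map_zero (φ g)))
  exact ⟨(w : V), fun h => hw0 (Subtype.ext h.symm), fun g => congrArg Subtype.val (hw g)⟩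

/-- The fixed-point filtration. -/
noncomputable def fixSeq : ℕ → Submodule L V
  | 0 => ⊥
  | j + 1 => ⨅ g : P, (fixSeq j).comap (φ g - 1)

theorem mem_fixSeq_succ {j : ℕ} {v : V} :
    v ∈ fixSeq φ (j + 1) ↔ ∀ g, φ g v - v ∈ fixSeq φ j := by
  simp [fixSeq, Submodule.mem_iInf]

theorem fixSeq_stable : ∀ (j : ℕ) (h : P) {v : V}, v ∈ fixSeq φ j → φ h v ∈ fixSeq φ j
  | 0, h, v, hv => by
    rw [fixSeq, Submodule.mem_bot] at hv
    simp [fixSeq, hv]
  | j + 1, h, v, hv => by
    rw [mem_fixSeq_succ] at hv ⊢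
    intro g
    have h1 := fixSeq_stable j h (hv (h⁻¹ * g * h))
    rwa [map_sub, ← hom_mul_apply, show h * (h⁻¹ * g * h) = g * h by group, hom_mul_apply] at h1

theorem fixSeq_le_succ : ∀ j, fixSeq φ j ≤ fixSeq φ (j + 1)
  | 0 => bot_le
  | j + 1 => fun _ hv => (mem_fixSeq_succ φ).2 fun g =>
      fixSeq_le_succ j ((mem_fixSeq_succ φ).1 hv g)

theorem fixSeq_mono {i j : ℕ} (h : i ≤ j) : fixSeq φ i ≤ fixSeq φ j :=
  monotone_nat_of_le_succ (fixSeq_le_succ φ) h

theorem fixSeq_lt [Finite P] (hP : IsPGroup p P) [CharP L p] {j : ℕ} (h : fixSeq φ j ≠ ⊤) :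
    fixSeq φ j < fixSeq φ (j + 1) := by
  refine lt_of_le_of_ne (fixSeq_le_succ φ j) fun heq => ?_
  let U := fixSeq φ j
  let ψ : P →* Module.End L (V ⧸ U) :=
    { toFun := fun g => U.mapQ U (φ g) fun v hv => fixSeq_stable φ j g hv
      map_one' := by ext v; simp
      map_mul' := fun g k => by ext v; simp }
  obtain ⟨v, -, hv⟩ := SetLike.exists_of_lt (lt_top_iff_ne_top.2 h)
  obtain ⟨w, hw0, hw⟩ := exists_fixed_vector ψ hP
    (v := Submodule.Quotient.mk v) (by rwa [ne_eq, Submodule.Quotient.mk_eq_zero])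
  obtain ⟨u, rfl⟩ := Submodule.Quotient.mk_surjective U w
  refine hw0 ((Submodule.Quotient.mk_eq_zero U).2 ?_)
  show u ∈ fixSeq φ j
  rw [heq, mem_fixSeq_succ]
  intro g
  exact (Submodule.Quotient.eq U).1 (hw g)

theorem fixSeq_top [Finite P] (hP : IsPGroup p P) [CharP L p] [FiniteDimensional L V] :
    fixSeq φ (finrank L V) = ⊤ := by
  by_contra hne
  have key : ∀ j, fixSeq φ j ≠ ⊤ → j < finrank L V := by
    intro j
    suffices hj : fixSeq φ j ≠ ⊤ → j ≤ finrank L ↥(fixSeq φ j) ∧
        finrank L ↥(fixSeq φ j) < finrank L V by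
      exact fun h => (hj h).1.trans_lt (hj h).2
    induction j with
    | zero => exact fun h => ⟨Nat.zero_le _, Submodule.finrank_lt h⟩
    | succ j ih =>
      intro h
      have h0 : fixSeq φ j ≠ ⊤ := fun e => h (eq_top_iff.2 (e ▸ fixSeq_le_succ φ j))
      exact ⟨Nat.succ_le_of_lt ((ih h0).1.trans_lt
        (Submodule.finrank_lt_finrank_of_lt (fixSeq_lt φ hP h0))), Submodule.finrank_lt h⟩
  exact lt_irrefl _ (key _ hne)

/-- The elements moving each term of the filtration down `m` steps. -/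
def level (m : ℕ) : Subgroup P where
  carrier := {g | ∀ j, ∀ v ∈ fixSeq φ j, φ g v - v ∈ fixSeq φ (j - m)}
  one_mem' := fun j v _ => by simp
  mul_mem' := fun {g h} hg hh j v hv => by
    have e : φ (g * h) v - v = φ g (φ h v - v) + (φ g v - v) := by
      rw [map_sub, ← hom_mul_apply]; abel
    rw [e]
    exact add_mem (fixSeq_stable φ _ g (hh j v hv)) (hg j v hv)
  inv_mem' := fun {g} hg j v hv => by
    have e : φ g⁻¹ v - v = -φ g⁻¹ (φ g v - v) := by
      rw [map_sub, hom_inv_apply', neg_sub]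
    rw [e]
    exact neg_mem (fixSeq_stable φ _ g⁻¹ (hg j v hv))

theorem derived_le_level : ∀ i, derivedSeries P i ≤ level φ (2 ^ i)
  | 0 => fun g _ j v hv => by
    rcases j with _ | j
    · rw [fixSeq, Submodule.mem_bot] at hv
      simp [hv]
    · simpa using (mem_fixSeq_succ φ).1 hv g
  | i + 1 => by
    rw [derivedSeries_succ, Subgroup.commutator_le]
    intro a ha b hb j v hv
    have hA := derived_le_level i ha
    have hB := derived_le_level i hb
    set m := 2 ^ i
    have e2 : 2 ^ (i + 1) = m + m := by rw [pow_succ]; omega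
    set u := φ (a⁻¹ * b⁻¹) v with hu
    have huj : u ∈ fixSeq φ j := fixSeq_stable φ j _ hv
    have ev : φ ⁅a, b⁆ v - v = φ a (φ b u) - φ b (φ a u) := by
      rw [hu, ← hom_mul_apply, ← hom_mul_apply, ← hom_mul_apply, ← hom_mul_apply,
        show a * b * (a⁻¹ * b⁻¹) = ⁅a, b⁆ by rw [commutatorElement_def]; group,
        show b * a * (a⁻¹ * b⁻¹) = 1 by group, map_one, Module.End.one_apply]
    rw [e2, ev]
    have h1 : φ a (φ b u - u) - (φ b u - u) ∈ fixSeq φ (j - m - m) := hA _ _ (hB j u huj)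
    have h2 : φ b (φ a u - u) - (φ a u - u) ∈ fixSeq φ (j - m - m) := hB _ _ (hA j u huj)
    have := sub_mem h1 h2
    rw [Nat.sub_sub] at this
    convert this using 1
    rw [map_sub, map_sub]
    abel

theorem derived_eq_bot_charP [Finite P] (hP : IsPGroup p P) [CharP L p] [FiniteDimensional L V]
    (hφ : Function.Injective φ) : derivedSeries P (Nat.log 2 (finrank L V) + 1) = ⊥ := by
  refine (Subgroup.eq_bot_iff_forall _).2 fun g hg => hφ (LinearMap.ext fun v => ?_)
  have h1 := derived_le_level φ _ hg (finrank L V) v (by rw [fixSeq_top φ hP]; trivial)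
  have h2 := Nat.lt_pow_succ_log_self one_lt_two (finrank L V)
  rw [Nat.sub_eq_zero_of_le h2.le, fixSeq, Submodule.mem_bot, sub_eq_zero] at h1
  rw [h1, map_one, Module.End.one_apply]

/-- A `p`-group has an abelian normal subgroup containing its centralizer. -/
theorem exists_selfcentral [Finite P] (hP : IsPGroup p P) :
    ∃ A : Subgroup P, A.Normal ∧ A ≤ Subgroup.centralizer (A : Set P) ∧
      Subgroup.centralizer (A : Set P) ≤ A := by
  classical
  obtain ⟨A, ⟨hAn, hA⟩, hmax⟩ := Set.Finite.exists_maximal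
    (Set.toFinite {B : Subgroup P | B.Normal ∧ B ≤ Subgroup.centralizer (B : Set P)})
    ⟨⊥, inferInstance, bot_le⟩
  refine ⟨A, hAn, hA, ?_⟩
  by_contra hne
  haveI := hAn
  have hlt : A < Subgroup.centralizer (A : Set P) := lt_of_le_of_ne hA fun h => hne h.ge
  have hn : ∀ (B : Subgroup P) [B.Normal], (⊤ : Subgroup P) ≤ Subgroup.normalizer (B : Set P) :=
    fun B _ => (Subgroup.normalizer_eq_top B).ge
  obtain ⟨x, hxC, hxn, hx⟩ := H49.exists_fixed_mod hP hlt ⊤ (hn A) (hn _) (le_top.trans (hn A))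
  set B := A ⊔ Subgroup.zpowers x with hB
  have hxA : Subgroup.zpowers x ≤ Subgroup.centralizer (A : Set P) := Subgroup.zpowers_le.2 hxC
  have hxx : Subgroup.zpowers x ≤ Subgroup.centralizer (Subgroup.zpowers x : Set P) := by
    intro y hy
    rw [Subgroup.mem_centralizer_iff]
    intro z hz
    obtain ⟨i, rfl⟩ := Subgroup.mem_zpowers_iff.1 hy
    obtain ⟨k, rfl⟩ := Subgroup.mem_zpowers_iff.1 hz
    exact (Commute.zpow_zpow_self x k i).eq
  have hBc : B ≤ Subgroup.centralizer (B : Set P) :=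
    sup_le (Subgroup.le_centralizer_iff.2 (sup_le hA hxA))
      (Subgroup.le_centralizer_iff.2 (sup_le (Subgroup.le_centralizer_iff.2 hxA) hxx))
  have hBn : B.Normal := by
    rw [← Subgroup.normalizer_eq_top_iff, eq_top_iff]
    intro q _
    refine mem_normalizer_of_conj fun z hz => ?_
    obtain ⟨c, hc, w, hw, rfl⟩ := Subgroup.mem_sup_of_normal_left.1 hz
    obtain ⟨k, rfl⟩ := Subgroup.mem_zpowers_iff.1 hw
    have h1 : q * x * q⁻¹ ∈ B := by
      have h2 : (⁅x, q⁆)⁻¹ * x ∈ B := mul_mem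
        (Subgroup.mem_sup_left (inv_mem (hx q trivial))) (Subgroup.mem_sup_right (Subgroup.mem_zpowers x))
      convert h2 using 1
      rw [commutatorElement_def]; group
    have h3 := mul_mem (Subgroup.mem_sup_left (T := Subgroup.zpowers x) (hAn.conj_mem c hc q))
      (zpow_mem h1 k)
    convert h3 using 1
    rw [conj_zpow]; group
  exact hxn (hmax ⟨hBn, hBc⟩ le_sup_left (Subgroup.mem_sup_right (Subgroup.mem_zpowers x)))

theorem derived_eq_bot_coprime [Finite P] (hP : IsPGroup p P) [IsAlgClosed L] (hpL : (p : L) ≠ 0)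
    [FiniteDimensional L V] (hφ : Function.Injective φ) :
    derivedSeries P (Nat.log p (finrank L V) + 1) = ⊥ := by
  classical
  obtain ⟨A, hAn, hA, hCA⟩ := exists_selfcentral hP
  let f : A → Module.End L V := fun a => φ a
  have hcomm : Pairwise fun a b => Commute (f a) (f b) := fun a b _ =>
    (show φ a * φ b = φ b * φ a by
      rw [← map_mul, ← map_mul, Subgroup.mem_centralizer_iff.1 (hA b.2) a a.2])
  have hss : ∀ a μ, (f a).maxGenEigenspace μ = (f a).eigenspace μ := by
    intro a μ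
    refine Module.End.IsFinitelySemisimple.maxGenEigenspace_eq_eigenspace
      (Module.End.IsSemisimple.isFinitelySemisimple ?_) μ
    obtain ⟨k, hk⟩ := IsPGroup.iff_orderOf.1 hP (a : P)
    have hne : (((p ^ k : ℕ)) : L) ≠ 0 := by rw [Nat.cast_pow]; exact pow_ne_zero _ hpL
    refine Module.End.isSemisimple_of_squarefree_aeval_eq_zero
      (p := Polynomial.X ^ (p ^ k) - Polynomial.C 1) ?_ ?_
    · exact (Polynomial.separable_X_pow_sub_C 1 hne one_ne_zero).squarefree
    · rw [map_sub, map_pow, Polynomial.aeval_X, Polynomial.aeval_C, map_one]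
      show φ (a : P) ^ (p ^ k) - 1 = 0
      rw [← map_pow, ← hk, pow_orderOf_eq_one, map_one, sub_self]
  let W : (A → L) → Submodule L V := fun χ => ⨅ a, (f a).eigenspace (χ a)
  have hW : (fun χ : A → L => ⨅ a, (f a).maxGenEigenspace (χ a)) = W :=
    funext fun χ => iInf_congr fun a => hss a _
  have htop : ⨆ χ, W χ = ⊤ := by
    rw [← hW]
    exact Module.End.iSup_iInf_maxGenEigenspace_eq_top_of_iSup_maxGenEigenspace_eq_top_of_commute f hcomm
      fun a => Module.End.iSup_maxGenEigenspace_eq_top (f a)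
  have hindep : iSupIndep W := by
    rw [← hW]
    refine Module.End.independent_iInf_maxGenEigenspace_of_forall_mapsTo f fun a b μ =>
      Module.End.mapsTo_maxGenEigenspace_of_comm ?_ μ
    rcases eq_or_ne b a with rfl | hba
    · exact Commute.refl _
    · exact hcomm hba
  have hmemW : ∀ χ v, v ∈ W χ ↔ ∀ a : A, φ a v = χ a • v := fun χ v => by
    simp [W, f, Submodule.mem_iInf, Module.End.mem_eigenspace_iff]
  let cj : P → A → A := fun g a => ⟨g⁻¹ * a * g, by
    simpa using hAn.conj_mem a a.2 g⁻¹⟩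
  have hmove : ∀ g χ, W χ ≠ ⊥ → W (fun a => χ (cj g a)) ≠ ⊥ := by
    intro g χ hχ
    obtain ⟨v, hv, hv0⟩ := Submodule.exists_mem_ne_zero_of_ne_bot hχ
    refine fun hbot => hv0 ?_
    have h1 : φ g v ∈ W (fun a => χ (cj g a)) := (hmemW _ _).2 fun a => by
      rw [← map_smul, ← (hmemW χ v).1 hv (cj g a), ← hom_mul_apply, ← hom_mul_apply]
      congr 2
      show (a : P) * g = g * (g⁻¹ * a * g)
      group
    rw [hbot, Submodule.mem_bot] at h1
    rw [← hom_inv_apply' φ g v, h1, map_zero]
  letI : MulAction P {χ : A → L // W χ ≠ ⊥} :=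
    { smul := fun g χ => ⟨fun a => χ.1 (cj g a), hmove g χ.1 χ.2⟩
      one_smul := fun χ => Subtype.ext (funext fun a =>
        congrArg χ.1 (Subtype.ext (show (1 : P)⁻¹ * a * 1 = a by simp)))
      mul_smul := fun g h χ => Subtype.ext (funext fun a =>
        congrArg χ.1 (Subtype.ext (show (g * h)⁻¹ * a * (g * h) = h⁻¹ * (g⁻¹ * a * g) * h by group))) }
  haveI : Fintype {χ : A → L // W χ ≠ ⊥} := hindep.fintypeNeBotOfFiniteDimensional
  have hcard : Nat.card {χ : A → L // W χ ≠ ⊥} ≤ finrank L V := by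
    rw [Nat.card_eq_fintype_card]
    exact hindep.subtype_ne_bot_le_finrank
  have hp : p.Prime := Fact.out
  have hD : derivedSeries P (Nat.log p (finrank L V)) ≤ A := by
    intro g hg
    refine hCA (Subgroup.mem_centralizer_iff.2 fun a ha => ?_)
    have hfix : ∀ χ : {χ : A → L // W χ ≠ ⊥}, g • χ = χ := by
      intro χ
      have h1 := DerivedPerm.orbit_derived_le (p := p) hP (Nat.log p (finrank L V)) (fun y => ?_)
        (Nat.log p (finrank L V)) χ
      · rw [Nat.sub_self, pow_zero] at h1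
        exact (Set.ncard_le_one_iff (Set.toFinite _)).1 h1
          (mem_orbit χ (⟨g, hg⟩ : derivedSeries P (Nat.log p (finrank L V)))) (mem_orbit_self χ)
      · obtain ⟨j, hj⟩ := hP.index (stabilizer P y)
        rw [← index_stabilizer, hj]
        refine Nat.pow_le_pow_right hp.pos (Nat.le_log_of_pow_le hp.one_lt ?_)
        rw [← hj, index_stabilizer]
        exact (Set.ncard_le_card _).trans hcard
    have heq : ∀ v, φ (g⁻¹ * a * g) v = φ a v := by
      intro v
      have hv : v ∈ ⨆ χ, W χ := htop ▸ Submodule.mem_top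
      refine Submodule.iSup_induction W (motive := fun v => φ (g⁻¹ * a * g) v = φ a v) hv ?_
        (by simp) (fun x y hx hy => by rw [map_add, map_add, hx, hy])
      intro χ x hx
      rcases eq_or_ne (W χ) ⊥ with h0 | h0
      · rw [h0, Submodule.mem_bot] at hx
        simp [hx]
      have h2 := congrFun (congrArg Subtype.val (hfix ⟨χ, h0⟩)) ⟨a, ha⟩
      have e1 := (hmemW χ x).1 hx (cj g ⟨a, ha⟩)
      have e2 := (hmemW χ x).1 hx ⟨a, ha⟩
      change χ (cj g ⟨a, ha⟩) = χ ⟨a, ha⟩ at h2
      rw [h2] at e1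
      exact e1.trans e2.symm
    have h3 : g⁻¹ * a * g = a := hφ (LinearMap.ext heq)
    calc a * g = g * (g⁻¹ * a * g) := by group
      _ = g * a := by rw [h3]
  rw [derivedSeries_succ, Subgroup.commutator_eq_bot_iff_le_centralizer]
  exact hD.trans (hA.trans (Subgroup.centralizer_le (fun x hx => hD hx)))

theorem derived_eq_bot [Finite P] (hP : IsPGroup p P) [IsAlgClosed L] [FiniteDimensional L V]
    (hφ : Function.Injective φ) : derivedSeries P (Nat.log 2 (finrank L V) + 1) = ⊥ := by
  by_cases hpL : (p : L) = 0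
  · haveI : CharP L p := (CharP.charP_iff_prime_eq_zero Fact.out).2 hpL
    exact derived_eq_bot_charP φ hP hφ
  · exact eq_bot_iff.2 ((derivedSeries_antitone P
      (Nat.add_le_add_right (Nat.log_anti_left one_lt_two (Fact.out : p.Prime).two_le) 1)).trans
        (derived_eq_bot_coprime φ hP hpL hφ).le)

end Cfsg.Agent.H74.DerivedLinear
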