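import Cfsg.Agent.PGroups.Basic
import Cfsg.Agent.PGroups.HallPetrescu
import Mathlib

/-!
Lower bounds for the order of a `p`-group of given derived length.

If a normal subgroup `N` inside the `w`-th lower central term is non-abelian then
`|N : N'| ≥ p ^ (w + 1)`, and in case of equality `N' / [N', G]` is cyclic, which pushes `N''` one
lower central term further down.
-/

namespace Cfsg.Agent.H74.DerivedOrder

open Subgroup
open scoped commutatorElement

variable {G : Type*} [Group G] {p : ℕ}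

/-- `[N, G, …, G]` with `j` copies of `G`. -/
def iterComm (N : Subgroup G) : ℕ → Subgroup G
  | 0 => N
  | j + 1 => ⁅iterComm N j, ⊤⁆

instance iterComm_normal (N : Subgroup G) [N.Normal] (j : ℕ) : (iterComm N j).Normal := by
  induction j with
  | zero => assumption
  | succ j _ =>
    show (⁅iterComm N j, ⊤⁆ : Subgroup G).Normal
    infer_instance

theorem iterComm_succ_le (N : Subgroup G) [N.Normal] (j : ℕ) : iterComm N (j + 1) ≤ iterComm N j :=
  commutator_le_left _ _

theorem iterComm_shift (N : Subgroup G) : ∀ j, iterComm (iterComm N 1) j = iterComm N (j + 1)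
  | 0 => rfl
  | j + 1 => congrArg (fun X : Subgroup G => ⁅X, (⊤ : Subgroup G)⁆) (iterComm_shift N j)

theorem map_iterComm {H : Type*} [Group H] {f : G →* H} (hf : Function.Surjective f) (N : Subgroup G) :
    ∀ j, (iterComm N j).map f = iterComm (N.map f) j
  | 0 => rfl
  | j + 1 => by
    show (⁅iterComm N j, ⊤⁆ : Subgroup G).map f = ⁅iterComm (N.map f) j, ⊤⁆
    rw [map_commutator, map_iterComm hf N j, map_top_of_surjective f hf]

/-- `[X, γ_(u+1)] ≤ [X, G, …, G]`. -/
theorem commutator_le_iterComm : ∀ (u : ℕ) (X : Subgroup G) [X.Normal],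
    ⁅X, (⊤ : Subgroup G).lowerCentralSeries u⁆ ≤ iterComm X (u + 1)
  | 0, _, _ => le_rfl
  | u + 1, X, _ => by
    refine (commutator_comm_le _ _).trans ?_
    rw [Subgroup.lowerCentralSeries_succ]
    refine PGroups.commutator_commutator_le_of_rotate _ ?_ ?_
    · refine (commutator_mono (commutator_comm_le _ _) le_rfl).trans ?_
      exact (commutator_le_iterComm u (iterComm X 1)).trans (iterComm_shift X (u + 1)).le
    · exact commutator_mono (commutator_le_iterComm u X) le_rfl

/-- A group generated by two commuting elements over a central subgroup is abelian. -/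
theorem commutator_eq_bot_of_gen {N R : Subgroup G} {x y : G} (hx : x ∈ N) (hy : y ∈ N)
    (hRN : ⁅R, N⁆ = ⊥) (hR : R ≤ N) (hgen : N ≤ zpowers x ⊔ zpowers y ⊔ R) (hxy : x * y = y * x) :
    ⁅N, N⁆ = ⊥ := by
  rw [commutator_eq_bot_iff_le_centralizer] at hRN ⊢
  refine hgen.trans (sup_le (sup_le (zpowers_le.2 ?_) (zpowers_le.2 ?_)) hRN)
  · rw [mem_centralizer_iff]
    intro z hz
    have h : N ≤ centralizer ({x} : Set G) := hgen.trans (sup_le (sup_le
      (zpowers_le.2 (mem_centralizer_singleton_iff.2 rfl))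
      (zpowers_le.2 (mem_centralizer_singleton_iff.2 hxy.symm)))
      fun r hr => mem_centralizer_singleton_iff.2 (mem_centralizer_iff.1 (hRN hr) x hx).symm)
    exact mem_centralizer_singleton_iff.1 (h hz)
  · rw [mem_centralizer_iff]
    intro z hz
    have h : N ≤ centralizer ({y} : Set G) := hgen.trans (sup_le (sup_le
      (zpowers_le.2 (mem_centralizer_singleton_iff.2 hxy))
      (zpowers_le.2 (mem_centralizer_singleton_iff.2 rfl)))
      fun r hr => mem_centralizer_singleton_iff.2 (mem_centralizer_iff.1 (hRN hr) y hy).symm)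
    exact mem_centralizer_singleton_iff.1 (h hz)

/-- A subgroup between `[N, G]` and `N` is normal. -/
theorem normal_of_between {N D : Subgroup G} (h1 : ⁅N, (⊤ : Subgroup G)⁆ ≤ D) (h2 : D ≤ N) :
    D.Normal := ⟨fun z hz g => by
  have h := mul_mem (inv_mem (h1 (commutator_mem_commutator (h2 hz) (mem_top g)))) hz
  convert h using 1
  rw [commutatorElement_def]; group⟩

variable [Finite G] [hp : Fact p.Prime]

theorem exists_card (hG : IsPGroup p G) (H : Subgroup G) : ∃ s, Nat.card H = p ^ s :=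
  IsPGroup.iff_card.1 (hG.to_subgroup H)

theorem p_mul_le (hG : IsPGroup p G) {A B : Subgroup G} (h : A < B) :
    p * Nat.card A ≤ Nat.card B := by
  obtain ⟨a, ha⟩ := exists_card hG A
  obtain ⟨b, hb⟩ := exists_card hG B
  have hlt : Nat.card A < Nat.card B := lt_of_not_ge fun hle => h.ne (eq_of_le_of_card_ge h.le hle)
  rw [ha, hb] at hlt ⊢
  rw [← pow_succ']
  exact Nat.pow_le_pow_right hp.out.pos ((Nat.pow_lt_pow_iff_right hp.out.one_lt).1 hlt)

theorem iterComm_lt (hG : IsPGroup p G) (N : Subgroup G) [N.Normal] (j : ℕ) (h : iterComm N j ≠ ⊥) :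
    iterComm N (j + 1) < iterComm N j := by
  refine lt_of_le_of_ne (iterComm_succ_le N j) fun he => h ?_
  haveI := hG.isNilpotent
  obtain ⟨n, hn⟩ := (Subgroup.nilpotent_iff_lowerCentralSeries (G := G)).1 inferInstance
  have key : ∀ i, iterComm N j ≤ (⊤ : Subgroup G).lowerCentralSeries i := by
    intro i
    induction i with
    | zero => exact le_top
    | succ i ih =>
      rw [Subgroup.lowerCentralSeries_succ, ← he]
      exact commutator_mono ih le_rfl
  exact eq_bot_iff.2 (hn ▸ key n)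

/-- A chain of `d + 1` strict steps. -/
theorem pow_le_card (hG : IsPGroup p G) (N : Subgroup G) [N.Normal] :
    ∀ (d j : ℕ), iterComm N (j + d) ≠ ⊥ → p ^ (d + 1) ≤ Nat.card (iterComm N j)
  | 0, j, h => by
    obtain ⟨a, ha⟩ := exists_card hG (iterComm N j)
    have : a ≠ 0 := fun e => h (Subgroup.card_eq_one.1 (show Nat.card (iterComm N j) = 1 by rw [ha, e, pow_zero]))
    rw [ha]
    exact Nat.pow_le_pow_right hp.out.pos (by omega)
  | d + 1, j, h => by
    have h' : iterComm N (j + 1 + d) ≠ ⊥ := by rwa [show j + 1 + d = j + (d + 1) by omega]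
    have h1 := pow_le_card hG N d (j + 1) h'
    have h0 : iterComm N j ≠ ⊥ := by
      intro e
      rw [eq_bot_iff] at e
      have := (Subgroup.card_le_of_le (iterComm_succ_le N j)).trans (Subgroup.card_le_of_le e)
      rw [Subgroup.card_bot] at this
      have h2 : 1 < p ^ (d + 1) := Nat.one_lt_pow (by omega) hp.out.one_lt
      omega
    calc p ^ (d + 1 + 1) = p * p ^ (d + 1) := pow_succ' p (d + 1)
      _ ≤ p * Nat.card (iterComm N (j + 1)) := Nat.mul_le_mul_left p h1
      _ ≤ Nat.card (iterComm N j) := p_mul_le hG (iterComm_lt hG N j h0)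

theorem exists_gen_one (hG : IsPGroup p G) {N R : Subgroup G} (hR : R ≤ N)
    (hle : Nat.card N ≤ p * Nat.card R) : ∃ x ∈ N, N ≤ zpowers x ⊔ R := by
  rcases eq_or_lt_of_le hR with rfl | hlt
  · exact ⟨1, one_mem _, le_sup_right⟩
  obtain ⟨x, hx, hxR⟩ := SetLike.exists_of_lt hlt
  refine ⟨x, hx, ?_⟩
  have h1 : R < zpowers x ⊔ R := lt_of_le_of_ne le_sup_right
    fun e => hxR (e ▸ mem_sup_left (mem_zpowers x))
  exact (eq_of_le_of_card_ge (sup_le (zpowers_le.2 hx) hR) (hle.trans (p_mul_le hG h1))).ge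

theorem exists_gen_two (hG : IsPGroup p G) {N R : Subgroup G} (hR : R ≤ N)
    (hle : Nat.card N ≤ p ^ 2 * Nat.card R) :
    ∃ x ∈ N, ∃ y ∈ N, N ≤ zpowers x ⊔ zpowers y ⊔ R := by
  rcases eq_or_lt_of_le hR with rfl | hlt
  · exact ⟨1, one_mem _, 1, one_mem _, le_sup_right⟩
  obtain ⟨x, hx, hxR⟩ := SetLike.exists_of_lt hlt
  have h1 : R < zpowers x ⊔ R := lt_of_le_of_ne le_sup_right
    fun e => hxR (e ▸ mem_sup_left (mem_zpowers x))
  obtain ⟨y, hy, hgen⟩ := exists_gen_one hG (sup_le (zpowers_le.2 hx) hR)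
    (hle.trans (by rw [sq, mul_assoc]; exact Nat.mul_le_mul_left p (p_mul_le hG h1)))
  refine ⟨x, hx, y, hy, hgen.trans ?_⟩
  exact sup_le (le_sup_right.trans le_sup_left) (sup_le (le_sup_left.trans le_sup_left) le_sup_right)

theorem iterComm_ne_bot {N : Subgroup G} [N.Normal] {u : ℕ}
    (hNu : N ≤ (⊤ : Subgroup G).lowerCentralSeries u) (hne : ⁅N, N⁆ ≠ ⊥) :
    iterComm N (u + 1) ≠ ⊥ :=
  fun e => hne (eq_bot_iff.2 (((commutator_mono le_rfl hNu).trans (commutator_le_iterComm u N)).trans e.le))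

theorem iterComm_centralizes {N : Subgroup G} [N.Normal] {u j : ℕ}
    (hNu : N ≤ (⊤ : Subgroup G).lowerCentralSeries u) (h : iterComm N (j + u + 1) = ⊥) :
    ⁅iterComm N j, N⁆ = ⊥ := by
  have h1 : ∀ i, iterComm (iterComm N j) i = iterComm N (j + i) := by
    intro i
    induction i with
    | zero => rfl
    | succ i ih => exact congrArg (fun X : Subgroup G => ⁅X, (⊤ : Subgroup G)⁆) ih
  rw [eq_bot_iff]
  refine ((commutator_mono le_rfl hNu).trans (commutator_le_iterComm u _)).trans ?_
  rw [h1, ← add_assoc, h]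

/-- A non-abelian normal subgroup inside `γ_(u+1)` has order at least `p ^ (u+3)`. -/
theorem card_ge (hG : IsPGroup p G) {N : Subgroup G} [N.Normal] {u : ℕ}
    (hNu : N ≤ (⊤ : Subgroup G).lowerCentralSeries u) (hne : ⁅N, N⁆ ≠ ⊥) :
    p ^ (u + 3) ≤ Nat.card N := by
  by_contra hlt
  have hK := iterComm_ne_bot hNu hne
  have h1 : p ^ (u + 1) ≤ Nat.card (iterComm N 1) :=
    pow_le_card hG N u 1 (by rwa [add_comm])
  have hle : Nat.card N ≤ p * Nat.card (iterComm N 1) := by
    obtain ⟨a, ha⟩ := exists_card hG N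
    rw [ha] at hlt ⊢
    have := (Nat.pow_lt_pow_iff_right hp.out.one_lt).1 (not_le.1 hlt)
    calc p ^ a ≤ p ^ (u + 2) := Nat.pow_le_pow_right hp.out.pos (by omega)
      _ = p * p ^ (u + 1) := pow_succ' p (u + 1)
      _ ≤ p * Nat.card (iterComm N 1) := Nat.mul_le_mul_left p h1
  obtain ⟨x, hx, hgen⟩ := exists_gen_one hG (iterComm_succ_le N 0) hle
  have hbot : iterComm N (1 + u + 1) = ⊥ := by
    by_contra h2
    exact hlt (pow_le_card hG N (u + 2) 0 (by rwa [show 0 + (u + 2) = 1 + u + 1 by omega]))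
  exact hne (commutator_eq_bot_of_gen hx hx (iterComm_centralizes hNu hbot) (iterComm_succ_le N 0)
    (hgen.trans (sup_le (le_sup_left.trans le_sup_left) le_sup_right)) rfl)

theorem card_map_mk {M K : Subgroup G} [M.Normal] (h : M ≤ K) :
    Nat.card (K.map (QuotientGroup.mk' M)) * Nat.card M = Nat.card K := by
  have h1 := Subgroup.relIndex_map_map (f := QuotientGroup.mk' M) (H := ⊥) (K := K)
  rw [Subgroup.map_bot, Subgroup.relIndex_bot_left, QuotientGroup.ker_mk', bot_sup_eq,
    sup_eq_left.2 h] at h1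
  rw [h1, mul_comm]
  have h2 := Subgroup.relIndex_mul_relIndex ⊥ M K bot_le h
  rwa [Subgroup.relIndex_bot_left, Subgroup.relIndex_bot_left] at h2

omit hp in
theorem map_eq_bot_iff' {M K : Subgroup G} [M.Normal] :
    K.map (QuotientGroup.mk' M) = ⊥ ↔ K ≤ M := by
  rw [Subgroup.map_eq_bot_iff, QuotientGroup.ker_mk']

omit hp in
theorem map_le_lcs {M N : Subgroup G} [M.Normal] {u : ℕ}
    (hNu : N ≤ (⊤ : Subgroup G).lowerCentralSeries u) :
    N.map (QuotientGroup.mk' M) ≤ (⊤ : Subgroup (G ⧸ M)).lowerCentralSeries u := by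
  refine (Subgroup.map_mono hNu).trans ?_
  rw [map_lowerCentralSeries]
  exact lowerCentralSeries_mono u le_top

/-- A maximal normal subgroup below `C`, above `D`. -/
theorem exists_step (hG : IsPGroup p G) {C D : Subgroup G} [C.Normal] [D.Normal] (h : D < C) :
    ∃ M : Subgroup G, M.Normal ∧ D ≤ M ∧ M ≤ C ∧ p * Nat.card M = Nat.card C := by
  obtain ⟨a, ha⟩ := exists_card hG D
  obtain ⟨b, hb⟩ := exists_card hG C
  have hab := p_mul_le hG h
  rw [ha, hb, ← pow_succ', Nat.pow_le_pow_iff_right hp.out.one_lt] at hab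
  obtain ⟨M, h1, h2, h3, h4⟩ := PGroups.exists_normal_card_pow_mul hG D C h.le (b - a - 1)
    (by rw [ha, hb, ← pow_add]; exact Nat.pow_le_pow_right hp.out.pos (by omega))
  refine ⟨M, h1, h2, h3, ?_⟩
  rw [h4, ha, hb, ← pow_add, ← pow_succ']
  congr 1
  omega

/-- Hall's bound. -/
theorem index_ge (hG : IsPGroup p G) {N : Subgroup G} [N.Normal] {u : ℕ}
    (hNu : N ≤ (⊤ : Subgroup G).lowerCentralSeries u) (hne : ⁅N, N⁆ ≠ ⊥) :
    p ^ (u + 2) * Nat.card (⁅N, N⁆ : Subgroup G) ≤ Nat.card N := by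
  obtain ⟨M, hMn, -, hMC, hMcard⟩ := exists_step hG (bot_lt_iff_ne_bot.2 hne)
  haveI := hMn
  haveI : (N.map (QuotientGroup.mk' M)).Normal :=
    Subgroup.Normal.map ‹_› _ (QuotientGroup.mk'_surjective M)
  have hne' : ⁅N.map (QuotientGroup.mk' M), N.map (QuotientGroup.mk' M)⁆ ≠ ⊥ := by
    rw [← map_commutator, ne_eq, map_eq_bot_iff']
    intro hle
    have := Subgroup.card_le_of_le hle
    have h2 := hp.out.two_le
    have h3 : 0 < Nat.card M := Nat.card_pos
    nlinarith
  have h := card_ge (hG.to_quotient M) (map_le_lcs hNu) hne'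
  have hc := card_map_mk (hMC.trans (commutator_le_left N N))
  calc p ^ (u + 2) * Nat.card (⁅N, N⁆ : Subgroup G) = p ^ (u + 3) * Nat.card M := by
        rw [← hMcard, pow_succ' p (u + 2)]; ring
    _ ≤ Nat.card (N.map (QuotientGroup.mk' M)) * Nat.card M := Nat.mul_le_mul_right _ h
    _ = Nat.card N := hc

/-- In the case of equality `N'` is cyclic modulo `[N', G]`. -/
theorem cyclic_of_eq (hG : IsPGroup p G) {N : Subgroup G} [N.Normal] {u : ℕ}
    (hNu : N ≤ (⊤ : Subgroup G).lowerCentralSeries u) (hne : ⁅N, N⁆ ≠ ⊥)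
    (heq : Nat.card N = p ^ (u + 2) * Nat.card (⁅N, N⁆ : Subgroup G)) :
    ∃ c ∈ (⁅N, N⁆ : Subgroup G), ⁅N, N⁆ ≤ zpowers c ⊔ iterComm ⁅N, N⁆ 1 := by
  classical
  let R : Subgroup G := if p ^ 2 * Nat.card (iterComm N 1) ≤ Nat.card N then iterComm N 1
    else iterComm N 2 ⊔ ⁅N, N⁆
  have hRN : R ≤ N := by
    simp only [R]
    split_ifs
    · exact iterComm_succ_le N 0
    · exact sup_le ((iterComm_succ_le N 1).trans (iterComm_succ_le N 0)) (commutator_le_left N N)
  have key : ∀ M : Subgroup G, M.Normal → M ≤ ⁅N, N⁆ → p * Nat.card M = Nat.card (⁅N, N⁆ : Subgroup G) →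
      ⁅R, N⁆ ≤ M ∧ Nat.card N ≤ p ^ 2 * Nat.card R := by
    intro M hMn hMC hMcard
    set f := QuotientGroup.mk' M with hf
    set B := N.map f with hB
    haveI hBn : B.Normal := Subgroup.Normal.map ‹_› _ (QuotientGroup.mk'_surjective M)
    have hGq := hG.to_quotient M
    have hBu := map_le_lcs (M := M) hNu
    have hMN : M ≤ N := hMC.trans (commutator_le_left N N)
    have hC : Nat.card ((⁅N, N⁆ : Subgroup G).map f) = p := by
      have h := card_map_mk hMC
      rw [← hMcard] at h
      exact Nat.eq_of_mul_eq_mul_right Nat.card_pos h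
    have hBne : ⁅B, B⁆ ≠ ⊥ := by
      rw [hB, ← map_commutator]
      intro e
      rw [e, Subgroup.card_bot] at hC
      exact hp.out.ne_one hC.symm
    have hBcard : Nat.card B = p ^ (u + 3) := by
      have h := card_map_mk hMN
      rw [heq, ← hMcard, ← mul_assoc, ← pow_succ] at h
      exact Nat.eq_of_mul_eq_mul_right Nat.card_pos h
    have hK := iterComm_ne_bot hBu hBne
    have hmap : ∀ j, (iterComm N j).map f = iterComm B j :=
      map_iterComm (QuotientGroup.mk'_surjective M) N
    have h1 : ⁅N, N⁆ ≤ iterComm N 1 := commutator_mono le_rfl le_top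
    have hK1 := card_map_mk (hMC.trans h1)
    rw [hmap] at hK1
    have hpM : 0 < Nat.card M := Nat.card_pos
    by_cases hcase : p ^ 2 * Nat.card (iterComm N 1) ≤ Nat.card N
    · have hR : R = iterComm N 1 := if_pos hcase
      rw [hR]
      have hle : Nat.card (iterComm B 1) ≤ p ^ (u + 1) := by
        refine Nat.le_of_mul_le_mul_left (?_ : p ^ 2 * Nat.card M * _ ≤ p ^ 2 * Nat.card M * _)
          (Nat.mul_pos (pow_pos hp.out.pos 2) hpM)
        calc p ^ 2 * Nat.card M * Nat.card (iterComm B 1) = p ^ 2 * Nat.card (iterComm N 1) := by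
              rw [← hK1]; ring
          _ ≤ Nat.card N := hcase
          _ = p ^ 2 * Nat.card M * p ^ (u + 1) := by rw [← card_map_mk hMN, ← hB, hBcard]; ring
      refine ⟨?_, ?_⟩
      · rw [← map_eq_bot_iff', map_commutator, hmap]
        refine iterComm_centralizes hBu ?_
        by_contra h2
        have h3 := (pow_le_card hGq B (u + 1) 1 (by rwa [show 1 + (u + 1) = 1 + u + 1 by omega])).trans hle
        rw [Nat.pow_le_pow_iff_right hp.out.one_lt] at h3
        omega
      · have h3 : p ^ (u + 1) ≤ Nat.card (iterComm B 1) := pow_le_card hGq B u 1 (by rwa [add_comm])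
        rw [← hK1, ← card_map_mk hMN, ← hB, hBcard]
        calc p ^ (u + 3) * Nat.card M = p ^ 2 * (p ^ (u + 1) * Nat.card M) := by ring
          _ ≤ _ := Nat.mul_le_mul_left _ (Nat.mul_le_mul_right _ h3)
    · have hR : R = iterComm N 2 ⊔ ⁅N, N⁆ := if_neg hcase
      rw [hR]
      have hN1 : Nat.card N = p * Nat.card (iterComm N 1) := by
        obtain ⟨a, ha⟩ := exists_card hG N
        obtain ⟨b, hb⟩ := exists_card hG (iterComm N 1)
        have h2 := p_mul_le hG (A := iterComm N 1) (B := N)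
          (iterComm_lt hG N 0 fun e => hne (eq_bot_iff.2 ((commutator_le_left N N).trans e.le)))
        rw [ha, hb, ← pow_add, not_le, Nat.pow_lt_pow_iff_right hp.out.one_lt] at hcase
        rw [ha, hb, ← pow_succ', Nat.pow_le_pow_iff_right hp.out.one_lt] at h2
        rw [ha, hb, ← pow_succ']
        congr 1
        omega
      have hB1 : Nat.card (iterComm B 1) = p ^ (u + 2) := by
        refine Nat.eq_of_mul_eq_mul_left (Nat.mul_pos hp.out.pos hpM) ?_
        calc p * Nat.card M * Nat.card (iterComm B 1) = p * Nat.card (iterComm N 1) := by rw [← hK1]; ring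
          _ = Nat.card N := hN1.symm
          _ = p * Nat.card M * p ^ (u + 2) := by rw [← card_map_mk hMN, ← hB, hBcard]; ring
      have hB2 : ⁅iterComm B 2, B⁆ = ⊥ := by
        refine iterComm_centralizes hBu ?_
        by_contra h2
        have h3 := pow_le_card hGq B (u + 2) 1 (by rwa [show 1 + (u + 2) = 2 + u + 1 by omega])
        rw [hB1, Nat.pow_le_pow_iff_right hp.out.one_lt] at h3
        omega
      refine ⟨?_, ?_⟩
      · rw [← map_eq_bot_iff', map_commutator, Subgroup.map_sup, hmap,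
          commutator_eq_bot_iff_le_centralizer]
        refine sup_le (commutator_eq_bot_iff_le_centralizer.1 hB2) ?_
        haveI : ((⁅N, N⁆ : Subgroup G).map f).Normal :=
          Subgroup.Normal.map inferInstance _ (QuotientGroup.mk'_surjective M)
        exact (PGroups.le_center_of_card_eq hGq _ hC).trans (center_le_centralizer _)
      · -- the second term still has index `p ^ 2`
        have hBK : iterComm B (1 + u + 1) ≠ ⊥ := fun e => hBne (by
          obtain ⟨x, hx, hgen⟩ := exists_gen_one hGq (iterComm_succ_le B 0)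
            (show Nat.card B ≤ p * Nat.card (iterComm B 1) by rw [hBcard, hB1, ← pow_succ'])
          exact commutator_eq_bot_of_gen hx hx (iterComm_centralizes hBu e) (iterComm_succ_le B 0)
            (hgen.trans (sup_le (le_sup_left.trans le_sup_left) le_sup_right)) rfl)
        have h3 : p ^ (u + 1) ≤ Nat.card (iterComm B 2) :=
          pow_le_card hGq B u 2 (by rwa [show 2 + u = 1 + u + 1 by omega])
        have hMR : M ≤ iterComm N 2 ⊔ ⁅N, N⁆ := hMC.trans le_sup_right
        rw [← card_map_mk hMR, ← card_map_mk hMN, ← hB, hBcard, Subgroup.map_sup, hmap, ← hf]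
        calc p ^ (u + 3) * Nat.card M = p ^ 2 * (p ^ (u + 1) * Nat.card M) := by ring
          _ ≤ _ := Nat.mul_le_mul_left _ (Nat.mul_le_mul_right _
            (h3.trans (Subgroup.card_le_of_le le_sup_left)))
  obtain ⟨M₀, h0n, -, h0C, h0card⟩ := exists_step hG (bot_lt_iff_ne_bot.2 hne)
  obtain ⟨x, hx, y, hy, hgen⟩ := exists_gen_two hG hRN (key M₀ h0n h0C h0card).2
  refine ⟨⁅x, y⁆, commutator_mem_commutator hx hy, ?_⟩
  by_contra hnle
  have hD : zpowers ⁅x, y⁆ ⊔ iterComm ⁅N, N⁆ 1 ≤ ⁅N, N⁆ :=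
    sup_le (zpowers_le.2 (commutator_mem_commutator hx hy)) (iterComm_succ_le _ 0)
  haveI := normal_of_between (D := zpowers ⁅x, y⁆ ⊔ iterComm ⁅N, N⁆ 1) le_sup_right hD
  obtain ⟨M, hMn, hDM, hMC, hMcard⟩ := exists_step hG (lt_of_le_of_ne hD fun e => hnle e.ge)
  haveI := hMn
  have hxy : QuotientGroup.mk' M x * QuotientGroup.mk' M y =
      QuotientGroup.mk' M y * QuotientGroup.mk' M x := by
    rw [← commutatorElement_eq_one_iff_mul_comm, ← map_commutatorElement, ← MonoidHom.mem_ker,
      QuotientGroup.ker_mk']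
    exact hDM (mem_sup_left (mem_zpowers _))
  have hab := commutator_eq_bot_of_gen (N := N.map (QuotientGroup.mk' M))
    (R := R.map (QuotientGroup.mk' M)) (mem_map_of_mem _ hx) (mem_map_of_mem _ hy)
    (by rw [← map_commutator, map_eq_bot_iff']; exact (key M hMn hMC hMcard).1)
    (Subgroup.map_mono hRN)
    (by
      have h := Subgroup.map_mono (f := QuotientGroup.mk' M) hgen
      rwa [Subgroup.map_sup, Subgroup.map_sup, MonoidHom.map_zpowers, MonoidHom.map_zpowers] at h) hxy
  rw [← map_commutator, map_eq_bot_iff'] at hab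
  have h1 := Subgroup.card_le_of_le hab
  have h2 := hp.out.two_le
  have h3 : 0 < Nat.card M := Nat.card_pos
  nlinarith

omit hp in
/-- A top that is cyclic pushes the derived subgroup one term further. -/
theorem commutator_le_of_cyclic {N : Subgroup G} [N.Normal] {u : ℕ}
    (hNu : N ≤ (⊤ : Subgroup G).lowerCentralSeries u) {c : G} (hc : c ∈ N)
    (hgen : N ≤ zpowers c ⊔ iterComm N 1) :
    ⁅N, N⁆ ≤ (⊤ : Subgroup G).lowerCentralSeries (2 * u + 2) := by
  set Γ := (⊤ : Subgroup G).lowerCentralSeries (2 * u + 2)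
  rw [← map_eq_bot_iff', map_commutator]
  refine commutator_eq_bot_of_gen (x := QuotientGroup.mk' Γ c) (y := QuotientGroup.mk' Γ c)
    (R := (iterComm N 1).map (QuotientGroup.mk' Γ))
    (mem_map_of_mem _ hc) (mem_map_of_mem _ hc) ?_ (Subgroup.map_mono (iterComm_succ_le N 0)) ?_ rfl
  · rw [← map_commutator, map_eq_bot_iff']
    have h1 : iterComm N 1 ≤ (⊤ : Subgroup G).lowerCentralSeries (u + 1) := commutator_mono hNu le_rfl
    exact ((commutator_mono h1 hNu).trans (PGroups.commutator_lowerCentralSeries_le u (u + 1))).trans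
      (Subgroup.lowerCentralSeries_antitone _ (by omega))
  · have h := Subgroup.map_mono (f := QuotientGroup.mk' Γ) hgen
    rw [Subgroup.map_sup, MonoidHom.map_zpowers] at h
    exact h.trans (sup_le (le_sup_left.trans le_sup_left) le_sup_right)

/-- The state after `i` steps of the derived series. -/
theorem derived_invariant (hG : IsPGroup p G) {n : ℕ} (hn : Nat.card G = p ^ n) : ∀ i : ℕ,
    derivedSeries G i ≠ ⊥ → ∃ s u : ℕ, Nat.card (derivedSeries G i) = p ^ s ∧
      derivedSeries G i ≤ (⊤ : Subgroup G).lowerCentralSeries u ∧ 2 ^ i ≤ u + 1 ∧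
      (s + 2 ^ i + 2 * i ≤ n + 1 ∨
       (s + 2 ^ i + 2 * i ≤ n + 2 ∧ ∃ c ∈ derivedSeries G i,
          derivedSeries G i ≤ zpowers c ⊔ iterComm (derivedSeries G i) 1) ∨
       (s + 2 ^ i + 2 * i ≤ n + 3 ∧ 2 ^ i ≤ u))
  | 0, _ => ⟨n, 0, by rw [derivedSeries_zero, Subgroup.card_top, hn], le_top, le_rfl,
      Or.inl (by norm_num)⟩
  | i + 1, h => by
    have hne : derivedSeries G i ≠ ⊥ := fun e => h (eq_bot_iff.2 (e ▸ derivedSeries_antitone G (Nat.le_succ i)))
    obtain ⟨s, u, hs, hu, h2, hstate⟩ := derived_invariant hG hn i hne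
    haveI := derivedSeries_normal G i
    rw [derivedSeries_succ] at h ⊢
    obtain ⟨t, ht⟩ := exists_card hG (⁅derivedSeries G i, derivedSeries G i⁆ : Subgroup G)
    have hge := index_ge hG hu h
    rw [hs, ht, ← pow_add, Nat.pow_le_pow_iff_right hp.out.one_lt] at hge
    have hstep : ⁅derivedSeries G i, derivedSeries G i⁆ ≤ (⊤ : Subgroup G).lowerCentralSeries (2 * u + 1) :=
      (commutator_mono hu hu).trans
        ((PGroups.commutator_lowerCentralSeries_le u u).trans (Subgroup.lowerCentralSeries_antitone _ (by omega)))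
    have hp2 : 2 ^ (i + 1) = 2 ^ i + 2 ^ i := by rw [pow_succ]; omega
    rcases hstate with h0 | ⟨h1, c, hc, hgen⟩ | ⟨h3, hu2⟩
    · rcases eq_or_lt_of_le hge with heq | hlt
      · obtain ⟨c, hc, hgen⟩ := cyclic_of_eq hG hu h (by rw [hs, ht, ← pow_add, heq])
        exact ⟨t, 2 * u + 1, ht, hstep, by omega, Or.inr (Or.inl ⟨by omega, c, hc, hgen⟩)⟩
      · exact ⟨t, 2 * u + 1, ht, hstep, by omega, Or.inl (by omega)⟩
    · exact ⟨t, 2 * u + 2, ht, commutator_le_of_cyclic hu hc hgen, by omega,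
        Or.inr (Or.inr ⟨by omega, by omega⟩)⟩
    · exact ⟨t, 2 * u + 1, ht, hstep, by omega, Or.inr (Or.inr ⟨by omega, by omega⟩)⟩

/-- The order of a `p`-group of derived length above `k`. -/
theorem order_bound (hG : IsPGroup p G) {n k : ℕ} (hn : Nat.card G = p ^ n)
    (hk : derivedSeries G k ≠ ⊥) : 2 ^ k + 2 * k ≤ n + 2 := by
  obtain ⟨s, u, hs, -, -, hstate⟩ := derived_invariant hG hn k hk
  have hs0 : s ≠ 0 := fun e => hk (Subgroup.card_eq_one.1 (by rw [hs, e, pow_zero]))
  rcases hstate with h | ⟨h, -⟩ | ⟨h, -⟩ <;> omega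

end Cfsg.Agent.H74.DerivedOrder
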