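import Cfsg.Agent.PGroups.Basic
import Mathlib

/-!
Derived lengths of `p`-groups of permutations.
-/

namespace Cfsg.Agent.H74.DerivedPerm

open MulAction

variable {P : Type*} [Group P] {α : Type*} [MulAction P α] {p : ℕ} [Fact p.Prime]

theorem orbit_subset {K L : Subgroup P} (h : K ≤ L) (x : α) : orbit K x ⊆ orbit L x := by
  rintro _ ⟨k, rfl⟩
  exact ⟨⟨k, h k.2⟩, rfl⟩

theorem orbit_finite [Finite P] (K : Subgroup P) (x : α) : (orbit K x).Finite := Set.finite_range _

theorem exists_orbit_ncard [Finite P] (hP : IsPGroup p P) (K : Subgroup P) (x : α) :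
    ∃ j, (orbit K x).ncard = p ^ j := by
  obtain ⟨j, hj⟩ := (hP.to_subgroup K).index (stabilizer K x)
  exact ⟨j, by rw [← index_stabilizer, hj]⟩

/-- The derived subgroup is intransitive on every orbit with more than one point. -/
theorem orbit_commutator_lt [Finite P] (hP : IsPGroup p P) (D : Subgroup P) (x : α)
    (h1 : 1 < (orbit D x).ncard) : (orbit (⁅D, D⁆ : Subgroup P) x).ncard < (orbit D x).ncard := by
  refine Set.ncard_lt_ncard (Set.ssubset_iff_subset_ne.2
    ⟨orbit_subset (Subgroup.commutator_le_self D) x, fun heq => ?_⟩) (orbit_finite D x)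
  have hsup : stabilizer D x ⊔ frattini D = ⊤ := by
    refine eq_top_iff.2 fun d _ => ?_
    have hd : d • x ∈ orbit D x := mem_orbit x d
    rw [← heq] at hd
    obtain ⟨⟨c, hc⟩, hcx⟩ := hd
    rw [← Subgroup.map_subtype_commutator] at hc
    obtain ⟨c', hc', rfl⟩ := hc
    have hc'' : c' ∈ frattini D := PGroups.commutator_le_frattini (hP.to_subgroup D) hc'
    have h2 : c'⁻¹ * d ∈ stabilizer D x := by
      rw [mem_stabilizer_iff, mul_smul, inv_smul_eq_iff]
      exact hcx.symm
    have := mul_mem (Subgroup.mem_sup_right (S := stabilizer D x) hc'')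
      (Subgroup.mem_sup_left (T := frattini D) h2)
    rwa [mul_inv_cancel_left] at this
  have hst : stabilizer D x = ⊤ := frattini_nongenerating hsup
  rw [← index_stabilizer, hst, Subgroup.index_top] at h1
  omega

theorem orbit_derived_le [Finite P] (hP : IsPGroup p P) (k : ℕ)
    (h : ∀ x : α, (orbit P x).ncard ≤ p ^ k) :
    ∀ (i : ℕ) (x : α), (orbit (derivedSeries P i) x).ncard ≤ p ^ (k - i) := by
  intro i
  induction i with
  | zero =>
    intro x
    refine le_trans (Set.ncard_le_ncard ?_ (Set.finite_range _)) (h x)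
    rintro _ ⟨g, rfl⟩
    exact ⟨g, rfl⟩
  | succ i ih =>
    intro x
    have hp : p.Prime := Fact.out
    rw [derivedSeries_succ]
    rcases le_or_gt (orbit (derivedSeries P i) x).ncard 1 with h1 | h1
    · exact le_trans ((Set.ncard_le_ncard (orbit_subset (Subgroup.commutator_le_self _) x)
        (orbit_finite _ x)).trans h1) (Nat.one_le_pow _ _ hp.pos)
    obtain ⟨j, hj⟩ := exists_orbit_ncard hP (⁅derivedSeries P i, derivedSeries P i⁆) x
    have h2 := (orbit_commutator_lt hP _ x h1).trans_le (ih x)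
    rw [hj] at h2 ⊢
    have h3 := (Nat.pow_lt_pow_iff_right hp.one_lt).1 h2
    exact Nat.pow_le_pow_right hp.pos (by omega)

/-- A `p`-group acting faithfully with orbits of length at most `p ^ k` has derived length at most
`k`. -/
theorem derived_eq_bot [Finite P] [FaithfulSMul P α] (hP : IsPGroup p P) (k : ℕ)
    (h : ∀ x : α, (orbit P x).ncard ≤ p ^ k) : derivedSeries P k = ⊥ := by
  refine (Subgroup.eq_bot_iff_forall _).2 fun g hg => eq_of_smul_eq_smul fun x : α => ?_
  have h1 := orbit_derived_le hP k h k x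
  rw [Nat.sub_self, pow_zero] at h1
  rw [one_smul]
  exact Set.ncard_le_one_iff (orbit_finite _ x) |>.1 h1
    (mem_orbit x (⟨g, hg⟩ : derivedSeries P k)) (mem_orbit_self x)

section wreath

open RegularWreathProduct
open scoped commutatorElement

variable {D Q : Type*} [Group D] [CommGroup Q]

/-- Evaluation at `1` on the base group. -/
def evalOne : (rightHom : D ≀ᵣ Q →* Q).ker →* D where
  toFun w := w.1.left 1
  map_one' := rfl
  map_mul' a b := by
    have ha : a.1.right = 1 := a.2
    simp [ha]

theorem derived_le_eval [Nontrivial Q] (i : ℕ) :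
    derivedSeries D i ≤
      ((derivedSeries (D ≀ᵣ Q) (i + 1)).subgroupOf (rightHom : D ≀ᵣ Q →* Q).ker).map evalOne := by
  classical
  induction i with
  | zero =>
    intro d _
    obtain ⟨q, hq⟩ := exists_ne (1 : Q)
    let f : D ≀ᵣ Q := ⟨Pi.mulSingle 1 d, 1⟩
    have hmem : ⁅f, inl q⁆ ∈ (rightHom : D ≀ᵣ Q →* Q).ker := by
      rw [MonoidHom.mem_ker, map_commutatorElement, commutatorElement_eq_one_iff_mul_comm]
      exact mul_comm _ _
    refine ⟨⟨_, hmem⟩, ?_, ?_⟩
    · show ⁅f, inl q⁆ ∈ derivedSeries (D ≀ᵣ Q) 1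
      rw [derivedSeries_one, commutator_def]
      exact Subgroup.commutator_mem_commutator trivial trivial
    · show (⁅f, inl q⁆ : D ≀ᵣ Q).left 1 = d
      simp [commutatorElement_def, f, Pi.mulSingle_eq_of_ne, hq]
  | succ i ih =>
    rw [derivedSeries_succ]
    refine (Subgroup.commutator_mono ih ih).trans ?_
    rw [← Subgroup.map_commutator]
    refine Subgroup.map_mono ?_
    simp only [Subgroup.subgroupOf]
    rw [← Subgroup.map_le_iff_le_comap, Subgroup.map_commutator,
      derivedSeries_succ _ (i + 1)]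
    exact Subgroup.commutator_mono (Subgroup.map_comap_le _ _) (Subgroup.map_comap_le _ _)

theorem derived_wreath_ne_bot [Nontrivial Q] (i : ℕ) (h : derivedSeries D i ≠ ⊥) :
    derivedSeries (D ≀ᵣ Q) (i + 1) ≠ ⊥ := fun hbot => h (by
  rw [eq_bot_iff]
  refine (derived_le_eval (Q := Q) i).trans ?_
  rw [hbot]
  simp)

end wreath

theorem derived_iterated_ne_bot (G : Type) [CommGroup G] [Nontrivial G] :
    ∀ k : ℕ, derivedSeries (IteratedWreathProduct G (k + 1)) k ≠ ⊥
  | 0 => by
    rw [derivedSeries_zero]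
    obtain ⟨q, hq⟩ := exists_ne (1 : G)
    intro htop
    have h1 : (RegularWreathProduct.inl q : PUnit ≀ᵣ G) = 1 := by
      exact Subgroup.mem_bot.1 (htop.le (Subgroup.mem_top _))
    exact hq (congrArg RegularWreathProduct.right h1)
  | k + 1 => derived_wreath_ne_bot (D := IteratedWreathProduct G (k + 1)) (Q := G) k
      (derived_iterated_ne_bot G k)

theorem derived_ne_bot_of_injective {A B : Type*} [Group A] [Group B] {f : A →* B}
    (hf : Function.Injective f) {i : ℕ} (h : derivedSeries A i ≠ ⊥) : derivedSeries B i ≠ ⊥ :=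
  fun hB => h ((Subgroup.map_eq_bot_iff_of_injective _ hf).1
    (eq_bot_iff.2 (hB ▸ map_derivedSeries_le_derivedSeries f i)))

end Cfsg.Agent.H74.DerivedPerm
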