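import Cfsg.Agent.H74.SchurMeta
import Mathlib.GroupTheory.SpecificGroups.Dihedral

/-!
Stem extensions of dihedral groups.
-/

namespace Cfsg.Agent.H74.Schur

open Subgroup

/-- In a stem extension of a dihedral group the kernel consists of powers `c ^ k` with `n ∣ 2k`,
where `c ^ n = 1`. -/
theorem dihedral_stem {n : ℕ} [NeZero n] {Δ : Type*} [Group Δ] [Finite Δ] (σ : Δ →* DihedralGroup n)
    (hσ : Cfsg.IsStemExtension σ) :
    ∃ c : Δ, c ^ n = 1 ∧ ∀ z ∈ σ.ker, ∃ k : ℤ, z = c ^ k ∧ (n : ℤ) ∣ 2 * k := by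
  obtain ⟨a, ha⟩ := hσ.1 (DihedralGroup.r 1)
  obtain ⟨b, hb⟩ := hσ.1 (DihedralGroup.sr 0)
  have hrel : σ b * σ a * (σ b)⁻¹ = σ a ^ (-1 : ℤ) := by
    rw [ha, hb, zpow_neg_one, mul_inv_eq_iff_eq_mul, eq_inv_mul_iff_mul_eq]
    simp
  have hgen : closure ({σ a, σ b} : Set (DihedralGroup n)) = ⊤ := by
    rw [ha, hb, eq_top_iff]
    rintro (i | i) -
    · rw [← ZMod.natCast_zmod_val i, ← DihedralGroup.r_one_pow]
      exact pow_mem (subset_closure (Set.mem_insert _ _)) _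
    · have : DihedralGroup.sr i = DihedralGroup.sr (0 : ZMod n) * DihedralGroup.r 1 ^ i.val := by
        rw [DihedralGroup.r_one_pow, DihedralGroup.sr_mul_r, zero_add, ZMod.natCast_zmod_val]
      rw [this]
      exact mul_mem (subset_closure (Set.mem_insert_of_mem _ rfl))
        (pow_mem (subset_closure (Set.mem_insert _ _)) _)
  refine ⟨b * a * b⁻¹ * a⁻¹, c_pow_order hσ hrel (by rw [ha, DihedralGroup.r_one_pow_n]), fun z hz => ?_⟩
  obtain ⟨k, hk1, hk2⟩ := ker_mem inferInstance hσ hgen hrel hz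
  rw [ha, DihedralGroup.orderOf_r_one] at hk2
  refine ⟨k, hk1, ?_⟩
  rw [show (-1 - 1 : ℤ) * k = -(2 * k) by ring] at hk2
  exact dvd_neg.1 hk2

end Cfsg.Agent.H74.Schur
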