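import Mathlib.GroupTheory.OrderOfElement

/-!
Groups of the same order type.
-/

namespace Cfsg.Agent.H74.OrderType

variable {G H : Type*} [Group G] [Finite G] [Group H] [Finite H]

/-- An order preserving bijection. -/
theorem exists_equiv (hT : ∀ m : ℕ, Nat.card {g : G // orderOf g = m} = Nat.card {h : H // orderOf h = m}) :
    ∃ e : G ≃ H, ∀ g, orderOf (e g) = orderOf g :=
  ⟨(Equiv.sigmaFiberEquiv orderOf).symm.trans
      ((Equiv.sigmaCongrRight fun m => (Finite.card_eq.1 (hT m)).some).trans
        (Equiv.sigmaFiberEquiv orderOf)),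
    fun g => by
      simp only [Equiv.trans_apply]
      exact ((Finite.card_eq.1 (hT (orderOf g))).some ⟨g, rfl⟩).2⟩

theorem card_eq (hT : ∀ m : ℕ, Nat.card {g : G // orderOf g = m} = Nat.card {h : H // orderOf h = m}) :
    Nat.card G = Nat.card H := by
  obtain ⟨e, -⟩ := exists_equiv hT
  exact Nat.card_congr e

theorem card_pow_eq_one (hT : ∀ m : ℕ, Nat.card {g : G // orderOf g = m} = Nat.card {h : H // orderOf h = m})
    (m : ℕ) : Nat.card {g : G // g ^ m = 1} = Nat.card {h : H // h ^ m = 1} := by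
  obtain ⟨e, he⟩ := exists_equiv hT
  refine Nat.card_congr (e.subtypeEquiv fun g => ?_)
  rw [← orderOf_dvd_iff_pow_eq_one, ← orderOf_dvd_iff_pow_eq_one, he]

end Cfsg.Agent.H74.OrderType
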