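import Cfsg.Agent.H74.ComplementTower
import Cfsg.Agent.H74.OrderType
import Cfsg.Agent.Frobenius.Structure
import Cfsg.Agent.Frobenius.Nilpotent
import Cfsg.Agent.Cores.Basic

/-!
A group with the order type of a Frobenius group is a Frobenius group.
-/

namespace Cfsg.Agent.H74.FrobType

open Subgroup
open scoped Pointwise
open Cfsg.Agent.Frobenius

variable {F : Type*} [Group F] [Finite F] {C : Subgroup F}

/-- Elements of the kernel and of the conjugates of the complement. -/
theorem orderOf_dvd_or (hC : Cfsg.IsFrobeniusComplement C) (x : F) :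
    orderOf x ∣ C.index ∨ orderOf x ∣ Nat.card C := by
  by_cases h : x ∈ frobeniusKernel C
  · left
    rw [← card_kernel_subgroup hC]
    exact Subgroup.orderOf_dvd_natCard _ ((mem_kernel hC).2 h)
  · right
    obtain ⟨g, hg⟩ : ∃ g : F, x ∈ MulAut.conj g • C := by
      by_contra hh; push Not at hh; exact h (Or.inr hh)
    rw [mem_conj_iff] at hg
    have := Subgroup.orderOf_dvd_natCard C hg
    have he : orderOf (g⁻¹ * x * g) = orderOf x := by
      have := orderOf_injective (MulAut.conj g⁻¹).toMonoidHom (MulAut.conj g⁻¹).injective x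
      simpa using this
    rwa [he] at this

theorem card_pow_eq_one_complement (hC : Cfsg.IsFrobeniusComplement C) {m : ℕ}
    (hm : m ∣ Nat.card C) :
    Nat.card {x : F // x ^ m = 1} + C.index = C.index * Nat.card {h : C // h ^ m = 1} + 1 := by
  classical
  haveI := Fintype.ofFinite F
  have hne : ∀ (a : F ⧸ C) (h : C), h ≠ 1 → a.out * (h : F) * a.out⁻¹ ≠ 1 := fun a h h1 he =>
    h1 (Subtype.ext (conj_eq_one_iff.1 he))
  let f : (F ⧸ C) × {h : C // h ≠ 1 ∧ h ^ m = 1} → {x : F // x ≠ 1 ∧ x ^ m = 1} := fun w =>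
    ⟨w.1.out * (w.2.1 : F) * w.1.out⁻¹, hne _ _ w.2.2.1, by
      rw [conj_pow, show ((w.2.1 : F)) ^ m = 1 from congrArg Subtype.val w.2.2.2, mul_one,
        mul_inv_cancel]⟩
  have hfix : ∀ w, (f w : F) • w.1 = w.1 := fun w => by
    conv_rhs => rw [← w.1.out_eq]
    conv_lhs => arg 2; rw [← w.1.out_eq]
    refine (smul_coset_eq_iff C _ _).2 ?_
    simp [f, mul_assoc]
  have hbij : Function.Bijective f := by
    constructor
    · rintro ⟨a, h⟩ ⟨b, k⟩ hab
      have e : a = b := fixed_unique hC (f (a, h)).2.1 (hfix (a, h)) (hab ▸ hfix (b, k))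
      subst e
      have := congrArg Subtype.val hab
      simp only [f, mul_left_inj, mul_right_inj, SetLike.coe_eq_coe] at this
      exact Prod.ext rfl (Subtype.ext this)
    · rintro ⟨x, hx1, hxm⟩
      have hk : x ∉ frobeniusKernel C := fun h => hx1 (by
        rw [← orderOf_eq_one_iff]
        refine Nat.dvd_one.1 ((coprime_card_index hC) ▸ Nat.dvd_gcd
          ((orderOf_dvd_of_pow_eq_one hxm).trans hm) ?_)
        rw [← card_kernel_subgroup hC]
        exact Subgroup.orderOf_dvd_natCard _ ((mem_kernel hC).2 h))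
      obtain ⟨-, a, ha⟩ := (notMem_kernel_iff C x).1 hk
      have hmem : a.out⁻¹ * x * a.out ∈ C := by
        rw [← smul_coset_eq_iff, QuotientGroup.out_eq']; exact ha
      refine ⟨(a, ⟨⟨_, hmem⟩, fun h => hx1 ?_, Subtype.ext ?_⟩), Subtype.ext (by simp [f, mul_assoc])⟩
      · have h' : a.out⁻¹ * x * a.out = 1 := congrArg Subtype.val h
        simpa [mul_assoc, inv_mul_eq_one] using h'
      · show (a.out⁻¹ * x * a.out) ^ m = 1
        rw [show a.out⁻¹ * x * a.out = a.out⁻¹ * x * a.out⁻¹⁻¹ by rw [inv_inv], conj_pow, hxm,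
          mul_one, mul_inv_cancel]
  have h1 : Nat.card {x : F // x ^ m = 1} = Nat.card {x : F // x ≠ 1 ∧ x ^ m = 1} + 1 := by
    rw [Nat.card_eq_fintype_card, Nat.card_eq_fintype_card, Fintype.card_subtype,
      Fintype.card_subtype, show (Finset.univ.filter fun x : F => x ^ m = 1) =
        insert 1 (Finset.univ.filter fun x : F => x ≠ 1 ∧ x ^ m = 1) by
          ext x; by_cases hx : x = 1 <;> simp [hx], Finset.card_insert_of_notMem (by simp)]
  haveI := Fintype.ofFinite C
  have h2 : Nat.card {h : C // h ^ m = 1} = Nat.card {h : C // h ≠ 1 ∧ h ^ m = 1} + 1 := by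
    rw [Nat.card_eq_fintype_card, Nat.card_eq_fintype_card, Fintype.card_subtype,
      Fintype.card_subtype, show (Finset.univ.filter fun h : C => h ^ m = 1) =
        insert 1 (Finset.univ.filter fun h : C => h ≠ 1 ∧ h ^ m = 1) by
          ext x; by_cases hx : x = 1 <;> simp [hx], Finset.card_insert_of_notMem (by simp)]
  have h3 := Nat.card_eq_of_bijective f hbij
  rw [Nat.card_prod] at h3
  rw [h1, h2, ← h3, Subgroup.index, mul_add, mul_one]
  omega

theorem isSolvable_iff (hC : Cfsg.IsFrobeniusComplement C) :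
    Group.IsSolvable F ↔ Group.IsSolvable C := by
  refine ⟨fun h => inferInstance, fun h => ?_⟩
  haveI := kernel_normal hC
  haveI : Group.IsNilpotent (kernel hC) := kernel_isNilpotent hC
  have hc := kernel_isComplement hC
  haveI := h
  haveI : Group.IsSolvable (F ⧸ kernel hC) :=
    Group.isSolvable_of_surjective
      (f := (QuotientGroup.mk' (kernel hC)).comp C.subtype) (fun q => by
        obtain ⟨x, rfl⟩ := QuotientGroup.mk'_surjective _ q
        obtain ⟨⟨k, c⟩, hkc⟩ := hc.2 x
        refine ⟨c, ?_⟩
        rw [← hkc]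
        show QuotientGroup.mk' (kernel hC) (c : F) = QuotientGroup.mk' (kernel hC) ((k : F) * c)
        rw [map_mul, show QuotientGroup.mk' (kernel hC) (k : F) = 1 from
          (QuotientGroup.eq_one_iff _).2 k.2, one_mul])
  exact (Group.isSolvable_iff_subgroup_quotient (kernel hC)).2 ⟨inferInstance, inferInstance⟩

theorem card_primary_kernel (hC : Cfsg.IsFrobeniusComplement C) {p : ℕ} (hp : p.Prime)
    (hpk : p ∣ C.index) :
    Nat.card {x : F // x ^ p ^ (Nat.card F).factorization p = 1} =
      p ^ (Nat.card F).factorization p := by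
  haveI : Fact p.Prime := ⟨hp⟩
  haveI := kernel_normal hC
  haveI : Group.IsNilpotent (kernel hC) := kernel_isNilpotent hC
  obtain ⟨S⟩ : Nonempty (Sylow p (kernel hC)) := inferInstance
  haveI hSn : (S : Subgroup (kernel hC)).Normal := Cfsg.Agent.Frobenius.sylow_normal_of_isNilpotent p S
  haveI : (S : Subgroup (kernel hC)).Characteristic := S.characteristic_of_normal hSn
  let P : Subgroup F := (S : Subgroup (kernel hC)).map (kernel hC).subtype
  haveI : P.Normal := ConjAct.normal_of_characteristic_of_normal
  have hcard : Nat.card P = p ^ (Nat.card F).factorization p := by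
    rw [show Nat.card P = Nat.card S from (Nat.card_congr ((S : Subgroup _).equivMapOfInjective _
      (kernel hC).subtype_injective).toEquiv).symm, S.card_eq_multiplicity]
    congr 1
    have h : Nat.card (kernel hC) * Nat.card C = Nat.card F := (kernel_isComplement hC).card_mul
    rw [← h, Nat.factorization_mul Nat.card_pos.ne' Nat.card_pos.ne', Finsupp.add_apply,
      Nat.factorization_eq_zero_of_not_dvd (n := Nat.card C), add_zero]
    intro hd
    exact hp.one_lt.ne' (Nat.dvd_one.1 ((coprime_card_index hC) ▸ Nat.dvd_gcd hd hpk))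
  rw [← hcard]
  refine Tower.card_pow_eq_one_of_normal P ?_
  rw [hcard]
  refine (hp.coprime_iff_not_dvd.2 fun hd => ?_).pow_left _
  have h1 : p ^ ((Nat.card F).factorization p + 1) ∣ Nat.card F := by
    rw [pow_succ, ← hcard]
    exact (Nat.mul_dvd_mul_left _ hd).trans (Subgroup.card_mul_index P).dvd
  have := (hp.pow_dvd_iff_le_factorization Nat.card_pos.ne').1 h1
  omega

variable {G : Type*} [Group G] [Finite G]

theorem main (hF : ∃ C : Subgroup F, Cfsg.IsFrobeniusComplement C)
    (hT : ∀ m : ℕ, Nat.card {g : F // orderOf g = m} = Nat.card {h : G // orderOf h = m}) :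
    (∃ C : Subgroup G, Cfsg.IsFrobeniusComplement C) ∧
      (Group.IsSolvable G ↔ Group.IsSolvable F) := by
  classical
  obtain ⟨C, hC⟩ := hF
  have hcard := OrderType.card_eq hT
  have hpow := OrderType.card_pow_eq_one hT
  have hcop := coprime_card_index hC
  have hCk : Nat.card C * C.index = Nat.card F := C.card_mul_index
  set k := C.index with hk
  have hk1 : 1 < k := one_lt_index hC
  have hc1 : 1 < Nat.card C := one_lt_card hC
  -- normal Sylow subgroups
  have hP : ∀ p ∈ k.primeFactors, ∃ P : Subgroup G, P.Normal ∧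
      Nat.card P = p ^ k.factorization p := by
    intro p hp
    have hpp := Nat.prime_of_mem_primeFactors hp
    have hpk := Nat.dvd_of_mem_primeFactors hp
    haveI : Fact p.Prime := ⟨hpp⟩
    obtain ⟨S⟩ : Nonempty (Sylow p G) := inferInstance
    have hS : Nat.card S = p ^ (Nat.card F).factorization p := by
      rw [hcard]; exact S.card_eq_multiplicity
    refine ⟨S, Tower.normal_of_count _ hS (by rw [← hpow]; exact card_primary_kernel hC hpp hpk), ?_⟩
    rw [hS, ← hCk, Nat.factorization_mul Nat.card_pos.ne' (by omega), Finsupp.add_apply,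
      Nat.factorization_eq_zero_of_not_dvd (n := Nat.card C), zero_add]
    intro hd
    exact hpp.one_lt.ne' (Nat.dvd_one.1 (hcop ▸ Nat.dvd_gcd hd hpk))
  choose P hPn hPc using hP
  have hsup : ∀ s : Finset {p // p ∈ k.primeFactors},
      (s.sup fun p => P p.1 p.2).Normal ∧
        Nat.card (s.sup fun p => P p.1 p.2 : Subgroup G) ∣ ∏ p ∈ s, Nat.card (P p.1 p.2) := by
    intro s
    induction s using Finset.induction_on with
    | empty => simp only [Finset.sup_empty]; exact ⟨inferInstance, by simp⟩
    | insert a t ha ih =>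
      rw [Finset.sup_insert, Finset.prod_insert ha]
      haveI := hPn a.1 a.2
      haveI := ih.1
      exact ⟨Subgroup.sup_normal _ _,
        (Cores.card_sup_dvd _ _).trans (Nat.mul_dvd_mul_left _ ih.2)⟩
  let K : Subgroup G := Finset.univ.sup fun p : {p // p ∈ k.primeFactors} => P p.1 p.2
  haveI hKn : K.Normal := (hsup Finset.univ).1
  have hKc : Nat.card K = k := by
    refine Nat.dvd_antisymm ?_ ?_
    · refine (hsup Finset.univ).2.trans (dvd_of_eq ?_)
      rw [Finset.prod_congr rfl fun p _ => hPc p.1 p.2,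
        ← Finset.attach_eq_univ, Finset.prod_attach k.primeFactors fun p => p ^ k.factorization p]
      exact Nat.prod_factorization_pow_eq_self (by omega)
    · conv_lhs => rw [← Nat.prod_factorization_pow_eq_self (show k ≠ 0 by omega)]
      rw [Finsupp.prod, Nat.support_factorization]
      refine Finset.prod_dvd_of_isRelPrime (fun p hp q hq hpq => ?_) fun p hp => ?_
      · exact Nat.coprime_iff_isRelPrime.1 (((Nat.coprime_primes (Nat.prime_of_mem_primeFactors hp)
          (Nat.prime_of_mem_primeFactors hq)).2 hpq).pow _ _)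
      · rw [← hPc p hp]
        exact Subgroup.card_dvd_of_le (Finset.le_sup (f := fun p : {p // p ∈ k.primeFactors} =>
          P p.1 p.2) (Finset.mem_univ ⟨p, hp⟩))
  have hKidx : K.index = Nat.card C := by
    have h1 := K.card_mul_index
    rw [hKc, ← hcard, ← hCk, mul_comm (Nat.card C)] at h1
    exact Nat.eq_of_mul_eq_mul_left (by omega) h1
  obtain ⟨D, hD⟩ := Subgroup.exists_right_complement'_of_coprime
    (show (Nat.card K).Coprime K.index by rw [hKc, hKidx]; exact hcop.symm)
  have hDc : Nat.card D = Nat.card C := hKidx ▸ (hD.symm.index_eq_card).symm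
  have hDF : Cfsg.IsFrobeniusComplement D := by
    refine of_fixedPointFree hD (fun h => ?_) (fun h => ?_) fun d hd hd1 a ha hcomm => ?_
    · rw [h, Subgroup.card_bot] at hKc; omega
    · rw [h, Subgroup.card_bot] at hDc; omega
    by_contra ha1
    have hod : orderOf d ∣ Nat.card C := hDc ▸ Subgroup.orderOf_dvd_natCard _ hd
    have hoa : orderOf a ∣ k := hKc ▸ Subgroup.orderOf_dvd_natCard _ ha
    have hco : (orderOf d).Coprime (orderOf a) := Nat.Coprime.of_dvd hod hoa hcop
    have horder : orderOf (d * a) = orderOf d * orderOf a :=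
      (Commute.orderOf_mul_eq_mul_orderOf_of_coprime hcomm hco)
    obtain ⟨e, he⟩ := OrderType.exists_equiv hT
    obtain ⟨x, hx⟩ := e.surjective (d * a)
    have hox : orderOf x = orderOf d * orderOf a := by rw [← he x, hx, horder]
    rcases orderOf_dvd_or hC x with h | h <;> rw [hox] at h
    · exact hd1 (orderOf_eq_one_iff.1 (Nat.dvd_one.1 (hcop ▸ Nat.dvd_gcd hod
        ((dvd_mul_right _ _).trans h))))
    · exact ha1 (orderOf_eq_one_iff.1 (Nat.dvd_one.1 (hcop ▸ Nat.dvd_gcd
        ((dvd_mul_left _ _).trans h) hoa)))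
  have hDidx : D.index = k := hKc ▸ hD.index_eq_card
  refine ⟨⟨D, hDF⟩, ?_⟩
  rw [isSolvable_iff hDF, isSolvable_iff hC, Complement.isSolvable_iff_counts hDF,
    Complement.isSolvable_iff_counts hC, hDc]
  refine forall_congr' fun j => imp_congr_right fun _ => ?_
  have hm := Tower.upperPart_dvd (Nat.card_pos (α := C)).ne' j
  have e1 := card_pow_eq_one_complement hC hm
  have hm' : Tower.upperPart (Nat.card C) j ∣ Nat.card D := by rw [hDc]; exact hm
  have e2 := card_pow_eq_one_complement hDF hm'
  rw [← hpow] at e2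
  rw [hDidx] at e2
  rw [← hk] at e1
  have e3 := Nat.eq_of_mul_eq_mul_left (show 0 < k by omega) (by omega :
    k * Nat.card {h : C // h ^ Tower.upperPart (Nat.card C) j = 1} =
      k * Nat.card {h : D // h ^ Tower.upperPart (Nat.card C) j = 1})
  rw [e3]

end Cfsg.Agent.H74.FrobType
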