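import Cfsg.Agent.H74.SchurMeta
import Mathlib

/-!
A stem extension of a metacyclic group with cyclic kernel of prescribed order.
-/

namespace Cfsg.Agent.H74.MetaModel

open Subgroup
open scoped commutatorElement

/-- The parameters: `e` divides the three obstructions. -/
structure Data where
  m : ℕ
  n : ℕ
  r : ℕ
  e : ℕ
  i : ℤ
  w : ℤ
  t : ℕ
  u : ℕ
  hm : 0 < m
  hn : 0 < n
  he : 0 < e
  /-- `θ` is well defined -/
  hdef : (e : ℤ) ∣ i * (r - 1) + w * m
  /-- `θ ^ n = 1` on `a` -/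
  hpow : ∃ q : ℤ, (r : ℤ) ^ n - 1 = q * m ∧
    (e : ℤ) ∣ i * q + w * ∑ j ∈ Finset.range n, (r : ℤ) ^ j
  /-- `θ` fixes `a ^ t` -/
  hfix : ∃ q : ℤ, ((r : ℤ) - 1) * t = q * m ∧ (e : ℤ) ∣ i * q + w * t
  /-- the kernel is generated by a commutator -/
  hstem : ∃ q : ℤ, ((r : ℤ) - 1) * u = q * m ∧ (e : ℤ) ∣ i * q + w * u - 1

variable (P : Data)

/-- The relation of the abelian subgroup. -/
abbrev rel : AddSubgroup (ℤ × ZMod P.e) := AddSubgroup.zmultiples ((P.m : ℤ), -(P.i : ZMod P.e))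

/-- `⟨a, z | a ^ m = z ^ i, z ^ e = 1⟩`. -/
abbrev AGrp : Type := (ℤ × ZMod P.e) ⧸ rel P

/-- `a ^ x z ^ y`. -/
abbrev el (x : ℤ) (y : ℤ) : AGrp P := QuotientAddGroup.mk (x, (y : ZMod P.e))

theorem el_add (x y x' y' : ℤ) : el P x y + el P x' y' = el P (x + x') (y + y') := by
  rw [el, el, el, ← QuotientAddGroup.mk_add, Prod.mk_add_mk, Int.cast_add]

theorem el_eq_iff (x y x' y' : ℤ) :
    el P x y = el P x' y' ↔ ∃ q : ℤ, x' = x + q * P.m ∧ (P.e : ℤ) ∣ y + -(q * P.i) - y' := by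
  rw [QuotientAddGroup.eq]
  constructor
  · rintro ⟨q, hq⟩
    have h1 := congrArg Prod.fst hq
    have h2 := congrArg Prod.snd hq
    simp only [Prod.smul_mk, Prod.fst_add, Prod.snd_add, Prod.fst_neg, Prod.snd_neg, smul_eq_mul,
      zsmul_eq_mul] at h1 h2
    refine ⟨q, by linarith, ?_⟩
    rw [← ZMod.intCast_zmod_eq_zero_iff_dvd]
    push_cast
    linear_combination h2
  · rintro ⟨q, hq, hy⟩
    refine ⟨q, Prod.ext ?_ ?_⟩
    · simp only [Prod.smul_mk, Prod.fst_add, Prod.fst_neg, smul_eq_mul]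
      linarith
    · rw [← ZMod.intCast_zmod_eq_zero_iff_dvd] at hy
      push_cast at hy
      simp only [Prod.smul_mk, Prod.snd_add, Prod.snd_neg, zsmul_eq_mul]
      linear_combination hy

theorem exists_el (v : AGrp P) : ∃ x y, v = el P x y := by
  obtain ⟨⟨x, y⟩, rfl⟩ := QuotientAddGroup.mk_surjective v
  obtain ⟨y, rfl⟩ := ZMod.intCast_surjective y
  exact ⟨x, y, rfl⟩

instance finite_aGrp : Finite (AGrp P) := by
  haveI : NeZero P.e := ⟨P.he.ne'⟩
  refine Finite.of_surjective (fun v : Fin P.m × ZMod P.e => (QuotientAddGroup.mk ((v.1 : ℤ), v.2) : AGrp P))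
    fun v => ?_
  obtain ⟨x, y, rfl⟩ := exists_el P v
  have hm : (0 : ℤ) < P.m := Int.natCast_pos.2 P.hm
  refine ⟨(⟨(x % P.m).toNat, ?_⟩, ((y + (x / P.m) * P.i : ℤ) : ZMod P.e)), ?_⟩
  · have := Int.emod_lt_of_pos x hm; omega
  · show el P _ _ = el P x y
    rw [el_eq_iff]
    refine ⟨x / P.m, ?_, by ring_nf; simp⟩
    simp only [Int.toNat_of_nonneg (Int.emod_nonneg x hm.ne')]
    linarith [Int.emod_add_mul_ediv x P.m]

/-- Conjugation by `b` before passing to the quotient. -/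
def theta0 : ℤ × ZMod P.e →+ ℤ × ZMod P.e :=
  AddMonoidHom.mk' (fun v => ((P.r : ℤ) * v.1, (P.w : ZMod P.e) * (v.1 : ZMod P.e) + v.2))
    fun a b => Prod.ext (by simp [mul_add]) (by simp [mul_add]; ring)

/-- Conjugation by `b`. -/
def theta : AGrp P →+ AGrp P :=
  QuotientAddGroup.map (rel P) (rel P) (theta0 P) (by
    rw [AddSubgroup.zmultiples_le, AddSubgroup.mem_comap]
    refine ⟨P.r, Prod.ext (by simp [theta0]) ?_⟩
    have h := (ZMod.intCast_zmod_eq_zero_iff_dvd _ _).2 P.hdef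
    push_cast at h
    simp only [theta0, AddMonoidHom.mk'_apply, Prod.smul_mk, zsmul_eq_mul, Int.cast_natCast]
    linear_combination -h)

theorem theta_el (x y : ℤ) : theta P (el P x y) = el P (P.r * x) (P.w * x + y) := by
  show QuotientAddGroup.mk _ = QuotientAddGroup.mk _
  refine congrArg _ (Prod.ext rfl ?_)
  simp [theta0]

theorem theta_iterate (x y : ℤ) (k : ℕ) : (theta P)^[k] (el P x y) =
    el P ((P.r : ℤ) ^ k * x) (P.w * x * (∑ j ∈ Finset.range k, (P.r : ℤ) ^ j) + y) := by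
  induction k with
  | zero => simp
  | succ k ih =>
    rw [Function.iterate_succ_apply', ih, theta_el, Finset.sum_range_succ, pow_succ']
    exact congrArg₂ (el P) (by ring) (by ring)

theorem dvd_of_eq_of_dvd {a b c : ℤ} (h : a ∣ b) (e : c = b) : a ∣ c := e ▸ h

theorem theta_iterate_n (v : AGrp P) : (theta P)^[P.n] v = v := by
  obtain ⟨x, y, rfl⟩ := exists_el P v
  rw [theta_iterate, el_eq_iff]
  obtain ⟨q, hq, hd⟩ := P.hpow
  refine ⟨-(q * x), by linear_combination (-x) * hq, ?_⟩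
  exact dvd_of_eq_of_dvd (hd.mul_left x) (by ring)

/-- `theta` as a permutation. -/
def thetaEquiv : AGrp P ≃+ AGrp P where
  toFun := theta P
  invFun := (theta P)^[P.n - 1]
  left_inv v := by
    rw [← Function.iterate_succ_apply, Nat.succ_eq_add_one, Nat.sub_add_cancel P.hn]
    exact theta_iterate_n P v
  right_inv v := by
    rw [← Function.iterate_succ_apply' (theta P), Nat.succ_eq_add_one, Nat.sub_add_cancel P.hn]
    exact theta_iterate_n P v
  map_add' := map_add (theta P)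

/-- The action of `ℤ`. -/
def act : Multiplicative ℤ →* MulAut (Multiplicative (AGrp P)) :=
  zpowersHom _ (AddEquiv.toMultiplicative (thetaEquiv P))

/-- The semidirect product. -/
abbrev SGrp : Type := SemidirectProduct (Multiplicative (AGrp P)) (Multiplicative ℤ) (act P)

theorem act_natCast (k : ℕ) (v : AGrp P) :
    act P (Multiplicative.ofAdd (k : ℤ)) (Multiplicative.ofAdd v) =
      Multiplicative.ofAdd ((theta P)^[k] v) := by
  induction k generalizing v with
  | zero => simp [act]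
  | succ k ih =>
    rw [Function.iterate_succ_apply, ← ih]
    simp only [act, zpowersHom_apply, toAdd_ofAdd, zpow_natCast, pow_succ, MulAut.mul_apply]
    rfl

/-- `a ^ x z ^ y` in the semidirect product. -/
def sA (x y : ℤ) : SGrp P := SemidirectProduct.inl (Multiplicative.ofAdd (el P x y))

/-- `b` in the semidirect product. -/
def sB : SGrp P := SemidirectProduct.inr (Multiplicative.ofAdd 1)

theorem sA_mul (x y x' y' : ℤ) : sA P x y * sA P x' y' = sA P (x + x') (y + y') := by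
  rw [sA, sA, sA, ← map_mul, ← ofAdd_add, el_add]

theorem sA_zpow (x y k : ℤ) : sA P x y ^ k = sA P (k * x) (k * y) := by
  rw [sA, sA, ← map_zpow, ← ofAdd_zsmul]
  congr 2
  show k • (QuotientAddGroup.mk (x, (y : ZMod P.e)) : AGrp P) = QuotientAddGroup.mk _
  rw [← QuotientAddGroup.mk_zsmul, Prod.smul_mk, smul_eq_mul, zsmul_eq_mul, Int.cast_mul]

theorem sB_conj (x y : ℤ) : sB P * sA P x y * (sB P)⁻¹ = sA P (P.r * x) (P.w * x + y) := by
  rw [sB, sA, sA, ← map_inv, ← SemidirectProduct.inl_aut]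
  congr 1
  have h := act_natCast P 1 (el P x y)
  rw [Function.iterate_one, theta_el] at h
  exact h

/-- `b ^ n a ^ {-t}`. -/
def sRel : SGrp P := sB P ^ P.n * sA P (-(P.t : ℤ)) 0

theorem sB_pow_n_comm (x y : ℤ) : sB P ^ P.n * sA P x y = sA P x y * sB P ^ P.n := by
  rw [← mul_inv_eq_iff_eq_mul, sB, sA, ← map_pow, ← map_inv, ← SemidirectProduct.inl_aut]
  congr 1
  rw [← ofAdd_nsmul, nsmul_one, act_natCast, theta_iterate_n]

theorem sB_comm_t : sB P * sA P (-(P.t : ℤ)) 0 = sA P (-(P.t : ℤ)) 0 * sB P := by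
  rw [← mul_inv_eq_iff_eq_mul, sB_conj]
  refine congrArg SemidirectProduct.inl (congrArg Multiplicative.ofAdd ((el_eq_iff P _ _ _ _).2 ?_))
  obtain ⟨q, hq, hd⟩ := P.hfix
  refine ⟨q, by linear_combination hq, ?_⟩
  exact dvd_of_eq_of_dvd (dvd_neg.2 hd) (by ring)

theorem sGrp_decomp (g : SGrp P) : ∃ (x y k : ℤ), g = sA P x y * sB P ^ k := by
  obtain ⟨x, y, hxy⟩ := exists_el P (Multiplicative.toAdd g.left)
  refine ⟨x, y, Multiplicative.toAdd g.right, ?_⟩
  rw [sA, sB, ← hxy, ofAdd_toAdd, ← map_zpow, ← ofAdd_zsmul, smul_eq_mul, mul_one, ofAdd_toAdd,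
    SemidirectProduct.inl_left_mul_inr_right]

theorem sRel_mem_center : sRel P ∈ center (SGrp P) := by
  rw [mem_center_iff]
  intro g
  obtain ⟨x, y, k, rfl⟩ := sGrp_decomp P g
  have h1 : Commute (sA P x y) (sRel P) :=
    (Commute.symm (sB_pow_n_comm P x y)).mul_right (show _ = _ by
      rw [sA_mul, sA_mul, add_comm x, add_comm y])
  have h2 : Commute (sB P) (sRel P) := (Commute.self_pow _ _).mul_right (sB_comm_t P)
  exact (h1.mul_left (h2.zpow_left k)).eq

instance normal_zpowers_sRel : (zpowers (sRel P)).Normal :=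
  ⟨fun h hh g => by
    obtain ⟨j, rfl⟩ := mem_zpowers_iff.1 hh
    rw [mem_center_iff.1 (zpow_mem (sRel_mem_center P) j) g, mul_inv_cancel_right]
    exact zpow_mem (mem_zpowers _) _⟩

/-- The extension group. -/
abbrev EGrp : Type := SGrp P ⧸ zpowers (sRel P)

/-- `a` -/
def eA : EGrp P := QuotientGroup.mk (sA P 1 0)
/-- `b` -/
def eB : EGrp P := QuotientGroup.mk (sB P)
/-- `z` -/
def eZ : EGrp P := QuotientGroup.mk (sA P 0 1)

theorem mk_sA (x y : ℤ) : (QuotientGroup.mk (sA P x y) : EGrp P) = eA P ^ x * eZ P ^ y := by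
  rw [eA, eZ, ← QuotientGroup.mk_zpow, ← QuotientGroup.mk_zpow, ← QuotientGroup.mk_mul, sA_zpow,
    sA_zpow, sA_mul]
  simp

theorem mk_sA_eq_one {x y : ℤ} (h : (QuotientGroup.mk (sA P x y) : EGrp P) = 1) :
    el P x y = el P 0 0 := by
  obtain ⟨j, hj⟩ := mem_zpowers_iff.1 ((QuotientGroup.eq_one_iff _).1 h)
  have hr := congrArg (SemidirectProduct.rightHom) hj
  simp only [map_zpow, sRel, map_mul, map_pow, sB, sA, SemidirectProduct.rightHom_inl,
    SemidirectProduct.rightHom_inr, mul_one] at hr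
  have hj0 : j = 0 := by
    have h2 := congrArg Multiplicative.toAdd hr
    simp at h2
    rcases h2 with h2 | h2
    · exact h2
    · exact absurd h2 P.hn.ne'
  rw [hj0, zpow_zero] at hj
  have := congrArg (fun g : SGrp P => Multiplicative.toAdd g.left) hj
  refine this.symm.trans ?_
  show (0 : AGrp P) = el P 0 0
  simp [el, ← Prod.zero_eq_mk]

theorem eA_pow_m : eA P ^ (P.m : ℤ) = eZ P ^ P.i := by
  rw [eA, eZ, ← QuotientGroup.mk_zpow, ← QuotientGroup.mk_zpow, sA_zpow, sA_zpow]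
  refine congrArg _ (congrArg SemidirectProduct.inl (congrArg Multiplicative.ofAdd ((el_eq_iff P _ _ _ _).2 ?_)))
  exact ⟨-1, by ring, by simp⟩

theorem eB_conj : eB P * eA P * (eB P)⁻¹ = eA P ^ (P.r : ℤ) * eZ P ^ P.w := by
  rw [← mk_sA, eB, eA, ← QuotientGroup.mk_inv, ← QuotientGroup.mk_mul, ← QuotientGroup.mk_mul,
    sB_conj, mul_one, mul_one, add_zero]

theorem eB_pow_n : eB P ^ P.n = eA P ^ (P.t : ℤ) := by
  have h : (QuotientGroup.mk (sB P ^ P.n * sA P (-(P.t : ℤ)) 0) : EGrp P) = 1 :=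
    (QuotientGroup.eq_one_iff _).2 (mem_zpowers (sRel P))
  rw [QuotientGroup.mk_mul, QuotientGroup.mk_pow, mk_sA, zpow_zero, mul_one, zpow_neg] at h
  exact mul_inv_eq_one.1 h

theorem eZ_pow_eq_one {k : ℤ} (h : eZ P ^ k = 1) : (P.e : ℤ) ∣ k := by
  rw [eZ, ← QuotientGroup.mk_zpow, sA_zpow] at h
  obtain ⟨q, hq, hd⟩ := (el_eq_iff P _ _ _ _).1 (mk_sA_eq_one P h)
  have hq0 : q = 0 := by
    rcases mul_eq_zero.1 (show q * (P.m : ℤ) = 0 by linarith) with h1 | h1
    · exact h1
    · exact absurd (by exact_mod_cast h1) P.hm.ne'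
  simpa [hq0] using hd

theorem eA_pow_mem {x k : ℤ} (h : eA P ^ x = eZ P ^ k) : (P.m : ℤ) ∣ x := by
  have h' : (QuotientGroup.mk (sA P x (-k)) : EGrp P) = 1 := by
    rw [mk_sA, h, zpow_neg, mul_inv_cancel]
  obtain ⟨q, hq, -⟩ := (el_eq_iff P _ _ _ _).1 (mk_sA_eq_one P h')
  exact ⟨-q, by linear_combination -hq⟩

theorem eZ_pow_e : eZ P ^ (P.e : ℤ) = 1 := by
  rw [eZ, ← QuotientGroup.mk_zpow, sA_zpow]
  have h : sA P ((P.e : ℤ) * 0) ((P.e : ℤ) * 1) = sA P 0 0 :=
    congrArg SemidirectProduct.inl (congrArg Multiplicative.ofAdd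
      ((el_eq_iff P _ _ _ _).2 ⟨0, by ring, by simp⟩))
  rw [h, mk_sA, zpow_zero, zpow_zero, mul_one]

theorem closure_gen : closure ({eA P, eB P, eZ P} : Set (EGrp P)) = ⊤ := by
  rw [eq_top_iff]
  intro g _
  induction g using QuotientGroup.induction_on with
  | H g =>
    obtain ⟨x, y, k, rfl⟩ := sGrp_decomp P g
    rw [QuotientGroup.mk_mul, QuotientGroup.mk_zpow, mk_sA]
    exact mul_mem (mul_mem (zpow_mem (Subgroup.subset_closure (by simp)) _)
      (zpow_mem (Subgroup.subset_closure (by simp)) _)) (zpow_mem (Subgroup.subset_closure (show eB P ∈ ({eA P, eB P, eZ P} : Set (EGrp P)) by simp)) _)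

theorem eZ_mem_center : eZ P ∈ center (EGrp P) := by
  have h : closure ({eA P, eB P, eZ P} : Set (EGrp P)) ≤ centralizer {eZ P} := by
    rw [closure_le]
    rintro g (rfl | rfl | rfl) <;> rw [SetLike.mem_coe, mem_centralizer_singleton_iff]
    · rw [eA, eZ, ← QuotientGroup.mk_mul, ← QuotientGroup.mk_mul, sA_mul, sA_mul, add_comm (1 : ℤ) 0,
        add_comm (0 : ℤ) 1]
    · rw [← mul_inv_eq_iff_eq_mul, eB, eZ, ← QuotientGroup.mk_inv, ← QuotientGroup.mk_mul,
        ← QuotientGroup.mk_mul, sB_conj, mul_zero, mul_zero, zero_add]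
  rw [closure_gen] at h
  exact mem_center_iff.2 fun g => mem_centralizer_singleton_iff.1 (h (mem_top g))

theorem eZ_mem_commutator : eZ P ∈ _root_.commutator (EGrp P) := by
  obtain ⟨q, hq, hd⟩ := P.hstem
  have hmem : ⁅eB P, eA P⁆ ∈ _root_.commutator (EGrp P) :=
    Subgroup.commutator_mem_commutator (mem_top _) (mem_top _)
  have h1 : ⁅eB P, eA P⁆ = QuotientGroup.mk (sA P ((P.r : ℤ) - 1) P.w) := by
    rw [commutatorElement_def, eB_conj, ← mk_sA, eA, ← QuotientGroup.mk_inv, ← QuotientGroup.mk_mul,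
      ← zpow_neg_one, sA_zpow, sA_mul]
    congr 2 <;> ring
  have h2 : eZ P = ⁅eB P, eA P⁆ ^ (P.u : ℤ) := by
    rw [h1, ← QuotientGroup.mk_zpow, sA_zpow, eZ]
    refine congrArg _ (congrArg SemidirectProduct.inl (congrArg Multiplicative.ofAdd
      ((el_eq_iff P _ _ _ _).2 ⟨q, by linear_combination hq, ?_⟩)))
    exact dvd_of_eq_of_dvd (dvd_neg.2 hd) (by ring)
  rw [h2]
  exact zpow_mem hmem _

instance finite_eGrp : Finite (EGrp P) := by
  refine Finite.of_surjective (fun v : AGrp P × Fin P.n =>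
    (QuotientGroup.mk (SemidirectProduct.inl (Multiplicative.ofAdd v.1) * sB P ^ (v.2 : ℕ)) : EGrp P))
    fun g => ?_
  induction g using QuotientGroup.induction_on with
  | H g =>
    obtain ⟨x, y, k, rfl⟩ := sGrp_decomp P g
    have hn : (0 : ℤ) < P.n := Int.natCast_pos.2 P.hn
    obtain ⟨x', y', hxy⟩ : ∃ x' y', sA P x y * (sA P (P.t : ℤ) 0) ^ (k / (P.n : ℤ)) = sA P x' y' :=
      ⟨_, _, by rw [sA_zpow, sA_mul]⟩
    refine ⟨(el P x' y', ⟨(k % P.n).toNat, by have := Int.emod_lt_of_pos k hn; omega⟩), ?_⟩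
    have hBn : (QuotientGroup.mk (sA P (P.t : ℤ) 0) : EGrp P) = eB P ^ (P.n : ℤ) := by
      rw [mk_sA, zpow_zero, mul_one, zpow_natCast (eB P), eB_pow_n]
    show (QuotientGroup.mk (sA P x' y' * sB P ^ (k % P.n).toNat) : EGrp P) = _
    rw [← hxy, QuotientGroup.mk_mul, QuotientGroup.mk_mul, QuotientGroup.mk_zpow, hBn,
      QuotientGroup.mk_mul, QuotientGroup.mk_zpow, QuotientGroup.mk_pow]
    show _ * (eB P ^ (P.n : ℤ)) ^ (k / (P.n : ℤ)) * eB P ^ (k % P.n).toNat = _ * eB P ^ k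
    rw [mul_assoc, ← zpow_natCast (eB P) ((k % P.n).toNat), ← zpow_mul, ← zpow_add,
      Int.toNat_of_nonneg (Int.emod_nonneg k hn.ne'), add_comm, Int.emod_add_mul_ediv]

/-- The presentation of the metacyclic group. -/
abbrev metaRels : Set (FreeGroup Bool) :=
  {FreeGroup.of true ^ P.m, (FreeGroup.of false) ^ P.n * (FreeGroup.of true ^ P.t)⁻¹,
    FreeGroup.of false * FreeGroup.of true * (FreeGroup.of false)⁻¹ * (FreeGroup.of true ^ P.r)⁻¹}

theorem rel_a : (PresentedGroup.of (rels := metaRels P) true) ^ P.m = 1 :=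
  PresentedGroup.mk_eq_one_iff.2 (Subgroup.subset_normalClosure (Or.inl rfl))

theorem rel_b : (PresentedGroup.of (rels := metaRels P) false) ^ P.n =
    (PresentedGroup.of (rels := metaRels P) true) ^ P.t := by
  refine eq_of_mul_inv_eq_one ?_
  exact PresentedGroup.mk_eq_one_iff.2 (Subgroup.subset_normalClosure (Or.inr (Or.inl rfl)))

theorem rel_ab : PresentedGroup.of (rels := metaRels P) false * PresentedGroup.of true *
    (PresentedGroup.of false)⁻¹ = (PresentedGroup.of (rels := metaRels P) true) ^ P.r := by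
  refine eq_of_mul_inv_eq_one ?_
  exact PresentedGroup.mk_eq_one_iff.2 (Subgroup.subset_normalClosure (Or.inr (Or.inr rfl)))

theorem closure_pair : closure ({PresentedGroup.of true, PresentedGroup.of false} :
    Set (PresentedGroup (metaRels P))) = ⊤ := by
  rw [eq_top_iff, ← PresentedGroup.closure_range_of (metaRels P)]
  refine closure_mono ?_
  rintro _ ⟨b, rfl⟩
  cases b <;> simp

theorem exists_sigma : ∃ σ : EGrp P →* PresentedGroup (metaRels P),
    σ (eA P) = PresentedGroup.of true ∧ σ (eB P) = PresentedGroup.of false ∧ σ (eZ P) = 1 := by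
  set a : PresentedGroup (metaRels P) := PresentedGroup.of true with ha
  set b : PresentedGroup (metaRels P) := PresentedGroup.of false with hb
  let f₀ : ℤ × ZMod P.e →+ Additive (PresentedGroup (metaRels P)) :=
    (zmultiplesHom _ (Additive.ofMul a)).comp (AddMonoidHom.fst _ _)
  have hle : rel P ≤ f₀.ker := by
    rw [AddSubgroup.zmultiples_le, AddMonoidHom.mem_ker]
    apply Additive.toMul.injective
    simp [f₀, ha, rel_a P]
  let f₁ : Multiplicative (AGrp P) →* PresentedGroup (metaRels P) :=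
    AddMonoidHom.toMultiplicativeLeft (QuotientAddGroup.lift (rel P) f₀ hle)
  have hf₁ : ∀ x y, f₁ (Multiplicative.ofAdd (el P x y)) = a ^ x := fun x y => by simp [f₁, f₀, el]
  let f₂ : Multiplicative ℤ →* PresentedGroup (metaRels P) := zpowersHom _ b
  have hb1 : f₂ (Multiplicative.ofAdd 1) = b := by simp [f₂]
  have hstep : ∀ v : AGrp P, f₁ (Multiplicative.ofAdd (theta P v)) =
      b * f₁ (Multiplicative.ofAdd v) * b⁻¹ := by
    intro v
    obtain ⟨x, y, rfl⟩ := exists_el P v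
    rw [theta_el, hf₁, hf₁, ← conj_zpow, ha, hb, rel_ab P, zpow_mul, zpow_natCast]
  let σ₀ : SGrp P →* PresentedGroup (metaRels P) := SemidirectProduct.lift f₁ f₂ (by
    intro k
    refine MonoidHom.ext fun v => ?_
    show f₁ (act P k v) = f₂ k * f₁ v * (f₂ k)⁻¹
    obtain ⟨k, rfl⟩ := Multiplicative.ofAdd.surjective k
    obtain ⟨v, rfl⟩ := Multiplicative.ofAdd.surjective v
    induction k using Int.induction_on generalizing v with
    | zero => simp
    | succ k ih =>
      rw [ofAdd_add, map_mul, map_mul, MulAut.mul_apply]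
      have h := act_natCast P 1 v
      rw [Function.iterate_one, Nat.cast_one] at h
      rw [h, ih, hstep, hb1]
      group
    | pred k ih =>
      rw [sub_eq_add_neg, ofAdd_add, map_mul, map_mul, MulAut.mul_apply]
      set w := act P (Multiplicative.ofAdd (-1)) (Multiplicative.ofAdd v) with hw
      obtain ⟨w', hw'⟩ := Multiplicative.ofAdd.surjective w
      have h1 : act P (Multiplicative.ofAdd 1) w = Multiplicative.ofAdd v := by
        rw [hw, ← MulAut.mul_apply, ← map_mul, ← ofAdd_add, add_neg_cancel, ofAdd_zero, map_one,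
          MulAut.one_apply]
      have h2 := act_natCast P 1 w'
      rw [Function.iterate_one, Nat.cast_one, hw', h1] at h2
      have h3 := hstep w'
      rw [← h2, hw'] at h3
      rw [← hw', ih, hw', show f₂ (Multiplicative.ofAdd (-1 : ℤ)) = b⁻¹ by rw [ofAdd_neg, map_inv, hb1], h3]
      group)
  have hσ₀ : zpowers (sRel P) ≤ σ₀.ker := by
    rw [zpowers_le, MonoidHom.mem_ker, sRel, map_mul, map_pow, sB, sA]
    simp only [σ₀, SemidirectProduct.lift_inl, SemidirectProduct.lift_inr, hf₁, hb1]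
    rw [hb, rel_b P, zpow_neg, zpow_natCast, ha, mul_inv_cancel]
  refine ⟨QuotientGroup.lift _ σ₀ hσ₀, ?_, ?_, ?_⟩
  · show σ₀ (sA P 1 0) = a
    simp only [σ₀, sA, SemidirectProduct.lift_inl, hf₁, zpow_one]
  · show σ₀ (sB P) = b
    simp only [σ₀, sB, SemidirectProduct.lift_inr, hb1]
  · show σ₀ (sA P 0 1) = 1
    simp only [σ₀, sA, SemidirectProduct.lift_inl, hf₁, zpow_zero]

/-- The stem extension, and the order of `a`. -/
theorem exists_stem : ∃ (Γ : Type) (_ : Group Γ) (_ : Finite Γ) (σ : Γ →* PresentedGroup (metaRels P)),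
    Cfsg.IsStemExtension σ ∧ Nonempty (σ.ker ≃* Multiplicative (ZMod P.e)) ∧
      orderOf (PresentedGroup.of (rels := metaRels P) true) = P.m := by
  obtain ⟨σ, hσa, hσb, hσz⟩ := exists_sigma P
  set Z := zpowers (eZ P) with hZ
  have hZn : Z.Normal := ⟨fun h hh g => by
    obtain ⟨j, rfl⟩ := mem_zpowers_iff.1 hh
    rw [mem_center_iff.1 (zpow_mem (eZ_mem_center P) j) g, mul_inv_cancel_right]
    exact zpow_mem (mem_zpowers _) _⟩
  have hz1 : (QuotientGroup.mk (eZ P) : EGrp P ⧸ Z) = 1 :=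
    (QuotientGroup.eq_one_iff _).2 (mem_zpowers _)
  let g : Bool → EGrp P ⧸ Z := fun b => cond b (QuotientGroup.mk (eA P)) (QuotientGroup.mk (eB P))
  have hg : ∀ x ∈ metaRels P, FreeGroup.lift g x = 1 := by
    rintro x (rfl | rfl | rfl) <;> simp only [map_mul, map_pow, map_inv, FreeGroup.lift_apply_of, g, cond_true, cond_false]
    · rw [← zpow_natCast, ← QuotientGroup.mk_zpow, eA_pow_m, QuotientGroup.mk_zpow, hz1, one_zpow]
    · rw [← QuotientGroup.mk_pow, eB_pow_n, zpow_natCast, QuotientGroup.mk_pow, mul_inv_cancel]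
    · rw [← QuotientGroup.mk_inv, ← QuotientGroup.mk_mul, ← QuotientGroup.mk_mul, eB_conj,
        QuotientGroup.mk_mul, QuotientGroup.mk_zpow, QuotientGroup.mk_zpow, hz1, one_zpow, mul_one,
        zpow_natCast, mul_inv_cancel]
  let ρ : PresentedGroup (metaRels P) →* EGrp P ⧸ Z := PresentedGroup.toGroup hg
  have hρ : ρ.comp σ = QuotientGroup.mk' Z := by
    refine MonoidHom.eq_of_eqOn_dense (closure_gen P) ?_
    rintro x (rfl | rfl | rfl)
    · show ρ (σ (eA P)) = _
      rw [hσa, PresentedGroup.toGroup.of]; rfl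
    · show ρ (σ (eB P)) = _
      rw [hσb, PresentedGroup.toGroup.of]; rfl
    · show ρ (σ (eZ P)) = _
      rw [hσz, map_one]; exact hz1.symm
  have hker : σ.ker = Z := by
    refine le_antisymm (fun x hx => ?_) (zpowers_le.2 hσz)
    rw [← QuotientGroup.eq_one_iff, ← QuotientGroup.mk'_apply, ← hρ, MonoidHom.comp_apply,
      MonoidHom.mem_ker.1 hx, map_one]
  have hord : orderOf (eZ P) = P.e := by
    refine Nat.dvd_antisymm (orderOf_dvd_of_pow_eq_one ?_) (Int.natCast_dvd_natCast.1 (eZ_pow_eq_one P ?_))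
    · rw [← zpow_natCast]; exact eZ_pow_e P
    · rw [zpow_natCast]; exact pow_orderOf_eq_one _
  have hsurj : Function.Surjective σ := by
    rw [← MonoidHom.range_eq_top, eq_top_iff, ← closure_pair P, closure_le]
    rintro x (rfl | rfl)
    · exact ⟨eA P, hσa⟩
    · exact ⟨eB P, hσb⟩
  have hm' : orderOf (PresentedGroup.of (rels := metaRels P) true) = P.m := by
    refine Nat.dvd_antisymm (orderOf_dvd_of_pow_eq_one (rel_a P)) ?_
    have h : eA P ^ (orderOf (PresentedGroup.of (rels := metaRels P) true) : ℤ) ∈ Z := by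
      rw [← hker, MonoidHom.mem_ker, map_zpow, hσa, zpow_natCast, pow_orderOf_eq_one]
    obtain ⟨k, hk⟩ := mem_zpowers_iff.1 h
    exact Int.natCast_dvd_natCast.1 (eA_pow_mem P hk.symm)
  haveI : NeZero P.e := ⟨P.he.ne'⟩
  refine ⟨EGrp P, inferInstance, inferInstance, σ, ⟨hsurj, ?_, ?_⟩, ⟨?_⟩, hm'⟩
  · rw [hker, zpowers_le]; exact eZ_mem_center P
  · rw [hker, zpowers_le]; exact eZ_mem_commutator P
  · refine (MulEquiv.subgroupCongr hker).trans (mulEquivOfCyclicCardEq ?_)
    rw [Nat.card_zpowers, hord]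
    simp

end Cfsg.Agent.H74.MetaModel
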