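import Cfsg.Agent.Cores.Basic
import Cfsg.Agent.Fusion.Frobenius
import Cfsg.Agent.H74.LocalTI
import Mathlib

/-!
Groups in which every proper subgroup that is neither a `q`-group nor a `q'`-group has order
divisible by `p`: elementary consequences.
-/

namespace Cfsg.Agent.H74.Mixed

open Subgroup

variable {G : Type*} [Group G] {p q : ℕ}

/-- Every proper subgroup that is neither a `q`-group nor of order prime to `q` has order divisible
by `p`. -/
def MixHyp (p q : ℕ) (G : Type*) [Group G] : Prop :=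
  ∀ H : Subgroup G, H ≠ ⊤ → ¬ IsPGroup q H → q ∣ Nat.card H → p ∣ Nat.card H

/-- Only `p` and `q` divide the order. -/
def TwoPrimes (p q : ℕ) (G : Type*) [Group G] : Prop :=
  ∀ r : ℕ, r.Prime → r ∣ Nat.card G → r = p ∨ r = q

theorem isPGroup_of_small (hpG : p ∣ Nat.card G) (h : MixHyp p q G) {H : Subgroup G}
    (hp : ¬ p ∣ Nat.card H) (hq : q ∣ Nat.card H) : IsPGroup q H := by
  by_contra hne
  exact hp (h H (fun hT => hp (by rw [hT, Subgroup.card_top]; exact hpG)) hne hq)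

theorem mixHyp_subgroup (h : MixHyp p q G) (H : Subgroup G) : MixHyp p q H := by
  intro K hK hKq hqK
  have hc : Nat.card (K.map H.subtype) = Nat.card K :=
    Subgroup.card_map_of_injective H.subtype_injective
  rw [← hc] at hqK ⊢
  refine h _ (fun hT => hK (eq_top_iff.2 fun x _ => ?_))
    (fun hp => hKq (hp.of_equiv (K.equivMapOfInjective _ H.subtype_injective).symm)) hqK
  have hx : (x : G) ∈ K.map H.subtype := by rw [hT]; exact mem_top _
  obtain ⟨y, hy, hyx⟩ := hx
  exact Subtype.ext hyx ▸ hy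

theorem card_sup_zpowers_dvd [Finite G] {U : Subgroup G} {g : G}
    (hg : g ∈ normalizer (U : Set G)) :
    Nat.card ↥(U ⊔ zpowers g) ∣ Nat.card U * orderOf g := by
  set M := normalizer (U : Set G)
  have hU : U ≤ M := le_normalizer
  have h := Cores.card_sup_dvd ((zpowers g).subgroupOf M) (U.subgroupOf M)
  have e : ∀ K : Subgroup G, K ≤ M → Nat.card (K.subgroupOf M) = Nat.card K := fun K hK =>
    Nat.card_congr (Subgroup.subgroupOfEquivOfLe hK).toEquiv
  rw [← Subgroup.subgroupOf_sup (zpowers_le.2 hg) hU, e _ (sup_le (zpowers_le.2 hg) hU), e _ hU,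
    e _ (zpowers_le.2 hg), Nat.card_zpowers, sup_comm] at h
  rwa [mul_comm] at h

/-- A `p'`-element normalizing a nontrivial `q`-subgroup is a `q`-element. -/
theorem isPow_of_normalizes [Finite G] [Fact q.Prime] (hp : p.Prime) (hpq : p ≠ q)
    (hpG : p ∣ Nat.card G) (h : MixHyp p q G) {U : Subgroup G} (hU : IsPGroup q U) (hne : U ≠ ⊥)
    {g : G} (hg : g ∈ normalizer (U : Set G)) (hgp : ¬ p ∣ orderOf g) :
    ∃ k, orderOf g = q ^ k := by
  obtain ⟨n, hn⟩ := IsPGroup.iff_card.1 hU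
  have hn0 : n ≠ 0 := fun h0 => hne (Subgroup.card_eq_one.1 (by rw [hn, h0, pow_zero]))
  have hdvd : ¬ p ∣ Nat.card ↥(U ⊔ zpowers g) := fun hd => by
    rcases hp.dvd_mul.1 (hd.trans (card_sup_zpowers_dvd hg)) with h1 | h1
    · exact hpq ((Nat.prime_dvd_prime_iff_eq hp Fact.out).1 (hp.dvd_of_dvd_pow (hn ▸ h1)))
    · exact hgp h1
  have hq : q ∣ Nat.card ↥(U ⊔ zpowers g) :=
    ((dvd_pow_self q hn0).trans (dvd_of_eq hn.symm)).trans (Subgroup.card_dvd_of_le le_sup_left)
  obtain ⟨k, hk⟩ := IsPGroup.iff_orderOf.1 (isPGroup_of_small hpG h hdvd hq)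
    ⟨g, mem_sup_right (mem_zpowers g)⟩
  exact ⟨k, by rwa [Subgroup.orderOf_mk] at hk⟩

/-- Without nontrivial action of `p`-elements on `q`-subgroups only two primes occur. -/
theorem twoPrimes_of_centralizes [Finite G] [Fact q.Prime] (hp : p.Prime) (hpq : p ≠ q)
    (hpG : p ∣ Nat.card G) (hqG : q ∣ Nat.card G) (h : MixHyp p q G)
    (hact : ∀ (U : Subgroup G) (g : G), IsPGroup q U → g ∈ normalizer (U : Set G) →
      (∃ k, orderOf g = p ^ k) → g ∈ centralizer (U : Set G)) :
    Cfsg.HasNormalPComplement q G ∧ TwoPrimes p q G := by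
  haveI : Fact p.Prime := ⟨hp⟩
  have hq : q.Prime := Fact.out
  obtain ⟨S⟩ : Nonempty (Sylow q G) := inferInstance
  have hcomp : Cfsg.HasNormalPComplement q G := by
    refine (Fusion.frobenius_criterion S).2 fun U hU g hg hgq => ?_
    rcases eq_or_ne U ⊥ with rfl | hne
    · rw [Subgroup.mem_centralizer_iff]
      intro x hx
      rw [Subgroup.coe_bot, Set.mem_singleton_iff] at hx
      simp [hx]
    have hUq : IsPGroup q U := S.isPGroup'.to_le hU
    obtain ⟨i, m, hm, hord⟩ :=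
      Nat.exists_eq_pow_mul_and_not_dvd (orderOf_pos g).ne' p hp.ne_one
    have ho : orderOf (g ^ p ^ i) = m := by
      rw [orderOf_pow' _ (pow_ne_zero _ hp.ne_zero), hord, Nat.gcd_mul_right_left,
        Nat.mul_div_cancel_left _ (pow_pos hp.pos _)]
    obtain ⟨k, hk⟩ := isPow_of_normalizes hp hpq hpG h hUq hne (pow_mem hg (p ^ i)) (ho.symm ▸ hm)
    have hcop : Nat.Coprime m q := Nat.Coprime.coprime_dvd_left (hord ▸ dvd_mul_left m _) hgq
    have hm1 : m = 1 := by
      rw [ho] at hk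
      rcases Nat.eq_zero_or_pos k with rfl | hk0
      · simpa using hk
      · exact absurd ((dvd_pow_self q hk0.ne').trans (dvd_of_eq hk.symm))
          (hq.coprime_iff_not_dvd.1 hcop.symm)
    exact hact U g hUq hg ⟨i, by rw [hord, hm1, mul_one]⟩
  refine ⟨hcomp, fun r hr hrG => ?_⟩
  by_contra hc
  push_neg at hc
  haveI : Fact r.Prime := ⟨hr⟩
  obtain ⟨Q, K, hKn, hK⟩ := hcomp
  have hqK : ¬ q ∣ Nat.card K := Fusion.not_dvd_card_of_isComplement' Q hK
  have hrK : r ∣ Nat.card K := by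
    obtain ⟨a, ha⟩ := IsPGroup.iff_card.1 Q.isPGroup'
    rw [← hK.card_mul, ha] at hrG
    exact (hr.dvd_mul.1 hrG).resolve_right
      fun hd => hc.2 ((Nat.prime_dvd_prime_iff_eq hr hq).1 (hr.dvd_of_dvd_pow hd))
  obtain ⟨R⟩ : Nonempty (Sylow r K) := inferInstance
  set R' : Subgroup G := (R : Subgroup K).map K.subtype
  have htop : normalizer (R' : Set G) ⊔ K = ⊤ := Sylow.normalizer_sup_eq_top R
  have hqN : q ∣ Nat.card (normalizer (R' : Set G)) := by
    have hd := Cores.card_sup_dvd (normalizer (R' : Set G)) K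
    rw [htop, Subgroup.card_top] at hd
    exact (hq.dvd_mul.1 (hqG.trans hd)).resolve_right hqK
  obtain ⟨y, hy⟩ := exists_prime_orderOf_dvd_card' q hqN
  rw [← Subgroup.orderOf_coe] at hy
  obtain ⟨n, hn⟩ := IsPGroup.iff_card.1 (R.isPGroup'.map K.subtype)
  have hn0 : n ≠ 0 := by
    rintro rfl
    rw [pow_zero, Subgroup.card_map_of_injective K.subtype_injective] at hn
    exact R.ne_bot_of_dvd_card hrK (Subgroup.card_eq_one.1 hn)
  have hd := card_sup_zpowers_dvd (U := R') y.2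
  rw [hn, hy] at hd
  have hnp : ¬ p ∣ Nat.card ↥(R' ⊔ zpowers (y : G)) := fun hh => by
    rcases hp.dvd_mul.1 (hh.trans hd) with h1 | h1
    · exact hc.1 ((Nat.prime_dvd_prime_iff_eq hp hr).1 (hp.dvd_of_dvd_pow h1)).symm
    · exact hpq ((Nat.prime_dvd_prime_iff_eq hp hq).1 h1)
  have hqd : q ∣ Nat.card ↥(R' ⊔ zpowers (y : G)) := by
    have := Subgroup.card_dvd_of_le (le_sup_right : zpowers (y : G) ≤ R' ⊔ zpowers (y : G))
    rwa [Nat.card_zpowers, hy] at this
  obtain ⟨j, hj⟩ := IsPGroup.iff_card.1 (isPGroup_of_small hpG h hnp hqd)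
  have hr' : r ∣ Nat.card ↥(R' ⊔ zpowers (y : G)) :=
    ((dvd_pow_self r hn0).trans (dvd_of_eq hn.symm)).trans (Subgroup.card_dvd_of_le le_sup_left)
  exact hc.2 ((Nat.prime_dvd_prime_iff_eq hr hq).1 (hr.dvd_of_dvd_pow (hj ▸ hr')))

/-- A `p`-element acting nontrivially on a finite subgroup moves something in an orbit of length
at least `p`; in the extreme case a power of it is transitive on nontrivial elements. -/
theorem exists_transitive [Finite G] [Fact p.Prime] {U : Subgroup G} {g : G}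
    (hg : g ∈ normalizer (U : Set G)) (hgp : ∃ k, orderOf g = p ^ k)
    (hnc : g ∉ centralizer (U : Set G)) :
    p + 1 ≤ Nat.card U ∧ (Nat.card U = p + 1 → ∃ x ∈ zpowers g, x ∈ normalizer (U : Set G) ∧
      ∀ a ∈ U, ∀ b ∈ U, a ≠ 1 → b ≠ 1 → ∃ i : ℕ, x ^ i * a * (x ^ i)⁻¹ = b) := by
  classical
  have hp : p.Prime := Fact.out
  obtain ⟨k, hk⟩ := hgp
  have hex : ∃ j, g ^ p ^ j ∈ centralizer (U : Set G) :=
    ⟨k, by rw [← hk, pow_orderOf_eq_one]; exact one_mem _⟩
  obtain ⟨j, hj, hjmin⟩ : ∃ j, g ^ p ^ (j + 1) ∈ centralizer (U : Set G) ∧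
      g ^ p ^ j ∉ centralizer (U : Set G) := by
    have h0 : Nat.find hex ≠ 0 := fun h => hnc (by simpa [h] using Nat.find_spec hex)
    obtain ⟨j, hj⟩ := Nat.exists_eq_succ_of_ne_zero h0
    refine ⟨j, ?_, Nat.find_min hex (by omega)⟩
    have hspec := Nat.find_spec hex
    rwa [hj] at hspec
  set x := g ^ p ^ j with hx
  have hxN : x ∈ normalizer (U : Set G) := pow_mem hg _
  have hxp : x ^ p ∈ centralizer (U : Set G) := by rwa [hx, ← pow_mul, ← pow_succ]
  obtain ⟨u, hu, hux⟩ : ∃ u ∈ U, x * u * x⁻¹ ≠ u := by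
    by_contra hall
    push_neg at hall
    exact hjmin (Subgroup.mem_centralizer_iff.2 fun u hu => (mul_inv_eq_iff_eq_mul.1 (hall u hu)).symm)
  have hu1 : u ≠ 1 := fun h => hux (by simp [h])
  have hpfix : x ^ p * u * (x ^ p)⁻¹ = u := by
    rw [← Subgroup.mem_centralizer_iff.1 hxp u hu, mul_inv_cancel_right]
  let f : ℕ → G := fun i => x ^ i * u * (x ^ i)⁻¹
  have hfU : ∀ i, f i ∈ U := fun i => (Subgroup.mem_normalizer_iff.1 (pow_mem hxN i) u).1 hu
  have hf1 : ∀ i, f i ≠ 1 := fun i h => hu1 (conj_eq_one_iff.1 h)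
  have hfix : ∀ d, x ^ d * u * (x ^ d)⁻¹ = u → p ∣ d := fun d hd => by
    by_contra hnd
    let S : Subgroup G := centralizer ({u} : Set G)
    have m1 : x ^ p ∈ S := mem_centralizer_singleton_iff.2 (mul_inv_eq_iff_eq_mul.1 hpfix)
    have m2 : x ^ d ∈ S := mem_centralizer_singleton_iff.2 (mul_inv_eq_iff_eq_mul.1 hd)
    obtain ⟨a, b, hab⟩ := Nat.isCoprime_iff_coprime.2 (hp.coprime_iff_not_dvd.2 hnd)
    have hxS : x ∈ S := by
      have h2 := mul_mem (zpow_mem m1 a) (zpow_mem m2 b)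
      rwa [← zpow_natCast, ← zpow_natCast, ← zpow_mul, ← zpow_mul, ← zpow_add,
        mul_comm (p : ℤ), mul_comm (d : ℤ), hab, zpow_one] at h2
    exact hux (mul_inv_eq_iff_eq_mul.2 (mem_centralizer_singleton_iff.1 hxS))
  let F : Option (Fin p) → U := fun o => o.elim 1 fun i => ⟨f i, hfU i⟩
  have hFinj : Function.Injective F := by
    rintro (_ | a) (_ | b) hab
    · rfl
    · exact absurd (congrArg Subtype.val hab).symm (hf1 b)
    · exact absurd (congrArg Subtype.val hab) (hf1 a)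
    · have key : ∀ m n : Fin p, (m : ℕ) ≤ n → f m = f n → m = n := fun m n hle he => by
        have h3 : p ∣ ((n : ℕ) - m) := hfix _ (by
          have e : x ^ ((n : ℕ) - m) = (x ^ (m : ℕ))⁻¹ * x ^ (n : ℕ) := by
            rw [eq_inv_mul_iff_mul_eq, ← pow_add, Nat.add_sub_cancel' hle]
          rw [e]
          calc (x ^ (m : ℕ))⁻¹ * x ^ (n : ℕ) * u * ((x ^ (m : ℕ))⁻¹ * x ^ (n : ℕ))⁻¹
              = (x ^ (m : ℕ))⁻¹ * f n * x ^ (m : ℕ) := by simp only [f]; group
            _ = u := by rw [← he]; simp only [f]; group)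
        have h4 := Nat.eq_zero_of_dvd_of_lt h3 (lt_of_le_of_lt (Nat.sub_le _ _) n.2)
        exact Fin.ext (by omega)
      have he := congrArg Subtype.val hab
      rcases le_total (a : ℕ) b with h | h
      · rw [key a b h he]
      · rw [key b a h he.symm]
  have hcard := Nat.card_le_card_of_injective F hFinj
  rw [Finite.card_option, Nat.card_fin] at hcard
  refine ⟨hcard, fun hEq => ⟨x, pow_mem (mem_zpowers g) _, hxN, ?_⟩⟩
  have hFb : Function.Bijective F := (Nat.bijective_iff_injective_and_card F).2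
    ⟨hFinj, by rw [Finite.card_option, Nat.card_fin, hEq]⟩
  have hall : ∀ c ∈ U, c ≠ 1 → ∃ i : ℕ, f i = c := fun c hc hc1 => by
    obtain ⟨(_ | i), hi⟩ := hFb.2 ⟨c, hc⟩
    · exact absurd (congrArg Subtype.val hi).symm hc1
    · exact ⟨i, congrArg Subtype.val hi⟩
  intro a ha b hb ha1 hb1
  obtain ⟨i, rfl⟩ := hall a ha ha1
  obtain ⟨l, rfl⟩ := hall b hb hb1
  refine ⟨l + i * (p - 1), ?_⟩
  have hpp : ∀ m, f (l + m * p) = f l := by
    intro m
    induction m with
    | zero => simp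
    | succ m ih =>
      calc f (l + (m + 1) * p) = x ^ (l + m * p) * (x ^ p * u * (x ^ p)⁻¹) * (x ^ (l + m * p))⁻¹ := by
            simp only [f]
            rw [show l + (m + 1) * p = (l + m * p) + p by ring, pow_add]
            group
        _ = f (l + m * p) := by rw [hpfix]
        _ = f l := ih
  calc x ^ (l + i * (p - 1)) * f i * (x ^ (l + i * (p - 1)))⁻¹
      = f (l + i * (p - 1) + i) := by simp only [f]; rw [pow_add]; group
    _ = f l := by
      rw [show l + i * (p - 1) + i = l + i * p by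
        obtain ⟨p', rfl⟩ := Nat.exists_eq_add_of_le hp.one_le
        rw [Nat.add_sub_cancel_left]; ring]
      exact hpp i

/-- If `p` exceeds `q^a - 1` only two primes occur. -/
theorem twoPrimes_of_lt [Finite G] [Fact q.Prime] (hp : p.Prime) (hpq : p ≠ q)
    (hpG : p ∣ Nat.card G) (hqG : q ∣ Nat.card G) (h : MixHyp p q G)
    (hlt : q ^ (Nat.card G).factorization q ≤ p) : TwoPrimes p q G := by
  haveI : Fact p.Prime := ⟨hp⟩
  refine (twoPrimes_of_centralizes hp hpq hpG hqG h fun U g hU hg hgp => ?_).2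
  by_contra hnc
  obtain ⟨h1, -⟩ := exists_transitive hg hgp hnc
  obtain ⟨n, hn⟩ := IsPGroup.iff_card.1 hU
  have hq : q.Prime := Fact.out
  have h2 : n ≤ (Nat.card G).factorization q :=
    (hq.pow_dvd_iff_le_factorization Nat.card_pos.ne').1 (hn ▸ Subgroup.card_subgroup_dvd_card U)
  have h3 := Nat.pow_le_pow_right hq.pos h2
  omega

end Cfsg.Agent.H74.Mixed
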