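import Cfsg.Agent.H74.MixedLocal
import Cfsg.Agent.Fusion.Basic

/-!
No nontrivial `p`-element centralizes a Sylow `2`-subgroup.
-/

namespace Cfsg.Agent.H74.Mixed.Cfg

open Subgroup
open scoped IsMulCommutative

universe u

variable {G : Type u} [Group G] [Finite G] {p a : ℕ}

theorem conj_invol {e : G} (he : orderOf e = 2) (z : G) : e * (e * z * e⁻¹) * e⁻¹ = z := by
  have h2 : e * e = 1 := by rw [← sq, ← he, pow_orderOf_eq_one]
  calc e * (e * z * e⁻¹) * e⁻¹ = (e * e) * z * (e * e)⁻¹ := by group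
    _ = z := by rw [h2]; group

/-- A transitive `p`-element cannot share a Sylow normalizer with its Sylow `2`-subgroup. -/
theorem not_both (h : Cfg p a G) (S : Sylow 2 G) (P : Sylow p G) {x : G}
    (hx : x ∈ (P : Subgroup G)) (hxN : x ∈ normalizer ((S : Subgroup G) : Set G))
    (hxnc : x ∉ centralizer ((S : Subgroup G) : Set G))
    (hSP : (S : Subgroup G) ≤ normalizer ((P : Subgroup G) : Set G)) : False := by
  haveI : Fact p.Prime := ⟨h.hp⟩
  haveI : Fact (Nat.Prime 2) := ⟨Nat.prime_two⟩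
  refine hxnc (mem_centralizer_iff.2 fun s hs => ?_)
  have h1 : x * s * x⁻¹ * s⁻¹ ∈ (S : Subgroup G) :=
    mul_mem ((Subgroup.mem_normalizer_iff.1 hxN s).1 hs) (inv_mem hs)
  have h2 : x * s * x⁻¹ * s⁻¹ ∈ (P : Subgroup G) := by
    have := mul_mem hx ((Subgroup.mem_normalizer_iff.1 (hSP hs) x⁻¹).1 (inv_mem hx))
    simpa only [mul_assoc] using this
  obtain ⟨i, hi⟩ := IsPGroup.iff_orderOf.1 S.isPGroup' ⟨_, h1⟩
  obtain ⟨j, hj⟩ := IsPGroup.iff_orderOf.1 P.isPGroup' ⟨_, h2⟩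
  rw [Subgroup.orderOf_mk] at hi hj
  have h3 : Nat.gcd (2 ^ i) (p ^ j) = 1 :=
    Nat.Coprime.pow i j ((Nat.coprime_primes Nat.prime_two h.hp).2 (Ne.symm h.hp2))
  have h4 : orderOf (x * s * x⁻¹ * s⁻¹) ∣ Nat.gcd (2 ^ i) (p ^ j) :=
    Nat.dvd_gcd (dvd_of_eq hi) (dvd_of_eq hj)
  rw [h3, Nat.dvd_one, orderOf_eq_one_iff, mul_inv_eq_one, mul_inv_eq_iff_eq_mul] at h4
  exact h4.symm

theorem centralizes_false (h : Cfg p a G) (S : Sylow 2 G) {u : G} (hu1 : u ≠ 1)
    (hu : ∃ k, orderOf u = p ^ k) (huc : u ∈ centralizer ((S : Subgroup G) : Set G)) : False := by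
  classical
  haveI : Fact p.Prime := ⟨h.hp⟩
  haveI : Fact (Nat.Prime 2) := ⟨Nat.prime_two⟩
  set Q : Subgroup G := (S : Subgroup G) with hQ
  obtain ⟨hsq, x₀, hx₀N, hx₀p, hx₀t⟩ := h.sylow_facts S
  have huN : u ∈ normalizer (Q : Set G) := mem_normalizer_of_conj fun z hz => by
    rwa [← mem_centralizer_iff.1 huc z hz, mul_inv_cancel_right]
  -- a Sylow subgroup containing `u` and a transitive element
  obtain ⟨k, hk⟩ := hu
  obtain ⟨T, hT⟩ := (IsPGroup.of_card (G := zpowers (⟨u, huN⟩ : normalizer (Q : Set G))) (p := p) (n := k)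
    (by rw [Nat.card_zpowers, Subgroup.orderOf_mk, hk])).exists_le_sylow
  obtain ⟨j, hj⟩ := hx₀p
  obtain ⟨T₀, hT₀⟩ := (IsPGroup.of_card (G := zpowers (⟨x₀, hx₀N⟩ : normalizer (Q : Set G))) (p := p)
    (n := j) (by rw [Nat.card_zpowers, Subgroup.orderOf_mk, hj])).exists_le_sylow
  obtain ⟨c, hc⟩ := MulAction.exists_smul_eq (normalizer (Q : Set G)) T₀ T
  set x : G := (c : G) * x₀ * (c : G)⁻¹ with hxdef
  have hxN : x ∈ normalizer (Q : Set G) := mul_mem (mul_mem c.2 hx₀N) (inv_mem c.2)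
  have hxT : (⟨x, hxN⟩ : normalizer (Q : Set G)) ∈ (T : Subgroup (normalizer (Q : Set G))) := by
    rw [← hc, Sylow.coe_subgroup_smul, Subgroup.mem_pointwise_smul_iff_inv_smul_mem]
    convert hT₀ (mem_zpowers _) using 1
    apply Subtype.ext
    simp [MulAut.smul_def, hxdef, mul_assoc]
  obtain ⟨P, hP⟩ := (T.isPGroup'.map (normalizer (Q : Set G)).subtype).exists_le_sylow
  have hxP : x ∈ (P : Subgroup G) := hP ⟨_, hxT, rfl⟩
  have huP : u ∈ (P : Subgroup G) := hP ⟨_, hT (mem_zpowers _), rfl⟩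
  have hPab : ∀ y ∈ (P : Subgroup G), ∀ z ∈ (P : Subgroup G), y * z = z * y := fun y hy z hz =>
    congrArg Subtype.val ((h.hab P).is_comm.comm ⟨y, hy⟩ ⟨z, hz⟩)
  -- transitivity of `x`
  have hxt : ∀ b ∈ Q, ∀ d ∈ Q, b ≠ 1 → d ≠ 1 → ∃ i : ℕ, x ^ i * b * (x ^ i)⁻¹ = d := by
    intro b hb d hd hb1 hd1
    have hc' : ∀ y ∈ Q, (c : G)⁻¹ * y * c ∈ Q := fun y hy =>
      (Subgroup.mem_normalizer_iff''.1 c.2 y).1 hy
    obtain ⟨i, hi⟩ := hx₀t _ (hc' b hb) _ (hc' d hd)
      (fun e => hb1 (by calc b = (c : G) * ((c : G)⁻¹ * b * c) * (c : G)⁻¹ := by group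
                         _ = 1 := by rw [e]; group))
      (fun e => hd1 (by calc d = (c : G) * ((c : G)⁻¹ * d * c) * (c : G)⁻¹ := by group
                         _ = 1 := by rw [e]; group))
    refine ⟨i, ?_⟩
    rw [hxdef, conj_pow]
    calc (c : G) * x₀ ^ i * (c : G)⁻¹ * b * ((c : G) * x₀ ^ i * (c : G)⁻¹)⁻¹
        = (c : G) * (x₀ ^ i * ((c : G)⁻¹ * b * c) * (x₀ ^ i)⁻¹) * (c : G)⁻¹ := by group
      _ = d := by rw [hi]; group
  have hQcard : Nat.card Q = p + 1 := h.card_sylow S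
  -- an element of Q moved by x
  obtain ⟨t₀, ht₀, ht₀1⟩ : ∃ t ∈ Q, t ≠ 1 := by
    by_contra hall
    push_neg at hall
    have hbot : Q = ⊥ := (Subgroup.eq_bot_iff_forall Q).2 hall
    rw [hbot, Subgroup.card_bot] at hQcard
    have := h.hp.two_le
    omega
  have hxnc : x ∉ centralizer (Q : Set G) := by
    intro hxc
    have hall : ∀ y ∈ Q, y = 1 ∨ y = t₀ := fun y hy => by
      by_cases hy1 : y = 1
      · exact Or.inl hy1
      obtain ⟨i, hi⟩ := hxt t₀ ht₀ y hy ht₀1 hy1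
      refine Or.inr ?_
      rw [← hi, ← mem_centralizer_iff.1 (pow_mem hxc i) t₀ ht₀, mul_inv_cancel_right]
    have hle : Nat.card Q ≤ 2 := by
      let f : Bool → Q := fun b => if b then 1 else ⟨t₀, ht₀⟩
      have hf : Function.Surjective f := fun y => by
        rcases hall y y.2 with h1 | h1
        · exact ⟨true, Subtype.ext h1.symm⟩
        · exact ⟨false, Subtype.ext h1.symm⟩
      simpa using Nat.card_le_card_of_surjective f hf
    have := h.hp.two_le
    omega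
  -- the centralizer of a `p`-element containing `x` and `Q`
  have key : ∀ (W : Sylow 2 G) (z : G), z ∈ (P : Subgroup G) → z ≠ 1 → W = S →
      z ∈ centralizer (Q : Set G) →
      ∃ R : Sylow 2 G, centralizer ({z} : Set G) ≤ normalizer ((R : Subgroup G) : Set G) ∧
        (R : Subgroup G) = Q := by
    intro _ z hz hz1 _ hzc
    have hQC : Q ≤ centralizer ({z} : Set G) := fun y hy =>
      mem_centralizer_singleton_iff.2 (mem_centralizer_iff.1 hzc y hy)
    have h2 : 2 ∣ Nat.card (centralizer ({z} : Set G)) := by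
      refine dvd_trans ?_ (Subgroup.card_dvd_of_le hQC)
      rw [hQcard]
      exact even_iff_two_dvd.1 (h.hp.odd_of_ne_two h.hp2).add_one
    rcases h.sylow_or P (h.centralizer_ne_top hz1) h2 (h.le_centralizer_of_mem P hz) with hN | ⟨R, -, hR⟩
    · exact (h.not_both S P hxP hxN hxnc (hQC.trans hN)).elim
    · have e := S.isPGroup'.inf_normalizer_sylow R
      have hle : Q ≤ (R : Subgroup G) := fun y hy =>
        (mem_inf.1 (e.le (mem_inf.2 ⟨hy, hR (hQC hy)⟩))).2
      exact ⟨R, hR, S.is_maximal' R.isPGroup' hle⟩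
  have hPQ : (P : Subgroup G) ≤ normalizer (Q : Set G) := by
    obtain ⟨R, hR, hRQ⟩ := key S u huP hu1 rfl huc
    rw [← hRQ]
    exact (h.le_centralizer_of_mem P huP).trans hR
  set Z := (P : Subgroup G) ⊓ centralizer (Q : Set G) with hZ
  -- index `p`
  have hfix : ∀ z ∈ (P : Subgroup G), z * t₀ * z⁻¹ = t₀ → z ∈ Z := fun z hz hzt => by
    refine mem_inf.2 ⟨hz, mem_centralizer_iff.2 fun y hy => ?_⟩
    rcases eq_or_ne y 1 with rfl | hy1
    · simp
    obtain ⟨i, hi⟩ := hxt t₀ ht₀ y hy ht₀1 hy1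
    have hcz : Commute z (x ^ i) := Commute.pow_right (hPab z hz x hxP) i
    have hzy : z * y * z⁻¹ = y := by
      calc z * y * z⁻¹ = (z * x ^ i) * t₀ * (z * x ^ i)⁻¹ := by rw [← hi]; group
        _ = x ^ i * (z * t₀ * z⁻¹) * (x ^ i)⁻¹ := by rw [hcz.eq]; group
        _ = y := by rw [hzt, hi]
    exact (mul_inv_eq_iff_eq_mul.1 hzy).symm
  let Zs : Subgroup (P : Subgroup G) := Z.subgroupOf (P : Subgroup G)
  have hidx : Nat.card ((P : Subgroup G) ⧸ Zs) ≤ p := by
    have hwd : ∀ z : (P : Subgroup G), (z : G) * t₀ * (z : G)⁻¹ ∈ Q ∧ (z : G) * t₀ * (z : G)⁻¹ ≠ 1 :=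
      fun z => ⟨(Subgroup.mem_normalizer_iff.1 (hPQ z.2) t₀).1 ht₀, fun e => ht₀1 (conj_eq_one_iff.1 e)⟩
    let F : (P : Subgroup G) ⧸ Zs → {y : Q // y ≠ 1} := fun q =>
      ⟨⟨(q.out : G) * t₀ * (q.out : G)⁻¹, (hwd q.out).1⟩, fun e => (hwd q.out).2 (congrArg Subtype.val e)⟩
    have hF : Function.Injective F := by
      intro q r e
      have e' : (q.out : G) * t₀ * (q.out : G)⁻¹ = (r.out : G) * t₀ * (r.out : G)⁻¹ :=
        congrArg (fun w : {y : Q // y ≠ 1} => ((w : Q) : G)) e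
      rw [← QuotientGroup.out_eq' q, ← QuotientGroup.out_eq' r, QuotientGroup.eq, Subgroup.mem_subgroupOf]
      refine hfix _ (q.out⁻¹ * r.out).2 ?_
      simp only [Subgroup.coe_mul, Subgroup.coe_inv]
      calc (q.out : G)⁻¹ * r.out * t₀ * ((q.out : G)⁻¹ * r.out)⁻¹
          = (q.out : G)⁻¹ * ((r.out : G) * t₀ * (r.out : G)⁻¹) * q.out := by group
        _ = t₀ := by rw [← e']; group
    refine (Nat.card_le_card_of_injective F hF).trans ?_
    have hc1 : Nat.card {y : Q // y ≠ 1} + 1 = Nat.card Q := by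
      rw [← Finite.card_option]
      exact Nat.card_congr (Equiv.optionSubtypeNe (1 : Q))
    omega
  have hcardP : Nat.card (P : Subgroup G) = Nat.card ((P : Subgroup G) ⧸ Zs) * Nat.card Z := by
    rw [Subgroup.card_eq_card_quotient_mul_card_subgroup Zs,
      Nat.card_congr (Subgroup.subgroupOfEquivOfLe (inf_le_left : Z ≤ (P : Subgroup G))).toEquiv]
  have hidxp : Nat.card ((P : Subgroup G) ⧸ Zs) = p := by
    obtain ⟨n, hn⟩ := IsPGroup.iff_card.1 P.isPGroup'
    obtain ⟨i, -, hi⟩ := (Nat.dvd_prime_pow h.hp).1 (hn ▸ Subgroup.card_quotient_dvd_card Zs)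
    rcases Nat.eq_zero_or_pos i with rfl | hi0
    · exfalso
      have e : Zs = ⊤ := Subgroup.index_eq_one.1 (by rw [Subgroup.index, hi, pow_zero])
      refine hxnc (mem_inf.1 (?_ : x ∈ Z)).2
      have : (⟨x, hxP⟩ : (P : Subgroup G)) ∈ Zs := e ▸ mem_top _
      exact this
    · refine le_antisymm hidx ?_
      rw [hi]
      exact Nat.le_self_pow hi0.ne' p
  -- an involution in the normalizer moves `Z` away from itself
  have hZi : ∀ e : G, orderOf e = 2 → e ∈ normalizer ((P : Subgroup G) : Set G) →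
      e ∉ normalizer (Q : Set G) ∧ ∀ z ∈ Z, e * z * e⁻¹ ∈ Z → z = 1 := by
    intro e he heP
    have heQ : e ∉ normalizer (Q : Set G) := by
      intro heN
      have e1 := (IsPGroup.of_card (G := zpowers e) (p := 2) (n := 1)
        (by rw [Nat.card_zpowers, he, pow_one])).inf_normalizer_sylow S
      have heS : e ∈ Q := (mem_inf.1 (e1.le (mem_inf.2 ⟨mem_zpowers e, heN⟩))).2
      have hm1 : x * e * x⁻¹ * e⁻¹ ∈ Q :=
        mul_mem ((Subgroup.mem_normalizer_iff.1 hxN e).1 heS) (inv_mem heS)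
      have hm2 : x * e * x⁻¹ * e⁻¹ ∈ (P : Subgroup G) := by
        have := mul_mem hxP ((Subgroup.mem_normalizer_iff.1 heP x⁻¹).1 (inv_mem hxP))
        simpa only [mul_assoc] using this
      have hdis : ∀ y, y ∈ Q → y ∈ (P : Subgroup G) → y = 1 := fun y hy hy' => by
        obtain ⟨n, hn⟩ := IsPGroup.iff_orderOf.1 P.isPGroup' ⟨y, hy'⟩
        rw [Subgroup.orderOf_mk] at hn
        rw [← orderOf_eq_one_iff]
        refine Nat.eq_one_of_dvd_coprimes
          (Nat.Coprime.pow 1 n ((Nat.coprime_primes Nat.prime_two h.hp).2 (Ne.symm h.hp2))) ?_ (dvd_of_eq hn)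
        rw [orderOf_dvd_iff_pow_eq_one, pow_one, sq]
        exact hsq y hy
      have hfe : x * e * x⁻¹ = e := mul_inv_eq_one.1 (hdis _ hm1 hm2)
      refine hxnc (mem_centralizer_iff.2 fun y hy => ?_)
      rcases eq_or_ne y 1 with rfl | hy1
      · simp
      have he1 : e ≠ 1 := fun e' => by rw [e', orderOf_one] at he; norm_num at he
      obtain ⟨i, hi⟩ := hxt e heS y hy he1 hy1
      have hce : Commute x e := mul_inv_eq_iff_eq_mul.1 hfe
      rw [← hi, (hce.pow_left i).eq, mul_inv_cancel_right]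
      exact hce.eq.symm
    refine ⟨heQ, fun z hz hez => ?_⟩
    by_contra hz1
    obtain ⟨R, hR, hRQ⟩ := key S z (mem_inf.1 hz).1 hz1 rfl (mem_inf.1 hz).2
    refine heQ (mem_normalizer_of_conj fun y hy => ?_)
    have hyC : e * y * e⁻¹ ∈ centralizer ({z} : Set G) := by
      rw [mem_centralizer_singleton_iff]
      have h1 := mem_centralizer_iff.1 (mem_inf.1 hez).2 y hy
      have e2 : e⁻¹ = e := inv_eq_of_mul_eq_one_right (by rw [← sq, ← he, pow_orderOf_eq_one])
      have h4 : e * (y * (e * z * e⁻¹)) * e⁻¹ = e * ((e * z * e⁻¹) * y) * e⁻¹ := by rw [h1]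
      have h6 : e * (e * z * e⁻¹) * e⁻¹ = z := conj_invol he z
      calc e * y * e⁻¹ * z = e * y * e⁻¹ * (e * (e * z * e⁻¹) * e⁻¹) := by rw [h6]
        _ = e * (y * (e * z * e⁻¹)) * e⁻¹ := by group
        _ = e * ((e * z * e⁻¹) * y) * e⁻¹ := h4
        _ = (e * (e * z * e⁻¹) * e⁻¹) * (e * y * e⁻¹) := by group
        _ = z * (e * y * e⁻¹) := by rw [h6]
    have e1 := (S.isPGroup'.map (MulAut.conj e).toMonoidHom).inf_normalizer_sylow R
    have hle : Q.map (MulAut.conj e).toMonoidHom ≤ centralizer ({z} : Set G) := by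
      rintro _ ⟨w, hw, rfl⟩
      have h1 := mem_centralizer_iff.1 (mem_inf.1 hez).2 w hw
      have h6 : e * (e * z * e⁻¹) * e⁻¹ = z := conj_invol he z
      rw [mem_centralizer_singleton_iff]
      show e * w * e⁻¹ * z = z * (e * w * e⁻¹)
      calc e * w * e⁻¹ * z = e * w * e⁻¹ * (e * (e * z * e⁻¹) * e⁻¹) := by rw [h6]
        _ = e * (w * (e * z * e⁻¹)) * e⁻¹ := by group
        _ = e * ((e * z * e⁻¹) * w) * e⁻¹ := by rw [h1]
        _ = (e * (e * z * e⁻¹) * e⁻¹) * (e * w * e⁻¹) := by group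
        _ = z * (e * w * e⁻¹) := by rw [h6]
    rw [← hRQ]
    exact (mem_inf.1 (e1.le (mem_inf.2 ⟨⟨y, hy, rfl⟩, hR (hle ⟨y, hy, rfl⟩)⟩))).2
  obtain ⟨s, hs, hsP⟩ := h.exists_inv_normalizer P
  have huZ : u ∈ Z := mem_inf.2 ⟨huP, huc⟩
  have hconjP : ∀ e : G, e ∈ normalizer ((P : Subgroup G) : Set G) → ∀ z ∈ (P : Subgroup G),
      e * z * e⁻¹ ∈ (P : Subgroup G) := fun e he z hz => (Subgroup.mem_normalizer_iff.1 he z).1 hz
  -- `|Z| = p`
  have hZp : Nat.card Z = p := by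
    let F : Z × Z → (P : Subgroup G) := fun w =>
      ⟨(w.1 : G) * (s * w.2 * s⁻¹), mul_mem (mem_inf.1 w.1.2).1 (hconjP s hsP _ (mem_inf.1 w.2.2).1)⟩
    have hF : Function.Injective F := by
      rintro ⟨a₁, b₁⟩ ⟨a₂, b₂⟩ e
      have e' : (a₁ : G) * (s * b₁ * s⁻¹) = (a₂ : G) * (s * b₂ * s⁻¹) := congrArg Subtype.val e
      have hm : s * ((b₁ * b₂⁻¹ : Z) : G) * s⁻¹ ∈ Z := by
        have : s * ((b₁ * b₂⁻¹ : Z) : G) * s⁻¹ = ((a₁⁻¹ * a₂ : Z) : G) := by
          simp only [Subgroup.coe_mul, Subgroup.coe_inv]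
          calc s * ((b₁ : G) * (b₂ : G)⁻¹) * s⁻¹ = (a₁ : G)⁻¹ * ((a₁ : G) * (s * b₁ * s⁻¹)) * (s * b₂ * s⁻¹)⁻¹ := by group
            _ = (a₁ : G)⁻¹ * a₂ := by rw [e']; group
        rw [this]; exact SetLike.coe_mem _
      have h1 := (hZi s hs hsP).2 _ (b₁ * b₂⁻¹).2 hm
      have hb : b₁ = b₂ := mul_inv_eq_one.1 (Subtype.ext h1)
      subst hb
      exact Prod.ext (Subtype.ext (mul_right_cancel e')) rfl
    have hle := Nat.card_le_card_of_injective F hF
    rw [Nat.card_prod, hcardP, hidxp] at hle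
    have hpos : 0 < Nat.card Z := Nat.card_pos
    refine le_antisymm (Nat.le_of_mul_le_mul_right hle hpos) ?_
    obtain ⟨n, hn⟩ := IsPGroup.iff_card.1 (P.isPGroup'.to_le (inf_le_left : Z ≤ (P : Subgroup G)))
    rcases Nat.eq_zero_or_pos n with rfl | hn0
    · exact absurd (mem_bot.1 ((Subgroup.card_eq_one.1 (by rw [hn, pow_zero])) ▸ huZ : u ∈ (⊥ : Subgroup G))) hu1
    · rw [hn]; exact Nat.le_self_pow hn0.ne' p
  rw [hidxp, hZp] at hcardP
  -- fixed and inverted lines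
  let plus : G → Subgroup G := fun e => (P : Subgroup G) ⊓ centralizer ({e} : Set G)
  have hplus : ∀ e, orderOf e = 2 → e ∈ normalizer ((P : Subgroup G) : Set G) →
      Nat.card (plus e) = p ∧ ∃ w ∈ (P : Subgroup G), w ≠ 1 ∧ e * w * e⁻¹ = w⁻¹ := by
    intro e he heP
    have hne : plus e ≠ ⊥ := by
      intro hb
      have hm : u * (e * u * e⁻¹) ∈ plus e := by
        refine mem_inf.2 ⟨mul_mem huP (hconjP e heP u huP), mem_centralizer_singleton_iff.2 ?_⟩
        have hfx : e * (u * (e * u * e⁻¹)) * e⁻¹ = u * (e * u * e⁻¹) := by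
          calc e * (u * (e * u * e⁻¹)) * e⁻¹ = (e * u * e⁻¹) * (e * (e * u * e⁻¹) * e⁻¹) := by group
            _ = (e * u * e⁻¹) * u := by rw [conj_invol he]
            _ = u * (e * u * e⁻¹) := hPab _ (hconjP e heP u huP) u huP
        exact (mul_inv_eq_iff_eq_mul.1 hfx).symm
      rw [hb, mem_bot] at hm
      exact hu1 ((hZi e he heP).2 u huZ (eq_inv_of_mul_eq_one_right hm ▸ inv_mem huZ))
    have hnP : plus e ≠ (P : Subgroup G) := fun e1 => by
      have hce : e * u * e⁻¹ = u := by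
        have := (mem_inf.1 (e1.ge huP)).2
        rw [mem_centralizer_singleton_iff] at this
        exact mul_inv_eq_iff_eq_mul.2 this.symm
      exact hu1 ((hZi e he heP).2 u huZ (hce.symm ▸ huZ))
    have hd : Nat.card (plus e) ∣ p ^ 2 := by
      rw [sq, ← hcardP]; exact Subgroup.card_dvd_of_le inf_le_left
    obtain ⟨i, hi2, hi⟩ := (Nat.dvd_prime_pow h.hp).1 hd
    have hi1 : i = 1 := by
      rcases (show i = 0 ∨ i = 1 ∨ i = 2 by omega) with rfl | rfl | rfl
      · exact absurd (Subgroup.card_eq_one.1 (by rw [hi, pow_zero])) hne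
      · rfl
      · exact absurd (Subgroup.eq_of_le_of_card_ge inf_le_left (by rw [hcardP, hi, sq])) hnP
    refine ⟨by rw [hi, hi1, pow_one], ?_⟩
    obtain ⟨v, hv, hvn⟩ : ∃ v ∈ (P : Subgroup G), v ∉ plus e :=
      SetLike.exists_of_lt (lt_of_le_of_ne inf_le_left hnP)
    refine ⟨v * (e * v * e⁻¹)⁻¹, mul_mem hv (inv_mem (hconjP e heP v hv)), fun e1 => hvn ?_, ?_⟩
    · refine mem_inf.2 ⟨hv, mem_centralizer_singleton_iff.2 ?_⟩
      have hfx : e * v * e⁻¹ = v := (mul_inv_eq_one.1 e1).symm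
      exact (mul_inv_eq_iff_eq_mul.1 hfx).symm
    · calc e * (v * (e * v * e⁻¹)⁻¹) * e⁻¹ = (e * v * e⁻¹) * (e * (e * v * e⁻¹) * e⁻¹)⁻¹ := by group
        _ = (e * v * e⁻¹) * v⁻¹ := by rw [conj_invol he]
        _ = (v * (e * v * e⁻¹)⁻¹)⁻¹ := by group
  have hodd : ∀ w ∈ (P : Subgroup G), w⁻¹ = w → w = 1 := fun w hw hww => by
    obtain ⟨n, hn⟩ := IsPGroup.iff_orderOf.1 P.isPGroup' ⟨w, hw⟩
    rw [Subgroup.orderOf_mk] at hn
    rw [← orderOf_eq_one_iff]
    refine Nat.eq_one_of_dvd_coprimes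
      (Nat.Coprime.pow 1 n ((Nat.coprime_primes Nat.prime_two h.hp).2 (Ne.symm h.hp2))) ?_ (dvd_of_eq hn)
    rw [orderOf_dvd_iff_pow_eq_one, pow_one, sq]
    exact inv_eq_iff_mul_eq_one.1 hww
  -- commuting involutions fix the line of each other
  have hsame : ∀ e f, orderOf e = 2 → orderOf f = 2 → e ∈ normalizer ((P : Subgroup G) : Set G) →
      f ∈ normalizer ((P : Subgroup G) : Set G) → Commute e f →
      ∀ v ∈ plus e, f * v * f⁻¹ = v := by
    intro e f he hf heP hfP hef v hv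
    have pm : ∀ z, z ∈ plus e → e * z * e⁻¹ = z := fun z hz =>
      mul_inv_eq_iff_eq_mul.2 (mem_centralizer_singleton_iff.1 (mem_inf.1 hz).2).symm
    have mp' : ∀ z ∈ (P : Subgroup G), e * z * e⁻¹ = z → z ∈ plus e := fun z hz hze =>
      mem_inf.2 ⟨hz, mem_centralizer_singleton_iff.2 (mul_inv_eq_iff_eq_mul.1 hze).symm⟩
    have hswap : ∀ z, e * (f * z * f⁻¹) * e⁻¹ = f * (e * z * e⁻¹) * f⁻¹ := fun z => by
      calc e * (f * z * f⁻¹) * e⁻¹ = (e * f) * z * (e * f)⁻¹ := by group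
        _ = (f * e) * z * (f * e)⁻¹ := by rw [hef.eq]
        _ = f * (e * z * e⁻¹) * f⁻¹ := by group
    have hgen : ∀ z ∈ plus e, z ≠ 1 → ∀ g : G,
        (g * z * g⁻¹ = z → ∀ w ∈ plus e, g * w * g⁻¹ = w) ∧
        (g * z * g⁻¹ = z⁻¹ → ∀ w ∈ plus e, g * w * g⁻¹ = w⁻¹) := by
      intro z hz hz1 g
      have hz' : ∀ w ∈ plus e, w ∈ zpowers z := by
        have e1 : zpowers z = plus e := by
          refine Subgroup.eq_of_le_of_card_ge (zpowers_le.2 hz) ?_
          rw [(hplus e he heP).1, Nat.card_zpowers]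
          have hd : orderOf z ∣ p := (hplus e he heP).1 ▸ Subgroup.orderOf_dvd_natCard _ hz
          rcases (Nat.dvd_prime h.hp).1 hd with h1 | h1
          · exact absurd (orderOf_eq_one_iff.1 h1) hz1
          · exact h1.ge
        exact fun w hw => e1.ge hw
      refine ⟨fun hg w hw => ?_, fun hg w hw => ?_⟩ <;> obtain ⟨i, rfl⟩ := hz' w hw
      · show g * z ^ i * g⁻¹ = z ^ i
        rw [← conj_zpow, hg]
      · show g * z ^ i * g⁻¹ = (z ^ i)⁻¹
        rw [← conj_zpow, hg, inv_zpow]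
    rcases eq_or_ne v 1 with rfl | hv1
    · simp
    have hfv : f * v * f⁻¹ ∈ plus e :=
      mp' _ (hconjP f hfP v (mem_inf.1 hv).1) (by rw [hswap, pm v hv])
    by_contra hne
    have hprod : v * (f * v * f⁻¹) = 1 := by
      by_contra h1
      refine hne (((hgen _ (mul_mem hv hfv) h1 f).1 ?_) v hv)
      calc f * (v * (f * v * f⁻¹)) * f⁻¹ = (f * v * f⁻¹) * (f * (f * v * f⁻¹) * f⁻¹) := by group
        _ = (f * v * f⁻¹) * v := by rw [conj_invol hf]
        _ = v * (f * v * f⁻¹) := hPab _ (mem_inf.1 hfv).1 v (mem_inf.1 hv).1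
    have hinv : ∀ w ∈ plus e, f * w * f⁻¹ = w⁻¹ :=
      (hgen v hv hv1 f).2 (eq_inv_of_mul_eq_one_right hprod)
    -- `e * f` is an involution inverting everything
    have hef1 : orderOf (e * f) = 2 := by
      refine orderOf_eq_prime ?_ fun h1 => ?_
      · have he2 : e ^ 2 = 1 := by rw [← he]; exact pow_orderOf_eq_one e
        have hf2 : f ^ 2 = 1 := by rw [← hf]; exact pow_orderOf_eq_one f
        rw [hef.mul_pow, he2, hf2, one_mul]
      · have hfe : f = e⁻¹ := eq_inv_of_mul_eq_one_right h1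
        refine hne ?_
        rw [hfe, inv_inv]
        calc e⁻¹ * v * e = e⁻¹ * (e * v * e⁻¹) * e := by rw [pm v hv]
          _ = v := by group
    have hefP : e * f ∈ normalizer ((P : Subgroup G) : Set G) := mul_mem heP hfP
    obtain ⟨w, hw, hw1⟩ := (Subgroup.bot_or_exists_ne_one (plus (e * f))).resolve_left
      (fun hb => by
        have := (hplus _ hef1 hefP).1
        rw [hb, Subgroup.card_bot] at this
        exact h.hp.ne_one this.symm)
    have hwP : w ∈ (P : Subgroup G) := (mem_inf.1 hw).1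
    have hfx : (e * f) * w * (e * f)⁻¹ = w :=
      mul_inv_eq_iff_eq_mul.2 (mem_centralizer_singleton_iff.1 (mem_inf.1 hw).2).symm
    have hf' : f * w * f⁻¹ = e * w * e⁻¹ := by
      calc f * w * f⁻¹ = e⁻¹ * ((e * f) * w * (e * f)⁻¹) * e := by group
        _ = e⁻¹ * w * e := by rw [hfx]
        _ = e * w * e⁻¹ := by
          rw [inv_eq_of_mul_eq_one_right (show e * e = 1 by rw [← sq, ← he, pow_orderOf_eq_one])]
    have hw2P : w * (e * w * e⁻¹) ∈ (P : Subgroup G) := mul_mem hwP (hconjP e heP w hwP)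
    have hw2 : w * (e * w * e⁻¹) ∈ plus e := mp' _ hw2P (by
      calc e * (w * (e * w * e⁻¹)) * e⁻¹ = (e * w * e⁻¹) * (e * (e * w * e⁻¹) * e⁻¹) := by group
        _ = (e * w * e⁻¹) * w := by rw [conj_invol he]
        _ = w * (e * w * e⁻¹) := hPab _ (hconjP e heP w hwP) w hwP)
    have hw3 : f * (w * (e * w * e⁻¹)) * f⁻¹ = w * (e * w * e⁻¹) := by
      calc f * (w * (e * w * e⁻¹)) * f⁻¹ = (f * w * f⁻¹) * (f * (e * w * e⁻¹) * f⁻¹) := by group
        _ = (e * w * e⁻¹) * (f * (f * w * f⁻¹) * f⁻¹) := by rw [hf']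
        _ = (e * w * e⁻¹) * w := by rw [conj_invol hf]
        _ = w * (e * w * e⁻¹) := hPab _ (hconjP e heP w hwP) w hwP
    have hw4 : e * w * e⁻¹ = w⁻¹ :=
      eq_inv_of_mul_eq_one_right (hodd _ hw2P (((hinv _ hw2).symm.trans hw3)))
    obtain ⟨hcl, w', hw'P, hw'1, hw'e⟩ := hplus f hf hfP
    -- both lines are inverted by `e * f`
    have key2 : ∀ z ∈ (P : Subgroup G), f * z * f⁻¹ = z → e * z * e⁻¹ = z⁻¹ := by
      intro z hz hzf
      have hm : z * (e * z * e⁻¹) ∈ (P : Subgroup G) := mul_mem hz (hconjP e heP z hz)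
      have hm2 : z * (e * z * e⁻¹) ∈ plus e := mp' _ hm (by
        calc e * (z * (e * z * e⁻¹)) * e⁻¹ = (e * z * e⁻¹) * (e * (e * z * e⁻¹) * e⁻¹) := by group
          _ = (e * z * e⁻¹) * z := by rw [conj_invol he]
          _ = z * (e * z * e⁻¹) := hPab _ (hconjP e heP z hz) z hz)
      have hm3 : f * (z * (e * z * e⁻¹)) * f⁻¹ = z * (e * z * e⁻¹) := by
        calc f * (z * (e * z * e⁻¹)) * f⁻¹ = (f * z * f⁻¹) * (f * (e * z * e⁻¹) * f⁻¹) := by group
          _ = z * (e * (f * z * f⁻¹) * e⁻¹) := by rw [hswap, hzf]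
          _ = z * (e * z * e⁻¹) := by rw [hzf]
      exact eq_inv_of_mul_eq_one_right (hodd _ hm ((hinv _ hm2).symm.trans hm3))
    -- the line fixed by `f` is inverted by `e`, and contains `w`
    have hwf : f * w * f⁻¹ = w⁻¹ := hf'.trans hw4
    obtain ⟨z, hz, hz1⟩ := (Subgroup.bot_or_exists_ne_one (plus f)).resolve_left
      (fun hb => by rw [hb, Subgroup.card_bot] at hcl; exact h.hp.ne_one hcl.symm)
    have hzP : z ∈ (P : Subgroup G) := (mem_inf.1 hz).1
    have hzf : f * z * f⁻¹ = z := mul_inv_eq_iff_eq_mul.2 (mem_centralizer_singleton_iff.1 (mem_inf.1 hz).2).symm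
    have hze := key2 z hzP hzf
    -- `z`, `w` are inverted by `e` and lie in one line
    let minus : Subgroup G :=
      { carrier := {y | y ∈ (P : Subgroup G) ∧ e * y * e⁻¹ = y⁻¹}
        one_mem' := ⟨one_mem _, by simp⟩
        mul_mem' := fun {y y'} hy hy' => ⟨mul_mem hy.1 hy'.1, by
          calc e * (y * y') * e⁻¹ = (e * y * e⁻¹) * (e * y' * e⁻¹) := by group
            _ = y⁻¹ * y'⁻¹ := by rw [hy.2, hy'.2]
            _ = (y * y')⁻¹ := by rw [← mul_inv_rev, hPab y' hy'.1 y hy.1]⟩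
        inv_mem' := fun {y} hy => ⟨inv_mem hy.1, by rw [← conj_inv, hy.2]⟩ }
    have hmc : Nat.card minus ≤ p := by
      let F : plus e × minus → (P : Subgroup G) := fun y =>
        ⟨(y.1 : G) * y.2, mul_mem (mem_inf.1 y.1.2).1 y.2.2.1⟩
      have hF : Function.Injective F := by
        rintro ⟨a₁, b₁⟩ ⟨a₂, b₂⟩ e1
        have e' : (a₁ : G) * b₁ = (a₂ : G) * b₂ := congrArg Subtype.val e1
        have hd : ((a₂⁻¹ * a₁ : plus e) : G) = ((b₂ * b₁⁻¹ : minus) : G) := by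
          simp only [Subgroup.coe_mul, Subgroup.coe_inv]
          calc (a₂ : G)⁻¹ * a₁ = (a₂ : G)⁻¹ * ((a₁ : G) * b₁) * (b₁ : G)⁻¹ := by group
            _ = (b₂ : G) * (b₁ : G)⁻¹ := by rw [e']; group
        have h1 := hodd _ (mem_inf.1 (a₂⁻¹ * a₁).2).1 (by
          have hp1 := pm _ (a₂⁻¹ * a₁).2
          rw [hd] at hp1 ⊢
          exact (b₂ * b₁⁻¹).2.2.symm.trans hp1)
        have ha : a₁ = a₂ := (inv_mul_eq_one.1 (Subtype.ext h1)).symm
        subst ha
        exact Prod.ext rfl (Subtype.ext (mul_left_cancel e'))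
      have := Nat.card_le_card_of_injective F hF
      rw [Nat.card_prod, (hplus e he heP).1, hcardP] at this
      exact Nat.le_of_mul_le_mul_left this h.hp.pos
    have hzw : w ∈ zpowers z := by
      have e1 : zpowers z = minus := by
        refine Subgroup.eq_of_le_of_card_ge (zpowers_le.2 ⟨hzP, hze⟩) (hmc.trans ?_)
        rw [Nat.card_zpowers]
        obtain ⟨n, hn⟩ := IsPGroup.iff_orderOf.1 P.isPGroup' ⟨z, hzP⟩
        rw [Subgroup.orderOf_mk] at hn
        rw [hn]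
        rcases Nat.eq_zero_or_pos n with rfl | hn0
        · exact absurd (orderOf_eq_one_iff.1 (by rw [hn, pow_zero])) hz1
        · exact Nat.le_self_pow hn0.ne' p
      rw [e1]
      exact ⟨hwP, hw4⟩
    obtain ⟨i, rfl⟩ := hzw
    have hfi : f * z ^ i * f⁻¹ = z ^ i := by rw [← conj_zpow, hzf]
    exact hw1 (hodd _ hwP (hwf.symm.trans hfi))
  -- a nontrivial element centralized by the normalizer
  obtain ⟨hplc, -⟩ := hplus s hs hsP
  obtain ⟨v, hv, hv1⟩ := (Subgroup.bot_or_exists_ne_one (plus s)).resolve_left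
    (fun hb => by rw [hb, Subgroup.card_bot] at hplc; exact h.hp.ne_one hplc.symm)
  set N := normalizer ((P : Subgroup G) : Set G)
  have hvN : N ≤ centralizer ({v} : Set G) := by
    obtain ⟨S', hS'⟩ := h.exists_sylow_mem hs
    obtain ⟨i, j, hcard⟩ := twoPrimes_card h.hp
      (h.hA N (h.sylow_normalizer_ne_top P) (hs ▸ Subgroup.orderOf_dvd_natCard _ hsP))
    obtain ⟨E, hE⟩ := (IsPGroup.of_card (G := zpowers (⟨s, hsP⟩ : N)) (p := 2) (n := 1)
      (by rw [Nat.card_zpowers, Subgroup.orderOf_mk, hs, pow_one])).exists_le_sylow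
    set C := centralizer ({v} : Set G)
    have h1 : (P : Subgroup G).subgroupOf N ≤ C.subgroupOf N := fun z hz =>
      h.le_centralizer_of_mem P (mem_inf.1 hv).1 hz
    have h2 : (E : Subgroup N) ≤ C.subgroupOf N := by
      intro f hf
      rcases eq_or_ne f 1 with rfl | hf1
      · exact one_mem _
      obtain ⟨l, hl⟩ := IsPGroup.iff_orderOf.1 E.isPGroup' ⟨f, hf⟩
      rw [Subgroup.orderOf_mk, ← Subgroup.orderOf_coe] at hl
      have hff : (f : G) * f = 1 := h.two_elem ⟨l, hl⟩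
      have hford : orderOf (f : G) = 2 := orderOf_eq_prime (by rwa [sq]) (fun e => hf1 (Subtype.ext e))
      obtain ⟨E', hE'⟩ := (E.isPGroup'.map N.subtype).exists_le_sylow
      have hc : Commute s (f : G) :=
        h.sylow_comm E' (hE' ⟨_, hE (mem_zpowers _), rfl⟩) (hE' ⟨f, hf, rfl⟩)
      exact mem_centralizer_singleton_iff.2 (mul_inv_eq_iff_eq_mul.1 (hsame s f hs hford hsP f.2 hc v hv))
    have htop : C.subgroupOf N = ⊤ := by
      refine Subgroup.eq_top_of_card_eq _ (Nat.dvd_antisymm (Subgroup.card_subgroup_dvd_card _) ?_)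
      rw [hcard]
      refine Nat.Coprime.mul_dvd_of_dvd_of_dvd
        (((Nat.coprime_primes h.hp Nat.prime_two).2 h.hp2).pow i j) ?_ ?_
      · refine dvd_trans ?_ (Subgroup.card_dvd_of_le h1)
        rw [show (P : Subgroup G).subgroupOf N =
            ((P.subtype le_normalizer : Sylow p N) : Subgroup N) from rfl,
          Sylow.card_eq_multiplicity, ← h.hp.pow_dvd_iff_dvd_ordProj Nat.card_pos.ne']
        exact hcard ▸ dvd_mul_right _ _
      · refine dvd_trans ?_ (Subgroup.card_dvd_of_le h2)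
        rw [E.card_eq_multiplicity, ← Nat.prime_two.pow_dvd_iff_dvd_ordProj Nat.card_pos.ne']
        exact hcard ▸ dvd_mul_left _ _
    exact Subgroup.subgroupOf_eq_top.1 htop
  -- transfer
  haveI hcomm := h.hab P
  have htr := MonoidHom.transfer_eq_pow (MonoidHom.id (P : Subgroup G)) v (fun k g₀ hk => by
    have hPc : (P : Subgroup G) ≤ centralizer ((P : Subgroup G) : Set G) := fun y hy =>
      mem_centralizer_iff.2 fun z hz => hPab z hz y hy
    obtain ⟨n, hn, hne⟩ := Fusion.burnside_fusion_centralizer P (g := g₀⁻¹)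
      (hPc (pow_mem (mem_inf.1 hv).1 k)) (by rw [inv_inv]; exact hPc hk)
    rw [inv_inv] at hne
    rw [← hne, ((show Commute n v from mem_centralizer_singleton_iff.1 (hvN hn)).pow_right k).eq,
      mul_inv_cancel_right])
  have hker : (MonoidHom.transfer (MonoidHom.id (P : Subgroup G))).ker = ⊤ := by
    have := h.simple
    rcases (MonoidHom.normal_ker (MonoidHom.transfer (MonoidHom.id (P : Subgroup G)))).eq_bot_or_eq_top
      with h1 | h1
    · refine absurd (fun x y => ?_) h.nonab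
      refine (MonoidHom.ker_eq_bot_iff _).1 h1 ?_
      rw [map_mul, map_mul]
      exact hcomm.is_comm.comm _ _
    · exact h1
  rw [MonoidHom.mem_ker.1 (hker ▸ mem_top v : v ∈ _)] at htr
  have hm : v ^ (P : Subgroup G).index = 1 := (congrArg Subtype.val htr).symm
  obtain ⟨n, hn⟩ := IsPGroup.iff_orderOf.1 P.isPGroup' ⟨v, (mem_inf.1 hv).1⟩
  rw [Subgroup.orderOf_mk] at hn
  have h5 := orderOf_dvd_of_pow_eq_one hm
  rw [hn] at h5
  rcases Nat.eq_zero_or_pos n with rfl | hn0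
  · exact hv1 (orderOf_eq_one_iff.1 (by rw [hn, pow_zero]))
  · exact P.not_dvd_index ((dvd_pow_self p hn0.ne').trans h5)

end Cfsg.Agent.H74.Mixed.Cfg
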