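import Cfsg.Agent.H74.MixedCentral
import Cfsg.Agent.H74.Friendship

/-!
The extreme case has no simple group.
-/

namespace Cfsg.Agent.H74.Mixed.Cfg

open Subgroup

universe u

variable {G : Type u} [Group G] [Finite G] {p a : ℕ}

theorem two_dvd_succ (h : Cfg p a G) : 2 ∣ p + 1 :=
  even_iff_two_dvd.1 (h.hp.odd_of_ne_two h.hp2).add_one

theorem ne_one_of_inv {t : G} (ht : orderOf t = 2) : t ≠ 1 := fun e => by
  rw [e, orderOf_one] at ht; norm_num at ht

theorem eq_one_of_inv_eq (h : Cfg p a G) {w : G} (hw : ∃ k, orderOf w = p ^ k) (hww : w⁻¹ = w) :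
    w = 1 := by
  obtain ⟨n, hn⟩ := hw
  rw [← orderOf_eq_one_iff]
  refine Nat.eq_one_of_dvd_coprimes
    (Nat.Coprime.pow 1 n ((Nat.coprime_primes Nat.prime_two h.hp).2 (Ne.symm h.hp2))) ?_ (dvd_of_eq hn)
  rw [orderOf_dvd_iff_pow_eq_one, pow_one, sq]
  exact inv_eq_iff_mul_eq_one.1 hww

theorem pelem_of_mem (h : Cfg p a G) (P : Sylow p G) {w : G} (hw : w ∈ (P : Subgroup G)) :
    ∃ k, orderOf w = p ^ k := by
  haveI : Fact p.Prime := ⟨h.hp⟩
  obtain ⟨k, hk⟩ := IsPGroup.iff_orderOf.1 P.isPGroup' ⟨w, hw⟩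
  exact ⟨k, by rwa [Subgroup.orderOf_mk] at hk⟩

theorem two_pow_invol (h : Cfg p a G) {y : G} (hy : y ≠ 1) (hyy : y * y = 1) : orderOf y = 2 :=
  orderOf_eq_prime (by rwa [sq]) hy

/-- A Sylow subgroup containing a nontrivial element centralized by an involution. -/
theorem good (h : Cfg p a G) (P : Sylow p G) {t u : G} (ht : orderOf t = 2)
    (hu : u ∈ (P : Subgroup G)) (hu1 : u ≠ 1) (htu : t * u = u * t) :
    centralizer ({u} : Set G) ≤ normalizer ((P : Subgroup G) : Set G) := by
  rcases h.sylow_or P (h.centralizer_ne_top hu1)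
    (ht ▸ Subgroup.orderOf_dvd_natCard _ (mem_centralizer_singleton_iff.2 htu))
    (h.le_centralizer_of_mem P hu) with hN | ⟨S, hS, -⟩
  · exact hN
  · exact (h.centralizes_false S hu1 (h.pelem_of_mem P hu) (mem_centralizer_iff.2 fun z hz =>
      mem_centralizer_singleton_iff.1 (hS hz))).elim

theorem eq_of_good (h : Cfg p a G) (P P' : Sylow p G) {t u : G} (ht : orderOf t = 2)
    (hu : u ∈ (P : Subgroup G)) (hu' : u ∈ (P' : Subgroup G)) (hu1 : u ≠ 1)
    (htu : t * u = u * t) : P' = P := by
  apply Sylow.ext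
  exact (P'.is_maximal' P.isPGroup'
    (h.le_sylow P P'.isPGroup' ((h.le_centralizer_of_mem P' hu').trans (h.good P ht hu hu1 htu)))).symm

theorem eq_of_inverted (h : Cfg p a G) (P P' : Sylow p G) {s u : G} (hs : orderOf s = 2)
    (hu : u ∈ (P : Subgroup G)) (hu' : u ∈ (P' : Subgroup G)) (hu1 : u ≠ 1)
    (hsu : s * u * s⁻¹ = u⁻¹) : P' = P := by
  apply Sylow.ext
  exact (P'.is_maximal' P.isPGroup'
    (h.le_sylow P P'.isPGroup'
      ((h.le_centralizer_of_mem P' hu').trans (h.inverted P hs hu hu1 hsu).2))).symm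

/-- An involution without nontrivial fixed points inverts the Sylow subgroup it normalizes. -/
theorem inverts (h : Cfg p a G) (P : Sylow p G) {s : G} (hs : orderOf s = 2)
    (hsP : s ∈ normalizer ((P : Subgroup G) : Set G))
    (hfix : ∀ d ∈ (P : Subgroup G), Commute s d → d = 1) :
    ∀ d ∈ (P : Subgroup G), s * d * s⁻¹ = d⁻¹ :=
  H61.inverts_of_fpf (by rw [← hs, pow_orderOf_eq_one])
    (fun d hd => (Subgroup.mem_normalizer_iff.1 hsP d).1 hd) hfix

/-- Two involutions inverting `P` have product centralizing it. -/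
theorem mul_centralizes (P : Sylow p G) {s t : G}
    (hsd : ∀ d ∈ (P : Subgroup G), s * d * s⁻¹ = d⁻¹)
    (htd : ∀ d ∈ (P : Subgroup G), t * d * t⁻¹ = d⁻¹) :
    s * t ∈ centralizer ((P : Subgroup G) : Set G) := by
  rw [mem_centralizer_iff]
  intro d hd
  have h1 : (s * t) * d * (s * t)⁻¹ = d := by
    calc (s * t) * d * (s * t)⁻¹ = s * (t * d * t⁻¹) * s⁻¹ := by group
      _ = d := by rw [htd d hd, hsd _ (inv_mem hd), inv_inv]
  exact (mul_inv_eq_iff_eq_mul.1 h1).symm

/-- Some involution centralizes a nontrivial `p`-element. -/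
theorem exists_centralized (h : Cfg p a G) :
    ∃ t u : G, orderOf t = 2 ∧ u ≠ 1 ∧ (∃ k, orderOf u = p ^ k) ∧ t * u = u * t := by
  classical
  haveI : Fact p.Prime := ⟨h.hp⟩
  haveI : Fact (Nat.Prime 2) := ⟨Nat.prime_two⟩
  by_contra hno
  push_neg at hno
  have hfpf : ∀ (P : Sylow p G) (s : G), orderOf s = 2 → ∀ d ∈ (P : Subgroup G), Commute s d → d = 1 := by
    intro P s hs d hd hc
    by_contra hd1
    obtain ⟨k, hk⟩ := h.pelem_of_mem P hd
    exact hno s d hs hd1 ⟨k, hk⟩ hc.eq
  -- centralizers of involutions are Sylow subgroups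
  have hC : ∀ s : G, orderOf s = 2 → Nat.card (centralizer ({s} : Set G)) = p + 1 := by
    intro s hs
    obtain ⟨S, hS⟩ := h.exists_sylow_mem hs
    have hle : (S : Subgroup G) ≤ centralizer ({s} : Set G) := fun z hz =>
      mem_centralizer_singleton_iff.2 (h.sylow_comm S hz hS)
    have h2 : IsPGroup 2 (centralizer ({s} : Set G)) := by
      rw [IsPGroup.iff_orderOf]
      intro z
      refine ⟨_, Nat.eq_prime_pow_of_unique_prime_dvd (orderOf_pos z).ne' fun {d} hd hdz => ?_⟩
      rcases h.hA _ (h.centralizer_ne_top (ne_one_of_inv hs))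
        (hs ▸ Subgroup.orderOf_dvd_natCard _ (mem_centralizer_singleton_iff.2 rfl)) d hd
        (hdz.trans (orderOf_dvd_natCard z)) with rfl | h1
      · exfalso
        have hord : orderOf (z ^ (orderOf z / d)) = d := orderOf_pow_orderOf_div (orderOf_pos z).ne' hdz
        set w : centralizer ({s} : Set G) := z ^ (orderOf z / d)
        refine hno s w hs (fun e => hd.ne_one ?_) ⟨1, by rw [pow_one, Subgroup.orderOf_coe, hord]⟩
          (mem_centralizer_singleton_iff.1 w.2).symm
        rw [← hord, ← Subgroup.orderOf_coe, e, orderOf_one]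
      · exact h1
    rw [← h.card_sylow S, S.is_maximal' h2 hle]
  -- involutions normalizing a Sylow subgroup
  have hNP : ∀ (P : Sylow p G) (e f : G), orderOf e = 2 → orderOf f = 2 →
      e ∈ normalizer ((P : Subgroup G) : Set G) → f ∈ normalizer ((P : Subgroup G) : Set G) →
      e * f ∈ (P : Subgroup G) := by
    intro P e f he hf heP hfP
    have hef := mul_centralizes P (h.inverts P he heP (hfpf P e he)) (h.inverts P hf hfP (hfpf P f hf))
    refine h.mem_sylow P ?_ (mul_mem heP hfP)
    refine ⟨_, Nat.eq_prime_pow_of_unique_prime_dvd (orderOf_pos _).ne' fun {d} hd hdz => ?_⟩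
    by_contra hne
    set w := (e * f) ^ (orderOf (e * f) / d)
    have hord : orderOf w = d := orderOf_pow_orderOf_div (orderOf_pos _).ne' hdz
    have hwN : w ∈ normalizer ((P : Subgroup G) : Set G) := pow_mem (mul_mem heP hfP) _
    have hd2 : d = 2 := (h.hA _ (h.sylow_normalizer_ne_top P) (he ▸ Subgroup.orderOf_dvd_natCard _ heP)
      d hd (hord ▸ Subgroup.orderOf_dvd_natCard _ hwN)).resolve_left hne
    obtain ⟨z, hz, hz1⟩ := (Subgroup.bot_or_exists_ne_one (P : Subgroup G)).resolve_left
      (P.ne_bot_of_dvd_card h.hpG)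
    exact hz1 (hfpf P w (hord.trans hd2) z hz (mem_centralizer_iff.1 (pow_mem hef _) z hz).symm)
  -- the involutions of a normalizer form a coset
  have hinvs : ∀ (P : Sylow p G), Nat.card {s : G // orderOf s = 2 ∧ s ∈ normalizer ((P : Subgroup G) : Set G)}
      = Nat.card (P : Subgroup G) := by
    intro P
    obtain ⟨e, he, heP⟩ := h.exists_inv_normalizer P
    have hinv := h.inverts P he heP (hfpf P e he)
    have hee : e * e = 1 := by rw [← sq, ← he, pow_orderOf_eq_one]
    refine Nat.card_congr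
      { toFun := fun s => ⟨e * s.1, hNP P e s.1 he s.2.1 heP s.2.2⟩
        invFun := fun z => ⟨e * z, ?_, mul_mem heP (le_normalizer z.2)⟩
        left_inv := fun s => Subtype.ext (by
          show e * (e * s.1) = s.1
          rw [← mul_assoc, hee, one_mul])
        right_inv := fun z => Subtype.ext (by
          show e * (e * (z : G)) = z
          rw [← mul_assoc, hee, one_mul]) }
    refine orderOf_eq_prime ?_ fun e1 => ?_
    · have h1 := hinv z z.2
      rw [inv_eq_of_mul_eq_one_right hee] at h1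
      calc (e * (z : G)) ^ 2 = (e * z * e) * z := by rw [sq]; group
        _ = 1 := by rw [h1, inv_mul_cancel]
    · have hp' : ∃ k, orderOf e = p ^ k :=
        h.pelem_of_mem P (eq_inv_of_mul_eq_one_left e1 ▸ inv_mem z.2)
      exact ne_one_of_inv he (h.eq_one_of_inv_eq hp' (inv_eq_of_mul_eq_one_right hee))
  letI : Fintype G := Fintype.ofFinite G
  letI : Fintype (Sylow p G) := Fintype.ofFinite _
  let I : Finset G := Finset.univ.filter fun s => orderOf s = 2
  have hI : ∀ s, s ∈ I ↔ orderOf s = 2 := fun s => by simp [I]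
  obtain ⟨P₀⟩ : Nonempty (Sylow p G) := inferInstance
  set v := Nat.card (P₀ : Subgroup G) with hv
  have hvP : ∀ P : Sylow p G, Nat.card (P : Subgroup G) = v := fun P => Nat.card_congr (P.equiv P₀).toEquiv
  obtain ⟨t, ht, -⟩ := h.exists_inv_normalizer P₀
  let Psyl : G → Finset (Sylow p G) := fun s =>
    Finset.univ.filter fun P => s ∈ normalizer ((P : Subgroup G) : Set G)
  set m := (Psyl t).card with hm
  have hmconst : ∀ s ∈ I, (Psyl s).card = m := by
    intro s hs
    obtain ⟨g, hg⟩ := h.inv_conj ht ((hI s).1 hs)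
    refine (Finset.card_equiv (MulAction.toPerm g) fun P => ?_).symm
    simp only [Psyl, Finset.mem_filter, Finset.mem_univ, true_and, MulAction.toPerm_apply]
    refine ⟨fun hP => Sylow.smul_eq_iff_mem_normalizer.1 (?_ : s • (g • P) = g • P),
      fun hP => Sylow.smul_eq_iff_mem_normalizer.1 (?_ : t • P = P)⟩
    · rw [← hg, smul_smul, inv_mul_cancel_right, mul_smul, Sylow.smul_eq_iff_mem_normalizer.2 hP]
    · have h2 := Sylow.smul_eq_iff_mem_normalizer.2 hP
      rw [← hg, smul_smul, inv_mul_cancel_right, mul_smul] at h2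
      exact smul_left_cancel _ h2
  -- incidences
  have hinc : I.card * m = Nat.card (Sylow p G) * v := by
    have := Finset.sum_card_bipartiteAbove_eq_sum_card_bipartiteBelow
      (s := I) (t := (Finset.univ : Finset (Sylow p G)))
      (fun (s : G) (P : Sylow p G) => s ∈ normalizer ((P : Subgroup G) : Set G))
    rw [Finset.sum_congr rfl (f := fun s => (Finset.bipartiteAbove
      (fun (s : G) (P : Sylow p G) => s ∈ normalizer ((P : Subgroup G) : Set G)) Finset.univ s).card)
      (g := fun _ => m) fun s hs => hmconst s hs, Finset.sum_const,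
      smul_eq_mul] at this
    rw [this, Finset.sum_congr rfl (g := fun _ => v) fun P _ => ?_, Finset.sum_const, smul_eq_mul,
      Finset.card_univ, Nat.card_eq_fintype_card]
    rw [← hvP P, ← hinvs P, ← Nat.card_eq_finsetCard]
    exact Nat.card_congr (Equiv.subtypeEquivRight fun s => by simp [Finset.bipartiteBelow, hI])
  -- the normalizer has order `2 v`
  have hN : ∀ P : Sylow p G, Nat.card (normalizer ((P : Subgroup G) : Set G)) = 2 * v := by
    intro P
    obtain ⟨e, he, heP⟩ := h.exists_inv_normalizer P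
    set N := normalizer ((P : Subgroup G) : Set G)
    obtain ⟨i, j, hcard⟩ := twoPrimes_card h.hp
      (h.hA N (h.sylow_normalizer_ne_top P) (he ▸ Subgroup.orderOf_dvd_natCard _ heP))
    obtain ⟨E, hE⟩ := (IsPGroup.of_card (G := zpowers (⟨e, heP⟩ : N)) (p := 2) (n := 1)
      (by rw [Nat.card_zpowers, Subgroup.orderOf_mk, he, pow_one])).exists_le_sylow
    have hPv : Nat.card ((P.subtype le_normalizer : Sylow p N) : Subgroup N) = p ^ i := by
      obtain ⟨k, hk⟩ := IsPGroup.iff_card.1 (P.subtype (le_normalizer : (P : Subgroup G) ≤ N)).isPGroup'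
      rw [hk]
      refine Nat.dvd_antisymm ?_ ?_
      · exact ((Nat.coprime_primes h.hp Nat.prime_two).2 h.hp2).pow k j |>.dvd_of_dvd_mul_right
          (hcard ▸ hk ▸ Subgroup.card_subgroup_dvd_card _)
      · rw [← hk, Sylow.card_eq_multiplicity, ← h.hp.pow_dvd_iff_dvd_ordProj Nat.card_pos.ne']
        exact hcard ▸ dvd_mul_right _ _
    have hEv : Nat.card (E : Subgroup N) = 2 ^ j := by
      obtain ⟨k, hk⟩ := IsPGroup.iff_card.1 E.isPGroup'
      rw [hk]
      refine Nat.dvd_antisymm ?_ ?_
      · exact ((Nat.coprime_primes Nat.prime_two h.hp).2 (Ne.symm h.hp2)).pow k i |>.dvd_of_dvd_mul_left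
          (hcard ▸ hk ▸ Subgroup.card_subgroup_dvd_card _)
      · rw [← hk, E.card_eq_multiplicity, ← Nat.prime_two.pow_dvd_iff_dvd_ordProj Nat.card_pos.ne']
        exact hcard ▸ dvd_mul_left _ _
    have hE2 : Nat.card (E : Subgroup N) = 2 := by
      have hall : ∀ f ∈ (E : Subgroup N), f = 1 ∨ f = ⟨e, heP⟩ := by
        intro f hf
        rcases eq_or_ne f 1 with rfl | hf1
        · exact Or.inl rfl
        obtain ⟨l, hl⟩ := IsPGroup.iff_orderOf.1 E.isPGroup' ⟨f, hf⟩
        rw [Subgroup.orderOf_mk, ← Subgroup.orderOf_coe] at hl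
        have hford : orderOf (f : G) = 2 :=
          h.two_pow_invol (fun e' => hf1 (Subtype.ext e')) (h.two_elem ⟨l, hl⟩)
        have hmem := hNP P e (f : G) he hford heP f.2
        obtain ⟨E', hE'⟩ := (E.isPGroup'.map N.subtype).exists_le_sylow
        have hee : e * (f : G) * (e * (f : G)) = 1 :=
          (h.sylow_facts E').1 _ (mul_mem (hE' ⟨_, hE (mem_zpowers _), rfl⟩) (hE' ⟨f, hf, rfl⟩))
        have h1 := h.eq_one_of_inv_eq (h.pelem_of_mem P hmem) (inv_eq_of_mul_eq_one_right hee)
        refine Or.inr (Subtype.ext ?_)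
        rw [eq_inv_of_mul_eq_one_right h1]
        exact inv_eq_of_mul_eq_one_right (by rw [← sq, ← he, pow_orderOf_eq_one])
      let F : Bool → (E : Subgroup N) := fun b => if b then 1 else ⟨⟨e, heP⟩, hE (mem_zpowers _)⟩
      have hF : Function.Bijective F := by
        refine ⟨?_, fun f => ?_⟩
        · have hne : (⟨⟨e, heP⟩, hE (mem_zpowers _)⟩ : (E : Subgroup N)) ≠ 1 := fun e' =>
            ne_one_of_inv he (congrArg (fun z : (E : Subgroup N) => ((z : N) : G)) e')
          rintro (_ | _) (_ | _) e' <;> first | rfl | exact absurd e' hne | exact absurd e'.symm hne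
        · rcases hall f f.2 with h1 | h1
          · exact ⟨true, Subtype.ext h1.symm⟩
          · exact ⟨false, Subtype.ext h1.symm⟩
      simpa using (Nat.card_congr (Equiv.ofBijective F hF)).symm
    have h2 : Nat.card ((P.subtype le_normalizer : Sylow p N) : Subgroup N) = v := by
      rw [← hvP P]
      exact Nat.card_congr (Subgroup.subgroupOfEquivOfLe le_normalizer).toEquiv
    rw [hcard, ← hPv, ← hEv, h2, hE2, mul_comm]
  have hG : Nat.card G = Nat.card (Sylow p G) * (2 * v) := by
    rw [P₀.card_eq_index_normalizer, ← hN P₀, mul_comm]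
    exact (Subgroup.card_mul_index _).symm
  -- the class of `t`
  have hIclass : I.card * (p + 1) = Nat.card G := by
    rw [← hC t ht]
    have h1 : I.card = (centralizer ({t} : Set G)).index := by
      rw [← Nat.card_eq_finsetCard]
      let F : G ⧸ centralizer ({t} : Set G) → I := fun c =>
        ⟨c.out * t * (c.out)⁻¹, (hI _).2 (((MulAut.conj c.out).orderOf_eq t).trans ht)⟩
      refine (Nat.card_eq_of_bijective F ⟨fun c d e => ?_, fun s => ?_⟩).symm
      · rw [← QuotientGroup.out_eq' c, ← QuotientGroup.out_eq' d, QuotientGroup.eq,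
          mem_centralizer_singleton_iff]
        have e' : c.out * t * (c.out)⁻¹ = d.out * t * (d.out)⁻¹ := congrArg Subtype.val e
        calc (c.out)⁻¹ * d.out * t = (c.out)⁻¹ * (d.out * t * (d.out)⁻¹) * d.out := by group
          _ = t * ((c.out)⁻¹ * d.out) := by rw [← e']; group
      · obtain ⟨g, hg⟩ := h.inv_conj ht ((hI _).1 s.2)
        obtain ⟨z, hz⟩ := QuotientGroup.mk_out_eq_mul (centralizer ({t} : Set G)) g
        refine ⟨g, Subtype.ext ?_⟩
        show (QuotientGroup.mk g : G ⧸ centralizer ({t} : Set G)).out * t *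
          ((QuotientGroup.mk g : G ⧸ centralizer ({t} : Set G)).out)⁻¹ = _
        rw [hz]
        calc g * (z : G) * t * (g * (z : G))⁻¹ = g * ((z : G) * t * (z : G)⁻¹) * g⁻¹ := by group
          _ = (s : G) := by rw [mem_centralizer_singleton_iff.1 z.2, mul_inv_cancel_right, hg]
    rw [h1, mul_comm, Subgroup.card_mul_index]
  have hIpos : 0 < I.card := Finset.card_pos.2 ⟨t, (hI t).2 ht⟩
  have h2m : 2 * m = p + 1 := by
    refine Nat.eq_of_mul_eq_mul_left hIpos ?_
    rw [hIclass, hG]
    calc I.card * (2 * m) = 2 * (I.card * m) := by ring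
      _ = _ := by rw [hinc]; ring
  -- partition by the fixed involution
  have hpart : I.card = p + m * (v - 1) := by
    have hsplit : (I.filter fun s => s * t = t * s).card = p := by
      rw [← Nat.card_eq_finsetCard]
      have hc : Nat.card {s : centralizer ({t} : Set G) // s ≠ 1} + 1 = p + 1 := by
        rw [← hC t ht, ← Finite.card_option]
        exact Nat.card_congr (Equiv.optionSubtypeNe (1 : centralizer ({t} : Set G)))
      have hbij : Nat.card {s : centralizer ({t} : Set G) // s ≠ 1} =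
          Nat.card (I.filter fun s => s * t = t * s) := by
        obtain ⟨S, hS⟩ := h.exists_sylow_mem ht
        have hCS : (S : Subgroup G) = centralizer ({t} : Set G) :=
          Subgroup.eq_of_le_of_card_ge
            (fun z hz => mem_centralizer_singleton_iff.2 (h.sylow_comm S hz hS))
            (by rw [hC t ht, h.card_sylow S])
        refine Nat.card_congr
          { toFun := fun s => ⟨(s.1 : G), Finset.mem_filter.2
              ⟨(hI _).2 (h.two_pow_invol (fun e => s.2 (Subtype.ext e))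
                ((h.sylow_facts S).1 _ (hCS.ge s.1.2))), mem_centralizer_singleton_iff.1 s.1.2⟩⟩
            invFun := fun s => ⟨⟨(s : G), mem_centralizer_singleton_iff.2 (Finset.mem_filter.1 s.2).2⟩,
              fun e => ne_one_of_inv ((hI _).1 (Finset.mem_filter.1 s.2).1) (congrArg Subtype.val e)⟩
            left_inv := fun s => rfl
            right_inv := fun s => rfl }
      omega
    have hrest : (I.filter fun s => ¬ s * t = t * s) =
        (Psyl t).biUnion fun P => I.filter fun s => s ∈ normalizer ((P : Subgroup G) : Set G) ∧ s ≠ t := by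
      ext s
      simp only [Finset.mem_filter, Finset.mem_biUnion, Psyl, Finset.mem_univ, true_and]
      constructor
      · rintro ⟨hs, hne⟩
        obtain ⟨y, -, hy1, hyp, hsy, hty⟩ := h.exists_inverted ((hI s).1 hs) ht hne
        obtain ⟨P, hP⟩ := h.exists_sylow_p hyp
        exact ⟨P, (h.inverted P ht hP hy1 hty).1, hs, (h.inverted P ((hI s).1 hs) hP hy1 hsy).1,
          fun e => hne (by rw [e])⟩
      · rintro ⟨P, htP, hs, hsP, hne⟩
        refine ⟨hs, fun hc => hne ?_⟩
        have hmem := hNP P s t ((hI s).1 hs) ht hsP htP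
        have hss : s * s = 1 := by rw [← sq, ← (hI s).1 hs, pow_orderOf_eq_one]
        have htt : t * t = 1 := by rw [← sq, ← ht, pow_orderOf_eq_one]
        have h1 : s * t * (s * t) = 1 := by
          calc s * t * (s * t) = s * (t * s) * t := by group
            _ = (s * s) * (t * t) := by rw [← hc]; group
            _ = 1 := by rw [hss, htt, one_mul]
        rw [eq_inv_of_mul_eq_one_left (h.eq_one_of_inv_eq (h.pelem_of_mem P hmem)
          (inv_eq_of_mul_eq_one_right h1))]
        exact inv_eq_of_mul_eq_one_right htt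
    have hdisj : ((Psyl t : Finset (Sylow p G)) : Set (Sylow p G)).PairwiseDisjoint
        fun P => I.filter fun s => s ∈ normalizer ((P : Subgroup G) : Set G) ∧ s ≠ t := by
      intro P hP P' hP' hne
      rw [Function.onFun, Finset.disjoint_left]
      intro s hs hs'
      simp only [Finset.mem_filter, Psyl, Finset.mem_univ, true_and, Finset.coe_filter, Set.mem_setOf_eq] at hs hs' hP hP'
      refine hne ?_
      have hmem := hNP P s t ((hI s).1 hs.1) ht hs.2.1 hP
      have hst1 : s * t ≠ 1 := fun e => hs.2.2 (by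
        rw [eq_inv_of_mul_eq_one_left e]
        exact inv_eq_of_mul_eq_one_right (by rw [← sq, ← ht, pow_orderOf_eq_one]))
      exact h.eq_of_inverted P' P ht (hNP P' s t ((hI s).1 hs'.1) ht hs'.2.1 hP') hmem hst1
        (h.inverts P ht hP (hfpf P t ht) _ hmem)
    have heach : ∀ P ∈ Psyl t,
        (I.filter fun s => s ∈ normalizer ((P : Subgroup G) : Set G) ∧ s ≠ t).card = v - 1 := by
      intro P hP
      simp only [Finset.mem_filter, Psyl, Finset.mem_univ, true_and] at hP
      have e : (I.filter fun s => s ∈ normalizer ((P : Subgroup G) : Set G) ∧ s ≠ t) =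
          (I.filter fun s => s ∈ normalizer ((P : Subgroup G) : Set G)).erase t := by
        ext s
        simp only [Finset.mem_filter, Finset.mem_erase]
        tauto
      rw [e, Finset.card_erase_of_mem (Finset.mem_filter.2 ⟨(hI t).2 ht, hP⟩), ← hvP P, ← hinvs P,
        ← Nat.card_eq_finsetCard]
      congr 1
      exact Nat.card_congr (Equiv.subtypeEquivRight fun s => by simp [hI])
    rw [← Finset.card_filter_add_card_filter_not (fun s => s * t = t * s) (s := I), hsplit, hrest,
      Finset.card_biUnion hdisj, Finset.sum_congr rfl heach, Finset.sum_const, smul_eq_mul]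
  -- count modulo `p`
  have hpI : p ∣ I.card := by
    rcases h.hp.dvd_mul.1 (hIclass ▸ h.hpG) with h1 | h1
    · exact h1
    · exact absurd ((Nat.dvd_add_right dvd_rfl).1 h1) h.hp.not_dvd_one
  rw [hpart] at hpI
  have h3 : p ∣ m * (v - 1) := (Nat.dvd_add_right dvd_rfl).1 hpI
  have hpv : p ∣ v := P₀.dvd_card_of_dvd_card h.hpG
  have hv0 : 0 < v := Nat.card_pos
  rcases h.hp.dvd_mul.1 h3 with h4 | h4
  · have h5 : p ∣ p + 1 := h2m ▸ h4.mul_left 2
    exact h.hp.not_dvd_one ((Nat.dvd_add_right dvd_rfl).1 h5)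
  · have h5 : p ∣ v - (v - 1) := Nat.dvd_sub hpv h4
    rw [show v - (v - 1) = 1 by omega] at h5
    exact h.hp.not_dvd_one h5

/-- The extreme configuration is impossible. -/
theorem absurd_cfg (h : Cfg p a G) : False := by
  classical
  haveI : Fact p.Prime := ⟨h.hp⟩
  haveI : Fact (Nat.Prime 2) := ⟨Nat.prime_two⟩
  obtain ⟨t₀, u₀, ht₀, hu₀, hu₀p, hcomm⟩ := h.exists_centralized
  obtain ⟨P₀, hP₀⟩ := h.exists_sylow_p hu₀p
  -- each involution has its Sylow subgroup
  have hex : ∀ t : G, orderOf t = 2 → ∃ (P : Sylow p G) (u : G), u ∈ (P : Subgroup G) ∧ u ≠ 1 ∧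
      t * u = u * t := by
    intro t ht
    obtain ⟨g, hg⟩ := h.inv_conj ht₀ ht
    refine ⟨g • P₀, g * u₀ * g⁻¹, ?_, fun e => hu₀ (conj_eq_one_iff.1 e), ?_⟩
    · rw [Sylow.coe_subgroup_smul, Subgroup.mem_pointwise_smul_iff_inv_smul_mem]
      simpa [MulAut.smul_def, mul_assoc] using hP₀
    · rw [← hg]
      calc g * t₀ * g⁻¹ * (g * u₀ * g⁻¹) = g * (t₀ * u₀) * g⁻¹ := by group
        _ = g * u₀ * g⁻¹ * (g * t₀ * g⁻¹) := by rw [hcomm]; group
  choose! Pt uu huP hu1 hut using hex
  -- every `p`-element of the centralizer lies in it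
  have hall : ∀ t : G, orderOf t = 2 → ∀ w : G, (∃ k, orderOf w = p ^ k) → t * w = w * t →
      w ∈ (Pt t : Subgroup G) := by
    intro t ht w hw htw
    rcases eq_or_ne w 1 with rfl | hw1
    · exact one_mem _
    set H := centralizer ({t} : Set G) with hH
    have htH : t ∈ H := mem_centralizer_singleton_iff.2 rfl
    have hHne := h.centralizer_ne_top (ne_one_of_inv ht)
    have h2 : 2 ∣ Nat.card H := ht ▸ Subgroup.orderOf_dvd_natCard _ htH
    obtain ⟨i, j, hcard⟩ := twoPrimes_card h.hp (h.hA H hHne h2)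
    haveI : Group.IsSolvable H := S0144.result p 2 i j h.hp Nat.prime_two hcard
    haveI hn2 : (Cfsg.pCore 2 H).Normal := Cfsg.pCore_normal 2 H
    haveI hnp : (Cfsg.pCore p H).Normal := Cfsg.pCore_normal p H
    have htc : (⟨t, htH⟩ : H) ∈ center H := mem_center_iff.2 fun g => Subtype.ext
      (mem_centralizer_singleton_iff.1 g.2)
    have ht2 : (⟨t, htH⟩ : H) ∈ Cfsg.pCore 2 H := by
      have : (zpowers (⟨t, htH⟩ : H)).Normal := ⟨fun y hy g => by
        have hy' : y ∈ center H := (zpowers_le.2 htc) hy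
        rwa [mem_center_iff.1 hy' g, mul_inv_cancel_right]⟩
      exact Cores.le_pCore (IsPGroup.of_card (p := 2) (n := 1)
        (by rw [Nat.card_zpowers, Subgroup.orderOf_mk, ht, pow_one])) (mem_zpowers _)
    -- `p`-elements centralize the 2-core
    have hc2 : ∀ z : H, (∃ k, orderOf (z : G) = p ^ k) → ∀ y ∈ Cfsg.pCore 2 H, y * z = z * y := by
      intro z hz y hy
      set W := (Cfsg.pCore 2 H).map H.subtype
      by_cases hzc : (z : G) ∈ centralizer (W : Set G)
      · exact Subtype.ext (mem_centralizer_iff.1 hzc y ⟨y, hy, rfl⟩)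
      exfalso
      have hzN : (z : G) ∈ normalizer (W : Set G) := mem_normalizer_of_conj (by
        rintro _ ⟨v, hv, rfl⟩
        exact ⟨z * v * z⁻¹, hn2.conj_mem v hv z, rfl⟩)
      obtain ⟨hle, htr⟩ := exists_transitive hzN hz hzc
      obtain ⟨S, hS⟩ := h.eq_sylow_of_act (Cores.pCore_isPGroup.map _) hzN hz hzc
      obtain ⟨x, hx, -, hxt⟩ := htr (by rw [show W = (S : Subgroup G) from hS]; exact h.card_sylow S)
      obtain ⟨i', rfl⟩ := mem_zpowers_iff.1 hx
      refine hzc (mem_centralizer_iff.2 fun b hb => ?_)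
      rcases eq_or_ne b 1 with rfl | hb1
      · simp
      obtain ⟨l, hl⟩ := hxt t ⟨_, ht2, rfl⟩ b hb (ne_one_of_inv ht) hb1
      have hct : Commute ((z : G) ^ i') t :=
        (show Commute (z : G) t from mem_centralizer_singleton_iff.1 z.2).zpow_left _
      rw [(hct.pow_left l).eq, mul_inv_cancel_right] at hl
      rw [← hl]
      exact (mem_centralizer_singleton_iff.1 z.2).symm
    have hwH : w ∈ H := mem_centralizer_singleton_iff.2 htw.symm
    have hne : Cfsg.pCore p H ≠ ⊥ := by
      intro hb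
      have hwc : (⟨w, hwH⟩ : H) ∈ centralizer (fittingSubgroup H : Set H) := by
        rw [Cores.iSup_pCore_eq_fittingSubgroup, mem_centralizer_iff]
        intro y hy
        have hle : (⨆ r : Nat.Primes, Cfsg.pCore (r : ℕ) H) ≤ centralizer ({(⟨w, hwH⟩ : H)} : Set H) := by
          refine iSup_le fun r z hz => mem_centralizer_singleton_iff.2 ?_
          haveI := Fact.mk r.2
          by_cases hrp : (r : ℕ) = p
          · rw [hrp, hb, mem_bot] at hz
            rw [hz, one_mul, mul_one]
          by_cases hr2 : (r : ℕ) = 2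
          · rw [hr2] at hz
            exact hc2 ⟨w, hwH⟩ hw z hz
          · obtain ⟨k, hk⟩ := IsPGroup.iff_orderOf.1 (Cores.pCore_isPGroup (p := (r : ℕ)) (G := H)) ⟨z, hz⟩
            rw [Subgroup.orderOf_mk] at hk
            rcases Nat.eq_zero_or_pos k with rfl | hk0
            · rw [pow_zero, orderOf_eq_one_iff] at hk
              rw [hk, one_mul, mul_one]
            · rcases h.hA H hHne h2 r r.2 ((dvd_pow_self _ hk0.ne').trans (hk ▸ orderOf_dvd_natCard z))
                with h1 | h1
              · exact absurd h1 hrp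
              · exact absurd h1 hr2
        exact mem_centralizer_singleton_iff.1 (hle hy)
      have hwF := Cores.centralizer_fittingSubgroup_le hwc
      obtain ⟨k, hk⟩ := hw
      have hwp : IsPGroup p (zpowers (⟨w, hwH⟩ : H)) :=
        IsPGroup.of_card (n := k) (by rw [Nat.card_zpowers, Subgroup.orderOf_mk, hk])
      have hh := Cores.le_pCore_of_le_sup hwp (by
        rw [zpowers_le]
        exact (Cores.iSup_pCore_eq_fittingSubgroup.le.trans (Cores.iSup_pCore_le_sup p)) hwF)
      rw [hb, zpowers_le, mem_bot] at hh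
      exact hw1 (congrArg Subtype.val hh)
    obtain ⟨y, hy, hy1⟩ := (Subgroup.bot_or_exists_ne_one _).resolve_left hne
    -- all `p`-elements of the centralizer lie with `y`
    have hkey : ∀ z : G, (∃ k, orderOf z = p ^ k) → z ∈ H →
        ∀ P : Sylow p G, (y : G) ∈ (P : Subgroup G) → z ∈ (P : Subgroup G) := by
      intro z hz hzH P hyP
      obtain ⟨k, hk⟩ := hz
      have hzp : IsPGroup p (zpowers (⟨z, hzH⟩ : H)) :=
        IsPGroup.of_card (n := k) (by rw [Nat.card_zpowers, Subgroup.orderOf_mk, hk])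
      obtain ⟨R, hR⟩ := ((Cores.pCore_isPGroup.to_sup_of_normal_left hzp).map H.subtype).exists_le_sylow
      have hRP : R = P := h.eq_of_good P R ht hyP (hR ⟨y, mem_sup_left hy, rfl⟩)
        (fun e => hy1 (Subtype.ext e)) (mem_centralizer_singleton_iff.1 y.2).symm
      exact hRP ▸ hR ⟨⟨z, hzH⟩, mem_sup_right (mem_zpowers _), rfl⟩
    have hyp : ∃ k, orderOf (y : G) = p ^ k := by
      obtain ⟨k, hk⟩ := IsPGroup.iff_orderOf.1 (Cores.pCore_isPGroup (p := p) (G := H)) ⟨y, hy⟩
      rw [Subgroup.orderOf_mk, ← Subgroup.orderOf_coe] at hk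
      exact ⟨k, hk⟩
    obtain ⟨R, hR⟩ := h.exists_sylow_p hyp
    have huR : uu t ∈ (R : Subgroup G) := hkey _ (h.pelem_of_mem _ (huP t ht))
      (mem_centralizer_singleton_iff.2 (hut t ht).symm) R hR
    have hRt : R = Pt t := h.eq_of_good (Pt t) R ht (huP t ht) huR (hu1 t ht) (hut t ht)
    exact hRt ▸ hkey w hw hwH R hR
  have huniq : ∀ t : G, orderOf t = 2 → ∀ (P : Sylow p G) (w : G), w ∈ (P : Subgroup G) → w ≠ 1 →
      t * w = w * t → Pt t = P := fun t ht P w hwP hw1 htw =>
    h.eq_of_good P (Pt t) ht hwP (hall t ht w (h.pelem_of_mem P hwP) htw) hw1 htw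
  have hequi : ∀ (g t : G), orderOf t = 2 → Pt (g * t * g⁻¹) = g • Pt t := by
    intro g t ht
    refine huniq _ (((MulAut.conj g).orderOf_eq t).trans ht) _ (g * uu t * g⁻¹) ?_
      (fun e => hu1 t ht (conj_eq_one_iff.1 e)) ?_
    · rw [Sylow.coe_subgroup_smul, Subgroup.mem_pointwise_smul_iff_inv_smul_mem]
      simpa [MulAut.smul_def, mul_assoc] using huP t ht
    · calc g * t * g⁻¹ * (g * uu t * g⁻¹) = g * (t * uu t) * g⁻¹ := by group
        _ = g * uu t * g⁻¹ * (g * t * g⁻¹) := by rw [hut t ht]; group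
  have hnorm : ∀ s t : G, orderOf s = 2 → orderOf t = 2 → s * t = t * s →
      s ∈ normalizer ((Pt t : Subgroup G) : Set G) := by
    intro s t _ ht hc
    refine Sylow.smul_eq_iff_mem_normalizer.1 (?_ : s • Pt t = Pt t)
    rw [← hequi s t ht, hc, mul_inv_cancel_right]
  have hinv : ∀ s t : G, orderOf s = 2 → orderOf t = 2 → s * t = t * s → Pt s ≠ Pt t →
      ∀ d ∈ (Pt t : Subgroup G), s * d * s⁻¹ = d⁻¹ := fun s t hs ht hc hne =>
    h.inverts (Pt t) hs (hnorm s t hs ht hc)
      fun d hd hcd => by_contra fun hd1 => hne (huniq s hs (Pt t) d hd hd1 hcd.eq)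
  -- the map is not constant on a Sylow subgroup
  have hnc : ∀ S : Sylow 2 G, ∀ s ∈ (S : Subgroup G), orderOf s = 2 →
      ∃ w ∈ (S : Subgroup G), orderOf w = 2 ∧ Pt w ≠ Pt s := by
    intro S s hsS hs
    by_contra hcon
    push_neg at hcon
    obtain ⟨hsq, x, hxN, hxp, hxt⟩ := h.sylow_facts S
    have hS2 : ∀ w ∈ (S : Subgroup G), w ≠ 1 → orderOf w = 2 := fun w hw hw1 =>
      h.two_pow_invol hw1 (hsq w hw)
    have hxs : Pt (x * s * x⁻¹) = Pt s := by
      have hm : x * s * x⁻¹ ∈ (S : Subgroup G) := (Subgroup.mem_normalizer_iff.1 hxN s).1 hsS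
      exact hcon _ hm (((MulAut.conj x).orderOf_eq s).trans hs)
    rw [hequi x s hs] at hxs
    have hxP : x ∈ (Pt s : Subgroup G) := h.mem_sylow _ hxp (Sylow.smul_eq_iff_mem_normalizer.1 hxs)
    refine h.not_both S (Pt s) hxP hxN (fun hxc => ?_)
      (fun w hw => ?_)
    · have hall' : ∀ y ∈ (S : Subgroup G), y = 1 ∨ y = s := fun y hy => by
        by_cases hy1 : y = 1
        · exact Or.inl hy1
        obtain ⟨i, hi⟩ := hxt s hsS y hy (ne_one_of_inv hs) hy1
        refine Or.inr ?_
        rw [← hi, ← mem_centralizer_iff.1 (pow_mem hxc i) s hsS, mul_inv_cancel_right]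
      have hle : Nat.card (S : Subgroup G) ≤ 2 := by
        let f : Bool → (S : Subgroup G) := fun b => if b then 1 else ⟨s, hsS⟩
        have hf : Function.Surjective f := fun y => by
          rcases hall' y y.2 with h1 | h1
          · exact ⟨true, Subtype.ext h1.symm⟩
          · exact ⟨false, Subtype.ext h1.symm⟩
        simpa using Nat.card_le_card_of_surjective f hf
      have := h.card_sylow S
      have := h.hp.two_le
      omega
    · rcases eq_or_ne w 1 with rfl | hw1
      · exact one_mem _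
      exact hnorm w s (hS2 w hw hw1) hs (h.sylow_comm S hw hsS)
  -- a further element of a Sylow subgroup
  have hthird : ∀ (S : Sylow 2 G) (b c : G), ∃ d ∈ (S : Subgroup G), d ≠ 1 ∧ d ≠ b ∧ d ≠ c := by
    intro S b c
    have h1 : 4 ≤ Nat.card (S : Subgroup G) := by
      rw [h.card_sylow S]
      have h2 := h.hp2
      have h3 := h.hp.two_le
      omega
    by_contra hcon
    push_neg at hcon
    letI : Fintype (S : Subgroup G) := Fintype.ofFinite _
    let T : Finset G := {1, b, c}
    have hT : ∀ d : (S : Subgroup G), (d : G) ∈ T := fun d => by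
      by_cases h2 : (d : G) = 1
      · simp [T, h2]
      by_cases h3 : (d : G) = b
      · simp [T, h3]
      simp [T, hcon d d.2 h2 h3]
    have h4 := Finset.card_le_card_of_injOn (fun d : (S : Subgroup G) => (d : G))
      (s := Finset.univ) (t := T) (fun d _ => hT d) (fun d _ e _ hde => Subtype.ext hde)
    rw [Finset.card_univ, ← Nat.card_eq_fintype_card] at h4
    have h5 : T.card ≤ 3 := Finset.card_le_three
    omega
  -- full: an involution centralizes its Sylow subgroup
  have hfull : ∀ t : G, orderOf t = 2 → ∀ d ∈ (Pt t : Subgroup G), t * d = d * t := by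
    suffices hone : ∃ c, orderOf c = 2 ∧ ∀ d ∈ (Pt c : Subgroup G), c * d = d * c by
      obtain ⟨c, hc, hcd⟩ := hone
      intro t ht d hd
      obtain ⟨g, rfl⟩ := h.inv_conj hc ht
      rw [hequi g c hc, Sylow.coe_subgroup_smul, Subgroup.mem_pointwise_smul_iff_inv_smul_mem] at hd
      have h1 := hcd _ (by simpa [MulAut.smul_def] using hd : g⁻¹ * d * g ∈ (Pt c : Subgroup G))
      calc g * c * g⁻¹ * d = g * (c * (g⁻¹ * d * g)) * g⁻¹ := by group
        _ = g * (g⁻¹ * d * g * c) * g⁻¹ := by rw [h1]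
        _ = d * (g * c * g⁻¹) := by group
    obtain ⟨S, hS⟩ := h.exists_sylow_mem ht₀
    obtain ⟨s, hsS, hs, hne⟩ := hnc S t₀ hS ht₀
    obtain ⟨c, hcS, hc1, hct, hcs⟩ := hthird S t₀ s
    have hc : orderOf c = 2 := h.two_pow_invol hc1 ((h.sylow_facts S).1 c hcS)
    have hcom := fun {a b} (ha : a ∈ (S : Subgroup G)) (hb : b ∈ (S : Subgroup G)) => h.sylow_comm S ha hb
    -- two involutions outside one class
    have main : ∀ (e b w : G), orderOf e = 2 → orderOf b = 2 → orderOf w = 2 → e ∈ (S : Subgroup G) →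
        b ∈ (S : Subgroup G) → w ∈ (S : Subgroup G) → e ≠ b → Pt e ≠ Pt w → Pt b ≠ Pt w →
        ∃ c, orderOf c = 2 ∧ ∀ d ∈ (Pt c : Subgroup G), c * d = d * c := by
      intro e b w he hb hw heS hbS hwS hne h1 h2
      have hcen := mul_centralizes (Pt w) (hinv e w he hw (hcom heS hwS) h1)
        (hinv b w hb hw (hcom hbS hwS) h2)
      have heb : orderOf (e * b) = 2 := h.two_pow_invol
        (fun e1 => hne (by
          rw [eq_inv_of_mul_eq_one_left e1]
          exact inv_eq_of_mul_eq_one_right ((h.sylow_facts S).1 b hbS)))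
        ((h.sylow_facts S).1 _ (mul_mem heS hbS))
      have hu2 := huP w hw
      have hPeb : Pt (e * b) = Pt w := huniq _ heb (Pt w) (uu w) hu2 (hu1 w hw)
        (mem_centralizer_iff.1 hcen _ hu2).symm
      exact ⟨e * b, heb, fun d hd => (mem_centralizer_iff.1 hcen d (hPeb ▸ hd)).symm⟩
    by_cases hcase : Pt c = Pt t₀
    · exact main t₀ c s ht₀ hc hs hS hcS hsS (Ne.symm hct) (Ne.symm hne) (fun e => hne (e.symm.trans hcase))
    · exact main s c t₀ hs hc ht₀ hsS hcS hS (Ne.symm hcs) hne hcase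
  -- injectivity on commuting involutions
  have hinj : ∀ s t : G, orderOf s = 2 → orderOf t = 2 → s * t = t * s → Pt s = Pt t → s = t := by
    intro s t hs ht hc hPt
    by_contra hne
    obtain ⟨S, hS⟩ : ∃ S : Sylow 2 G, closure ({s, t} : Set G) ≤ (S : Subgroup G) := by
      refine IsPGroup.exists_le_sylow ?_
      rw [IsPGroup.iff_orderOf]
      rintro ⟨z, hz⟩
      have hz2 : z * z = 1 := by
        haveI := Subgroup.isMulCommutative_closure (k := ({s, t} : Set G)) (by
          rintro _ (rfl | rfl) _ (rfl | rfl) <;> first | rfl | exact hc | exact hc.symm)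
        induction hz using Subgroup.closure_induction with
        | mem w hw =>
          rcases hw with rfl | rfl
          · rw [← sq, ← hs, pow_orderOf_eq_one]
          · rw [← sq, ← ht, pow_orderOf_eq_one]
        | one => simp
        | mul x y hx hy ihx ihy =>
          have := Subgroup.mul_comm_of_mem_isMulCommutative (closure ({s, t} : Set G)) hx hy
          calc x * y * (x * y) = x * (y * x) * y := by group
            _ = (x * x) * (y * y) := by rw [← this]; group
            _ = 1 := by rw [ihx, ihy, one_mul]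
        | inv x _ ih => rw [← mul_inv_rev, ih, inv_one]
      obtain ⟨k, -, hk⟩ := (Nat.dvd_prime_pow Nat.prime_two).1
        (orderOf_dvd_of_pow_eq_one (x := z) (n := 2 ^ 1) (by rw [pow_one, sq]; exact hz2))
      exact ⟨k, by rw [Subgroup.orderOf_mk, hk]⟩
    have hsS : s ∈ (S : Subgroup G) := hS (subset_closure (by simp))
    have htS : t ∈ (S : Subgroup G) := hS (subset_closure (by simp))
    obtain ⟨w, hwS, hw, hwne⟩ := hnc S s hsS hs
    have hst1 : s * t ≠ 1 := fun e1 => hne (by
      rw [eq_inv_of_mul_eq_one_left e1]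
      exact inv_eq_of_mul_eq_one_right ((h.sylow_facts S).1 t htS))
    have hst : orderOf (s * t) = 2 :=
      h.two_pow_invol hst1 ((h.sylow_facts S).1 _ (mul_mem hsS htS))
    have h1 := mul_centralizes (Pt w)
      (hinv s w hs hw (h.sylow_comm S hsS hwS) (Ne.symm hwne))
      (hinv t w ht hw (h.sylow_comm S htS hwS) (fun e => hwne (hPt.trans e).symm))
    have h2 : Pt (s * t) = Pt w := huniq _ hst (Pt w) (uu w) (huP w hw) (hu1 w hw)
      (mem_centralizer_iff.1 h1 _ (huP w hw)).symm
    have h3 : Pt (s * t) = Pt s := by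
      refine huniq _ hst (Pt s) (uu s) (huP s hs) (hu1 s hs) ?_
      have h4 := hfull t ht (uu s) (hPt ▸ huP s hs)
      calc s * t * uu s = s * (uu s * t) := by rw [mul_assoc, h4]
        _ = uu s * (s * t) := by rw [← mul_assoc, hut s hs, mul_assoc]
    exact hwne (h2.symm.trans h3)
  -- centralizing the same Sylow subgroup
  have heq : ∀ s t : G, orderOf s = 2 → orderOf t = 2 → ∀ P : Sylow p G,
      (∀ d ∈ (P : Subgroup G), s * d = d * s) → (∀ d ∈ (P : Subgroup G), t * d = d * t) → s = t := by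
    intro s t hs ht P hsP htP
    have hP1 : ∀ r : G, orderOf r = 2 → (∀ d ∈ (P : Subgroup G), r * d = d * r) → Pt r = P := by
      intro r hr hrP
      obtain ⟨z, hz, hz1⟩ := (Subgroup.bot_or_exists_ne_one (P : Subgroup G)).resolve_left
        (P.ne_bot_of_dvd_card h.hpG)
      exact huniq r hr P z hz hz1 (hrP z hz)
    by_cases hc : s * t = t * s
    · exact hinj s t hs ht hc ((hP1 s hs hsP).trans (hP1 t ht htP).symm)
    exfalso
    obtain ⟨y, hy, hy1, hyp, hsy, -⟩ := h.exists_inverted hs ht hc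
    have hyN : y ∈ normalizer ((P : Subgroup G) : Set G) := by
      have hN : ∀ r : G, (∀ d ∈ (P : Subgroup G), r * d = d * r) →
          r ∈ normalizer ((P : Subgroup G) : Set G) := fun r hr =>
        mem_normalizer_of_conj fun d hd => by rw [hr d hd, mul_inv_cancel_right]; exact hd
      exact (zpowers_le.2 (mul_mem (hN s hsP) (hN t htP))) hy
    have hyP := h.mem_sylow P hyp hyN
    rw [hsP y hyP, mul_inv_cancel_right] at hsy
    exact hy1 (h.eq_one_of_inv_eq hyp hsy.symm)
  -- the commuting graph is a friendship graph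
  have h12 : ∀ s t : G, orderOf s = 2 → orderOf t = 2 → s ≠ t → s * t = t * s →
      orderOf (s * t) = 2 ∧ s * t ≠ s ∧ s * t ≠ t ∧
        ∀ z : G, orderOf z = 2 → z * s = s * z → z * t = t * z → z ≠ s → z ≠ t → z = s * t := by
    intro s t hs ht hne hc
    have hss : s * s = 1 := by rw [← sq, ← hs, pow_orderOf_eq_one]
    have htt : t * t = 1 := by rw [← sq, ← ht, pow_orderOf_eq_one]
    have ho : orderOf (s * t) = 2 := h.two_pow_invol
      (fun e => hne (by rw [eq_inv_of_mul_eq_one_left e]; exact inv_eq_of_mul_eq_one_right htt))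
      (by calc s * t * (s * t) = s * (t * s) * t := by group
            _ = (s * s) * (t * t) := by rw [← hc]; group
            _ = 1 := by rw [hss, htt, one_mul])
    refine ⟨ho, fun e => ne_one_of_inv ht (by simpa using e), fun e => ne_one_of_inv hs (by simpa using e),
      fun z hz hzs hzt hzns hznt => ?_⟩
    have i1 := hinv z t hz ht hzt (fun e => hznt (hinj z t hz ht hzt e))
    have i2 := hinv s t hs ht hc (fun e => hne (hinj s t hs ht hc e))
    have hzz : z * z = 1 := by rw [← sq, ← hz, pow_orderOf_eq_one]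
    have hzso : orderOf (z * s) = 2 := h.two_pow_invol
      (fun e => hzns (by rw [eq_inv_of_mul_eq_one_left e]; exact inv_eq_of_mul_eq_one_right hss))
      (by calc z * s * (z * s) = z * (s * z) * s := by group
            _ = (z * z) * (s * s) := by rw [← hzs]; group
            _ = 1 := by rw [hzz, hss, one_mul])
    have hcz := mul_centralizes (Pt t) i1 i2
    have e := heq (z * s) t hzso ht (Pt t) (fun d hd => (mem_centralizer_iff.1 hcz d hd).symm) (hfull t ht)
    calc z = z * (s * s) := by rw [hss, mul_one]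
      _ = z * s * s := (mul_assoc _ _ _).symm
      _ = t * s := by rw [e]
      _ = s * t := hc.symm
  letI : Fintype {s : G // orderOf s = 2} := Fintype.ofFinite _
  haveI : Nonempty {s : G // orderOf s = 2} := ⟨⟨t₀, ht₀⟩⟩
  let R : {s : G // orderOf s = 2} → {s : G // orderOf s = 2} → Prop := fun s t =>
    s.1 ≠ t.1 ∧ s.1 * t.1 = t.1 * s.1
  have hRc : ∀ g s t : G, (g * s * g⁻¹ ≠ g * t * g⁻¹ ∧ g * s * g⁻¹ * (g * t * g⁻¹) = g * t * g⁻¹ * (g * s * g⁻¹)) ↔
      (s ≠ t ∧ s * t = t * s) := fun g s t => by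
    have e1 : ∀ x y : G, g * x * g⁻¹ * (g * y * g⁻¹) = g * (x * y) * g⁻¹ := fun x y => by group
    rw [e1, e1]
    simp only [ne_eq, mul_left_inj, mul_right_inj]
  let k := (Finset.univ.filter (R ⟨t₀, ht₀⟩)).card
  have hdeg : ∀ s, (Finset.univ.filter (R s)).card = k := by
    rintro ⟨s, hs⟩
    obtain ⟨g, hg⟩ := h.inv_conj ht₀ hs
    let e : {s : G // orderOf s = 2} ≃ {s : G // orderOf s = 2} :=
      (MulAut.conj g).toEquiv.subtypeEquiv fun a => by
        show _ ↔ orderOf (g * a * g⁻¹) = 2
        rw [(MulAut.conj g).orderOf_eq a |> fun e => (show orderOf (g * a * g⁻¹) = orderOf a from e)]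
    refine (Finset.card_equiv e fun r => ?_).symm
    simp only [R, Finset.mem_filter, Finset.mem_univ, true_and]
    show _ ↔ s ≠ g * r.1 * g⁻¹ ∧ s * (g * r.1 * g⁻¹) = g * r.1 * g⁻¹ * s
    rw [← hg, hRc]
  have hone : ∀ x y, x ≠ y → ∃! c, R x c ∧ R y c := by
    rintro ⟨s, hs⟩ ⟨t, ht⟩ hne
    replace hne : s ≠ t := fun e => hne (Subtype.ext e)
    by_cases hc : s * t = t * s
    · obtain ⟨ho, hns, hnt, hu⟩ := h12 s t hs ht hne hc
      refine ⟨⟨s * t, ho⟩, ⟨⟨Ne.symm hns, ?_⟩, ⟨Ne.symm hnt, ?_⟩⟩, ?_⟩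
      · show s * (s * t) = s * t * s
        rw [mul_assoc, ← hc]
      · show t * (s * t) = s * t * t
        rw [← mul_assoc, ← hc]
      · rintro ⟨z, hz⟩ ⟨⟨hzs, hzs'⟩, ⟨hzt, hzt'⟩⟩
        exact Subtype.ext (hu z hz hzs'.symm hzt'.symm (Ne.symm hzs) (Ne.symm hzt))
    · obtain ⟨y, -, hy1, hyp, hsy, hty⟩ := h.exists_inverted hs ht hc
      obtain ⟨P, hP⟩ := h.exists_sylow_p hyp
      obtain ⟨g, hg⟩ := MulAction.exists_smul_eq G (Pt t₀) P
      set w := g * t₀ * g⁻¹ with hwdef
      have hw : orderOf w = 2 := ((MulAut.conj g).orderOf_eq t₀).trans ht₀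
      have hwP : ∀ d ∈ (P : Subgroup G), w * d = d * w := fun d hd =>
        hfull w hw d (by rw [hwdef, hequi g t₀ ht₀, hg]; exact hd)
      have hfixw : ∀ r : G, orderOf r = 2 → r * y * r⁻¹ = y⁻¹ → r ≠ w ∧ r * w = w * r := by
        intro r hr hry
        have hrP := (h.inverted P hr hP hy1 hry).1
        refine ⟨fun e => hy1 (h.eq_one_of_inv_eq hyp ?_), ?_⟩
        · rw [← hry, e, hwP y hP, mul_inv_cancel_right]
        · have h1 := heq (r * w * r⁻¹) w (((MulAut.conj r).orderOf_eq w).trans hw) hw P (fun d hd => by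
            have hd' := (Subgroup.mem_normalizer_iff''.1 hrP d).1 hd
            calc r * w * r⁻¹ * d = r * (w * (r⁻¹ * d * r)) * r⁻¹ := by group
              _ = r * ((r⁻¹ * d * r) * w) * r⁻¹ := by rw [hwP _ hd']
              _ = d * (r * w * r⁻¹) := by group) hwP
          exact mul_inv_eq_iff_eq_mul.1 h1
      refine ⟨⟨w, hw⟩, ⟨hfixw s hs hsy, hfixw t ht hty⟩, ?_⟩
      rintro ⟨z, hz⟩ ⟨⟨hzs, hzs'⟩, ⟨hzt, hzt'⟩⟩
      obtain ⟨⟨hws, hws'⟩, ⟨hwt, hwt'⟩⟩ := And.intro (hfixw s hs hsy) (hfixw t ht hty)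
      refine Subtype.ext ?_
      show z = w
      by_contra hzw
      by_cases hzwc : w * z = z * w
      · obtain ⟨-, -, -, hu⟩ := h12 w z hw hz (Ne.symm hzw) hzwc
        exact hne ((hu s hs hws' hzs' hws hzs).trans (hu t ht hwt' hzt' hwt hzt).symm)
      · obtain ⟨y', hy', hy'1, hy'p, -, -⟩ := h.exists_inverted hw hz hzwc
        have hcom : ∀ r : G, r * w = w * r → r * z = z * r → r * y' = y' * r := fun r h1 h2 => by
          obtain ⟨i, rfl⟩ := mem_zpowers_iff.1 hy'
          exact (((show Commute r w from h1).mul_right h2).zpow_right i).eq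
        have e1 := hcom s hws' hzs'
        have e2 := hcom t hwt' hzt'
        obtain ⟨P', hP'⟩ := h.exists_sylow_p hy'p
        have es : Pt s = P' := huniq s hs P' y' hP' hy'1 e1
        have et : Pt t = P' := huniq t ht P' y' hP' hy'1 e2
        exact hne (heq s t hs ht P' (fun d hd => hfull s hs d (es.symm ▸ hd))
          (fun d hd => hfull t ht d (et.symm ▸ hd)))
  have hk : k ≤ 2 := friendship_regular_degree_le_two R
    (fun x y hxy => ⟨Ne.symm hxy.1, hxy.2.symm⟩) (fun x hx => hx.1 rfl) k hdeg hone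
  -- a third neighbour
  obtain ⟨S, hS⟩ := h.exists_sylow_mem ht₀
  obtain ⟨b, hbS, hb1, hbt, -⟩ := hthird S t₀ t₀
  have hb : orderOf b = 2 := h.two_pow_invol hb1 ((h.sylow_facts S).1 b hbS)
  obtain ⟨s, hs, hst⟩ : ∃ s : G, orderOf s = 2 ∧ s * t₀ ≠ t₀ * s := by
    by_contra hcon
    push_neg at hcon
    have hcl : closure {s : G | orderOf s = 2} ≤ centralizer ({t₀} : Set G) := by
      rw [closure_le]
      exact fun s hs => mem_centralizer_singleton_iff.2 (hcon s hs)
    have hn : (closure {s : G | orderOf s = 2}).Normal := ⟨fun x hx g => by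
      have hle : closure {s : G | orderOf s = 2} ≤
          (closure {s : G | orderOf s = 2}).comap (MulAut.conj g).toMonoidHom := by
        rw [Subgroup.closure_le]
        intro z hz
        exact Subgroup.subset_closure (((MulAut.conj g).orderOf_eq z).trans hz)
      simpa using hle hx⟩
    have := h.simple
    rcases hn.eq_bot_or_eq_top with e | e
    · exact ne_one_of_inv ht₀ (mem_bot.1 (e ▸ subset_closure ht₀))
    · exact h.centralizer_ne_top (ne_one_of_inv ht₀) (top_le_iff.1 (e ▸ hcl))
  obtain ⟨⟨w, hw⟩, ⟨⟨hsw, hsw'⟩, ⟨htw, htw'⟩⟩, -⟩ :=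
    hone ⟨s, hs⟩ ⟨t₀, ht₀⟩ (fun e => hst (by rw [show s = t₀ from congrArg Subtype.val e]))
  replace hsw' : s * w = w * s := hsw'
  replace htw' : t₀ * w = w * t₀ := htw'
  obtain ⟨ho, hn1, hn2, -⟩ := h12 t₀ w ht₀ hw htw htw'
  -- three neighbours of `w`
  have h3 : 3 ≤ (Finset.univ.filter (R ⟨w, hw⟩)).card := by
    let T : Finset {s : G // orderOf s = 2} := {⟨t₀, ht₀⟩, ⟨t₀ * w, ho⟩, ⟨s, hs⟩}
    have hT : T.card = 3 := by
      refine Finset.card_eq_three.2 ⟨_, _, _, ?_, ?_, ?_, rfl⟩
      · exact fun e => hn1 (congrArg Subtype.val e).symm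
      · exact fun e => hst (by rw [← show t₀ = s from congrArg Subtype.val e])
      · intro e
        apply hst
        have e' : t₀ * w = s := congrArg Subtype.val e
        calc s * t₀ = t₀ * (w * t₀) := by rw [← e', mul_assoc]
          _ = t₀ * s := by rw [← htw', e']
    rw [← hT]
    refine Finset.card_le_card fun r hr => ?_
    simp only [T, Finset.mem_insert, Finset.mem_singleton] at hr
    rw [Finset.mem_filter]
    refine ⟨Finset.mem_univ _, ?_⟩
    rcases hr with rfl | rfl | rfl
    · exact ⟨Ne.symm htw, htw'.symm⟩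
    · refine ⟨Ne.symm hn2, ?_⟩
      show w * (t₀ * w) = t₀ * w * w
      rw [← mul_assoc, ← htw']
    · exact ⟨Ne.symm hsw, hsw'.symm⟩
  rw [hdeg] at h3
  omega

end Cfsg.Agent.H74.Mixed.Cfg
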