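import Cfsg.Agent.H74.MixedBasic
import Cfsg.Agent.Cores.Fitting
import Cfsg.Agent.S0144
import Cfsg.Agent.H61.CoreClosure

/-!
The extreme case `p = 2^a - 1`: local structure of a putative simple group.
-/

namespace Cfsg.Agent.H74.Mixed

open Subgroup

universe u

theorem twoPrimes_card {H : Type*} [Group H] [Finite H] {p : ℕ} (hp : p.Prime)
    (h : TwoPrimes p 2 H) : ∃ i j, Nat.card H = p ^ i * 2 ^ j := by
  obtain ⟨i, m, hm, hc⟩ := Nat.exists_eq_pow_mul_and_not_dvd (Nat.card_pos (α := H)).ne' p hp.ne_one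
  have hm0 : m ≠ 0 := fun h0 => Nat.card_pos.ne' (by rw [hc, h0, mul_zero])
  refine ⟨i, m.primeFactorsList.length, ?_⟩
  rw [hc]
  congr 1
  refine Nat.eq_prime_pow_of_unique_prime_dvd hm0 fun {d} hd hdm => ?_
  rcases h d hd (hc ▸ hdm.mul_left _) with h1 | h1
  · exact absurd (h1 ▸ hdm) hm
  · exact h1

/-- The data of the extreme case in a simple group. -/
structure Cfg (p a : ℕ) (G : Type u) [Group G] : Prop where
  hp : p.Prime
  hp2 : p ≠ 2
  hq : 2 ^ a = p + 1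
  hfac : (Nat.card G).factorization 2 = a
  hpG : p ∣ Nat.card G
  simple : IsSimpleGroup G
  nonab : ¬ ∀ x y : G, x * y = y * x
  hA : ∀ H : Subgroup G, H ≠ ⊤ → 2 ∣ Nat.card H → TwoPrimes p 2 H
  hab : ∀ P : Sylow p G, IsMulCommutative (P : Subgroup G)
  hact : ∃ (U : Subgroup G) (g : G), IsPGroup 2 U ∧ g ∈ normalizer (U : Set G) ∧
    (∃ k, orderOf g = p ^ k) ∧ g ∉ centralizer (U : Set G)

namespace Cfg

variable {G : Type u} [Group G] [Finite G] {p a : ℕ}

theorem card_sylow (h : Cfg p a G) (S : Sylow 2 G) : Nat.card (S : Subgroup G) = p + 1 := by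
  haveI : Fact (Nat.Prime 2) := ⟨Nat.prime_two⟩
  rw [S.card_eq_multiplicity, h.hfac, h.hq]

/-- Sylow `2`-subgroups have exponent two and have a transitive `p`-element. -/
theorem sylow_facts (h : Cfg p a G) (S : Sylow 2 G) :
    (∀ y ∈ (S : Subgroup G), y * y = 1) ∧
    ∃ x ∈ normalizer ((S : Subgroup G) : Set G), (∃ k, orderOf x = p ^ k) ∧
      ∀ b ∈ (S : Subgroup G), ∀ c ∈ (S : Subgroup G), b ≠ 1 → c ≠ 1 →
        ∃ i : ℕ, x ^ i * b * (x ^ i)⁻¹ = c := by
  haveI : Fact (Nat.Prime 2) := ⟨Nat.prime_two⟩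
  haveI : Fact p.Prime := ⟨h.hp⟩
  obtain ⟨U, g, hU, hg, ⟨k, hk⟩, hnc⟩ := h.hact
  obtain ⟨T, hT⟩ := hU.exists_le_sylow
  obtain ⟨hle, htr⟩ := exists_transitive hg ⟨k, hk⟩ hnc
  have hUT : U = (T : Subgroup G) := Subgroup.eq_of_le_of_card_ge hT (h.card_sylow T ▸ hle)
  subst hUT
  obtain ⟨x, hx, hxN, hxt⟩ := htr (h.card_sylow T)
  obtain ⟨c, rfl⟩ := MulAction.exists_smul_eq G T S
  have hsq : ∀ y ∈ (T : Subgroup G), y * y = 1 := by
    intro y hy
    rcases eq_or_ne y 1 with rfl | hy1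
    · exact mul_one 1
    have h2 : 2 ∣ Nat.card (T : Subgroup G) := by
      rw [h.card_sylow T]
      exact even_iff_two_dvd.1 (h.hp.odd_of_ne_two h.hp2).add_one
    obtain ⟨z, hz⟩ := exists_prime_orderOf_dvd_card' 2 h2
    have hz1 : (z : G) ≠ 1 := fun e => by
      rw [← Subgroup.orderOf_coe, e, orderOf_one] at hz
      norm_num at hz
    obtain ⟨i, hi⟩ := hxt z z.2 y hy hz1 hy1
    have hzz : (z : G) * z = 1 := by
      have := pow_orderOf_eq_one (z : G)
      rwa [Subgroup.orderOf_coe, hz, sq] at this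
    rw [← hi]
    calc x ^ i * z * (x ^ i)⁻¹ * (x ^ i * z * (x ^ i)⁻¹) = x ^ i * ((z : G) * z) * (x ^ i)⁻¹ := by group
      _ = 1 := by rw [hzz]; group
  have hmem : ∀ y, y ∈ ((c • T : Sylow 2 G) : Subgroup G) → c⁻¹ * y * c ∈ (T : Subgroup G) := by
    intro y hy
    rw [Sylow.coe_subgroup_smul, Subgroup.mem_pointwise_smul_iff_inv_smul_mem] at hy
    simpa [MulAut.smul_def] using hy
  refine ⟨fun y hy => ?_, c * x * c⁻¹, ?_, ?_, fun b hb d hd hb1 hd1 => ?_⟩
  · have := hsq _ (hmem y hy)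
    calc y * y = c * ((c⁻¹ * y * c) * (c⁻¹ * y * c)) * c⁻¹ := by group
      _ = 1 := by rw [this]; group
  · refine mem_normalizer_of_conj fun y hy => ?_
    rw [Sylow.coe_subgroup_smul, Subgroup.mem_pointwise_smul_iff_inv_smul_mem]
    simp only [MulAut.smul_def, ← map_inv, MulAut.conj_apply, inv_inv]
    have := (Subgroup.mem_normalizer_iff.1 hxN _).1 (hmem y hy)
    convert this using 1
    group
  · obtain ⟨j, -, hj⟩ := (Nat.dvd_prime_pow h.hp).1 (hk ▸ orderOf_dvd_of_mem_zpowers hx)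
    exact ⟨j, ((MulAut.conj c).orderOf_eq x).trans hj⟩
  · obtain ⟨i, hi⟩ := hxt _ (hmem b hb) _ (hmem d hd)
      (fun e => hb1 (by calc b = c * (c⁻¹ * b * c) * c⁻¹ := by group
                         _ = 1 := by rw [e]; group))
      (fun e => hd1 (by calc d = c * (c⁻¹ * d * c) * c⁻¹ := by group
                         _ = 1 := by rw [e]; group))
    refine ⟨i, ?_⟩
    rw [conj_pow]
    calc c * x ^ i * c⁻¹ * b * (c * x ^ i * c⁻¹)⁻¹ = c * (x ^ i * (c⁻¹ * b * c) * (x ^ i)⁻¹) * c⁻¹ := by group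
      _ = d := by rw [hi]; group

theorem sylow_comm (h : Cfg p a G) (S : Sylow 2 G) {y z : G} (hy : y ∈ (S : Subgroup G))
    (hz : z ∈ (S : Subgroup G)) : y * z = z * y := by
  have e := (h.sylow_facts S).1
  have h1 := e _ (mul_mem hy hz)
  calc y * z = (y * z)⁻¹ := eq_inv_of_mul_eq_one_left h1
    _ = z⁻¹ * y⁻¹ := mul_inv_rev y z
    _ = z * y := by
      rw [inv_eq_of_mul_eq_one_right (e z hz), inv_eq_of_mul_eq_one_right (e y hy)]

/-- A `2`-element is an involution or trivial. -/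
theorem two_elem (h : Cfg p a G) {y : G} (hy : ∃ k, orderOf y = 2 ^ k) : y * y = 1 := by
  haveI : Fact (Nat.Prime 2) := ⟨Nat.prime_two⟩
  obtain ⟨k, hk⟩ := hy
  obtain ⟨S, hS⟩ := (IsPGroup.of_card (G := zpowers y) (p := 2) (n := k)
    (by rw [Nat.card_zpowers, hk])).exists_le_sylow
  exact (h.sylow_facts S).1 y (hS (mem_zpowers y))

theorem exists_sylow_mem (h : Cfg p a G) {s : G} (hs : orderOf s = 2) :
    ∃ S : Sylow 2 G, s ∈ (S : Subgroup G) := by
  haveI : Fact (Nat.Prime 2) := ⟨Nat.prime_two⟩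
  obtain ⟨S, hS⟩ := (IsPGroup.of_card (G := zpowers s) (p := 2) (n := 1)
    (by rw [Nat.card_zpowers, hs, pow_one])).exists_le_sylow
  exact ⟨S, hS (mem_zpowers s)⟩

/-- All involutions are conjugate. -/
theorem inv_conj (h : Cfg p a G) {s t : G} (hs : orderOf s = 2) (ht : orderOf t = 2) :
    ∃ g : G, g * s * g⁻¹ = t := by
  haveI : Fact (Nat.Prime 2) := ⟨Nat.prime_two⟩
  obtain ⟨S, hS⟩ := h.exists_sylow_mem hs
  obtain ⟨T, hT⟩ := h.exists_sylow_mem ht
  obtain ⟨c, rfl⟩ := MulAction.exists_smul_eq G S T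
  rw [Sylow.coe_subgroup_smul, Subgroup.mem_pointwise_smul_iff_inv_smul_mem] at hT
  replace hT : c⁻¹ * t * c ∈ (S : Subgroup G) := by simpa [MulAut.smul_def] using hT
  obtain ⟨-, x, -, -, hx⟩ := h.sylow_facts S
  have h1 : ∀ z : G, orderOf z = 2 → z ≠ 1 := fun z hz e => by
    rw [e, orderOf_one] at hz; norm_num at hz
  obtain ⟨i, hi⟩ := hx s hS _ hT (h1 s hs) (fun e => h1 t ht (by
    calc t = c * (c⁻¹ * t * c) * c⁻¹ := by group
      _ = 1 := by rw [e]; group))
  refine ⟨c * x ^ i, ?_⟩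
  calc c * x ^ i * s * (c * x ^ i)⁻¹ = c * (x ^ i * s * (x ^ i)⁻¹) * c⁻¹ := by group
    _ = t := by rw [hi]; group

theorem normalizer_ne_top (h : Cfg p a G) {K : Subgroup G} (hK : K ≠ ⊥) (hK' : K ≠ ⊤) :
    normalizer (K : Set G) ≠ ⊤ := fun e => by
  have := h.simple
  exact ((normalizer_eq_top_iff.1 e).eq_bot_or_eq_top).elim hK hK'

theorem ne_top_of_forall_comm (h : Cfg p a G) {K : Subgroup G}
    (hK : ∀ x ∈ K, ∀ y ∈ K, x * y = y * x) : K ≠ ⊤ := fun e =>
  h.nonab fun x y => hK x (e ▸ mem_top x) y (e ▸ mem_top y)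

theorem zpowers_normalizer_ne_top (h : Cfg p a G) {y : G} (hy : y ≠ 1) :
    normalizer (zpowers y : Set G) ≠ ⊤ := by
  refine h.normalizer_ne_top (by simpa [zpowers_eq_bot]) (h.ne_top_of_forall_comm ?_)
  rintro _ ⟨i, rfl⟩ _ ⟨j, rfl⟩
  exact zpow_mul_comm y i j

theorem centralizer_ne_top (h : Cfg p a G) {y : G} (hy : y ≠ 1) :
    centralizer ({y} : Set G) ≠ ⊤ := fun e => by
  refine h.zpowers_normalizer_ne_top hy (eq_top_iff.2 fun g _ => ?_)
  have hg : g * y = y * g := mem_centralizer_singleton_iff.1 (e ▸ mem_top g : g ∈ centralizer ({y} : Set G))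
  refine mem_normalizer_of_conj ?_
  rintro _ ⟨i, rfl⟩
  exact ⟨i, by rw [(show Commute g y from hg).zpow_right i |>.eq, mul_inv_cancel_right]⟩

theorem sylow_normalizer_ne_top (h : Cfg p a G) (P : Sylow p G) :
    normalizer ((P : Subgroup G) : Set G) ≠ ⊤ := by
  haveI : Fact p.Prime := ⟨h.hp⟩
  refine h.normalizer_ne_top (P.ne_bot_of_dvd_card h.hpG) (h.ne_top_of_forall_comm ?_)
  intro x hx y hy
  exact congrArg Subtype.val ((h.hab P).is_comm.comm ⟨x, hx⟩ ⟨y, hy⟩)

/-- A `p`-element normalizing a `2`-subgroup with fewer than `p + 1` elements centralizes it. -/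
theorem eq_sylow_of_act (h : Cfg p a G) {W : Subgroup G} (hW : IsPGroup 2 W) {g : G}
    (hg : g ∈ normalizer (W : Set G)) (hgp : ∃ k, orderOf g = p ^ k)
    (hnc : g ∉ centralizer (W : Set G)) : ∃ S : Sylow 2 G, W = (S : Subgroup G) := by
  haveI : Fact (Nat.Prime 2) := ⟨Nat.prime_two⟩
  haveI : Fact p.Prime := ⟨h.hp⟩
  obtain ⟨S, hS⟩ := hW.exists_le_sylow
  exact ⟨S, Subgroup.eq_of_le_of_card_ge hS (h.card_sylow S ▸ (exists_transitive hg hgp hnc).1)⟩

/-- A proper subgroup of even order containing a Sylow `p`-subgroup normalizes it or has a normal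
Sylow `2`-subgroup. -/
theorem sylow_or (h : Cfg p a G) (P : Sylow p G) {H : Subgroup G} (hH : H ≠ ⊤)
    (h2 : 2 ∣ Nat.card H) (hPH : (P : Subgroup G) ≤ H) :
    H ≤ normalizer ((P : Subgroup G) : Set G) ∨
      ∃ S : Sylow 2 G, (S : Subgroup G) ≤ H ∧ H ≤ normalizer ((S : Subgroup G) : Set G) := by
  haveI : Fact (Nat.Prime 2) := ⟨Nat.prime_two⟩
  haveI : Fact p.Prime := ⟨h.hp⟩
  obtain ⟨i, j, hcard⟩ := twoPrimes_card h.hp (h.hA H hH h2)
  haveI : Group.IsSolvable H := S0144.result p 2 i j h.hp Nat.prime_two hcard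
  haveI hn2 : (Cfsg.pCore 2 H).Normal := Cfsg.pCore_normal 2 H
  set W := (Cfsg.pCore 2 H).map H.subtype with hWdef
  have hWH : W ≤ H := map_subtype_le _
  have hHW : H ≤ normalizer (W : Set G) := fun g hg => mem_normalizer_of_conj (by
    rintro _ ⟨z, hz, rfl⟩
    exact ⟨⟨g, hg⟩ * z * ⟨g, hg⟩⁻¹, hn2.conj_mem z hz _, rfl⟩)
  by_cases hc : (P : Subgroup G) ≤ centralizer (W : Set G)
  · refine Or.inl ?_
    set P' := (P : Subgroup G).subgroupOf H with hP'
    have hP'p : IsPGroup p P' := P.isPGroup'.comap_subtype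
    have hcoreP : Cfsg.pCore p H ≤ P' := by
      have := Cores.pCore_le_sylow (P.subtype hPH)
      rwa [Sylow.coe_subtype] at this
    have hF : fittingSubgroup H ≤ centralizer (P' : Set H) := by
      rw [Cores.iSup_pCore_eq_fittingSubgroup]
      refine iSup_le fun r => fun z hz => ?_
      haveI := Fact.mk r.2
      rw [mem_centralizer_iff]
      intro w hw
      by_cases hrp : (r : ℕ) = p
      · rw [hrp] at hz
        exact Subtype.ext (congrArg Subtype.val ((h.hab P).is_comm.comm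
          ⟨(w : G), hw⟩ ⟨(z : G), hcoreP hz⟩) :)
      by_cases hr2 : (r : ℕ) = 2
      · rw [hr2] at hz
        exact Subtype.ext (mem_centralizer_iff.1 (hc hw) z ⟨z, hz, rfl⟩).symm
      · obtain ⟨k, hk⟩ := IsPGroup.iff_orderOf.1 (Cores.pCore_isPGroup (p := (r : ℕ)) (G := H)) ⟨z, hz⟩
        rcases Nat.eq_zero_or_pos k with rfl | hk0
        · rw [pow_zero, orderOf_eq_one_iff] at hk
          rw [show z = 1 from congrArg Subtype.val hk, mul_one, one_mul]
        · rw [Subgroup.orderOf_mk] at hk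
          rcases h.hA H hH h2 r r.2 ((dvd_pow_self _ hk0.ne').trans (hk ▸ orderOf_dvd_natCard z))
            with h1 | h1
          · exact absurd h1 hrp
          · exact absurd h1 hr2
    have h3 : P' ≤ fittingSubgroup H :=
      le_trans (Subgroup.le_centralizer_iff.1 hF) Cores.centralizer_fittingSubgroup_le
    have h4 : P' ≤ Cfsg.pCore p H :=
      Cores.le_pCore_of_le_sup hP'p (h3.trans (Cores.iSup_pCore_eq_fittingSubgroup.le.trans
        (Cores.iSup_pCore_le_sup p)))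
    intro g hg
    refine mem_normalizer_of_conj fun z hz => ?_
    exact hcoreP ((Cfsg.pCore_normal p H).conj_mem _ (h4 (show (⟨z, hPH hz⟩ : H) ∈ P' from hz)) ⟨g, hg⟩)
  · obtain ⟨g, hg, hgc⟩ := SetLike.not_le_iff_exists.1 hc
    obtain ⟨k, hk⟩ := IsPGroup.iff_orderOf.1 P.isPGroup' ⟨g, hg⟩
    rw [Subgroup.orderOf_mk] at hk
    obtain ⟨S, hS⟩ := h.eq_sylow_of_act (Cores.pCore_isPGroup.map _) (hHW (hPH hg)) ⟨k, hk⟩ hgc
    exact Or.inr ⟨S, hS ▸ hWH, hS ▸ hHW⟩

/-- A `p`-subgroup normalizing a Sylow `p`-subgroup lies in it. -/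
theorem le_sylow (_h : Cfg p a G) (P : Sylow p G) {R : Subgroup G} (hR : IsPGroup p R)
    (hle : R ≤ normalizer ((P : Subgroup G) : Set G)) : R ≤ (P : Subgroup G) := by
  have e := hR.inf_normalizer_sylow P
  intro x hx
  exact (mem_inf.1 (e.le (mem_inf.2 ⟨hx, hle hx⟩))).2

theorem mem_sylow (h : Cfg p a G) (P : Sylow p G) {x : G} (hx : ∃ k, orderOf x = p ^ k)
    (hN : x ∈ normalizer ((P : Subgroup G) : Set G)) : x ∈ (P : Subgroup G) := by
  haveI : Fact p.Prime := ⟨h.hp⟩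
  obtain ⟨k, hk⟩ := hx
  exact h.le_sylow P (IsPGroup.of_card (n := k) (by rw [Nat.card_zpowers, hk]))
    (zpowers_le.2 hN) (mem_zpowers x)

theorem exists_sylow_p (h : Cfg p a G) {x : G} (hx : ∃ k, orderOf x = p ^ k) :
    ∃ P : Sylow p G, x ∈ (P : Subgroup G) := by
  haveI : Fact p.Prime := ⟨h.hp⟩
  obtain ⟨k, hk⟩ := hx
  obtain ⟨P, hP⟩ := (IsPGroup.of_card (G := zpowers x) (p := p) (n := k)
    (by rw [Nat.card_zpowers, hk])).exists_le_sylow
  exact ⟨P, hP (mem_zpowers x)⟩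

theorem le_centralizer_of_mem (h : Cfg p a G) (P : Sylow p G) {u : G}
    (hu : u ∈ (P : Subgroup G)) : (P : Subgroup G) ≤ centralizer ({u} : Set G) := fun z hz =>
  mem_centralizer_singleton_iff.2 (congrArg Subtype.val ((h.hab P).is_comm.comm ⟨z, hz⟩ ⟨u, hu⟩))

/-- An involution inverting a nontrivial `p`-element normalizes its Sylow subgroup. -/
theorem inverted (h : Cfg p a G) (P : Sylow p G) {s y : G} (hs : orderOf s = 2)
    (hy : y ∈ (P : Subgroup G)) (hy1 : y ≠ 1) (hsy : s * y * s⁻¹ = y⁻¹) :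
    s ∈ normalizer ((P : Subgroup G) : Set G) ∧
      centralizer ({y} : Set G) ≤ normalizer ((P : Subgroup G) : Set G) := by
  haveI : Fact p.Prime := ⟨h.hp⟩
  set H := normalizer (zpowers y : Set G)
  have hsH : s ∈ H := mem_normalizer_of_conj (by
    rintro _ ⟨i, rfl⟩
    exact ⟨-i, by show y ^ (-i) = _; rw [← conj_zpow, hsy, inv_zpow, zpow_neg]⟩)
  have hCH : centralizer ({y} : Set G) ≤ H := fun g hg => mem_normalizer_of_conj (by
    rintro _ ⟨i, rfl⟩
    exact ⟨i, by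
      show y ^ i = _
      rw [((show Commute g y from mem_centralizer_singleton_iff.1 hg).zpow_right i).eq,
        mul_inv_cancel_right]⟩)
  have h2 : 2 ∣ Nat.card H := hs ▸ Subgroup.orderOf_dvd_natCard _ hsH
  have hPH : (P : Subgroup G) ≤ H := (h.le_centralizer_of_mem P hy).trans hCH
  rcases h.sylow_or P (h.zpowers_normalizer_ne_top hy1) h2 hPH with hN | ⟨S, hSH, hN⟩
  · exact ⟨hN hsH, fun g hg => hN (hCH hg)⟩
  · exfalso
    haveI : Fact (Nat.Prime 2) := ⟨Nat.prime_two⟩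
    have hsS : s ∈ (S : Subgroup G) := by
      have e := (IsPGroup.of_card (G := zpowers s) (p := 2) (n := 1)
        (by rw [Nat.card_zpowers, hs, pow_one])).inf_normalizer_sylow S
      exact (mem_inf.1 (e.le (mem_inf.2 ⟨mem_zpowers s, hN hsH⟩))).2
    have hyH : y ∈ H := hCH (mem_centralizer_singleton_iff.2 rfl)
    have hm : y * s * y⁻¹ * s⁻¹ ∈ (S : Subgroup G) :=
      mul_mem ((Subgroup.mem_normalizer_iff.1 (hN hyH) s).1 hsS) (inv_mem hsS)
    have he : y * s * y⁻¹ * s⁻¹ = y * y := by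
      calc y * s * y⁻¹ * s⁻¹ = y * (s * y * s⁻¹)⁻¹ := by group
        _ = y * y := by rw [hsy, inv_inv]
    rw [he] at hm
    obtain ⟨k, hk⟩ := IsPGroup.iff_orderOf.1 P.isPGroup' ⟨y, hy⟩
    rw [Subgroup.orderOf_mk] at hk
    have h4 : y ^ 4 = 1 := by
      rw [← (h.sylow_facts S).1 _ hm]; simp [pow_succ, mul_assoc]
    have hd : p ^ k ∣ 2 ^ 2 := hk ▸ orderOf_dvd_of_pow_eq_one h4
    rcases Nat.eq_zero_or_pos k with rfl | hk0
    · exact hy1 (orderOf_eq_one_iff.1 (by rw [hk, pow_zero]))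
    · exact h.hp2 ((Nat.prime_dvd_prime_iff_eq h.hp Nat.prime_two).1
        (h.hp.dvd_of_dvd_pow ((dvd_pow_self p hk0.ne').trans hd)))

/-- Two non-commuting involutions invert a nontrivial `p`-power of their product. -/
theorem exists_inverted (h : Cfg p a G) {s t : G} (hs : orderOf s = 2) (ht : orderOf t = 2)
    (hne : s * t ≠ t * s) :
    ∃ y ∈ zpowers (s * t), y ≠ 1 ∧ (∃ k, orderOf y = p ^ k) ∧
      s * y * s⁻¹ = y⁻¹ ∧ t * y * t⁻¹ = y⁻¹ := by
  have hs' : s⁻¹ = s := inv_eq_of_mul_eq_one_right (by rw [← sq, ← hs, pow_orderOf_eq_one])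
  have ht' : t⁻¹ = t := inv_eq_of_mul_eq_one_right (by rw [← sq, ← ht, pow_orderOf_eq_one])
  have es : s * (s * t) * s⁻¹ = (s * t)⁻¹ := by
    rw [mul_inv_rev, ht', hs', ← mul_assoc, show s * s = 1 by rw [← sq, ← hs, pow_orderOf_eq_one],
      one_mul]
  have et : t * (s * t) * t⁻¹ = (s * t)⁻¹ := by rw [mul_inv_rev, ht', hs']; simp [mul_assoc, mul_inv_eq_iff_eq_mul.1, show t * t = 1 by rw [← sq, ← ht, pow_orderOf_eq_one]]
  obtain ⟨l, hl, hl2, hld⟩ : ∃ l, l.Prime ∧ l ≠ 2 ∧ l ∣ orderOf (s * t) := by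
    by_contra hall
    push_neg at hall
    have hk : ∃ k, orderOf (s * t) = 2 ^ k :=
      ⟨_, Nat.eq_prime_pow_of_unique_prime_dvd (orderOf_pos _).ne' fun {d} hd hdn => by
        by_contra h0; exact hall d hd h0 hdn⟩
    have h1 := h.two_elem hk
    apply hne
    calc s * t = (s * t)⁻¹ := eq_inv_of_mul_eq_one_left h1
      _ = t * s := by rw [mul_inv_rev, ht', hs']
  set y := (s * t) ^ (orderOf (s * t) / l) with hy
  have hord : orderOf y = l := orderOf_pow_orderOf_div (orderOf_pos _).ne' hld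
  have hy1 : y ≠ 1 := fun e => hl.ne_one (by rw [← hord, e, orderOf_one])
  have esy : s * y * s⁻¹ = y⁻¹ := by rw [hy, ← conj_pow, es, inv_pow]
  have ety : t * y * t⁻¹ = y⁻¹ := by rw [hy, ← conj_pow, et, inv_pow]
  have hlp : l = p := by
    have hsH : s ∈ normalizer (zpowers y : Set G) := mem_normalizer_of_conj (by
      rintro _ ⟨i, rfl⟩
      exact ⟨-i, by show y ^ (-i) = _; rw [← conj_zpow, esy, inv_zpow, zpow_neg]⟩)
    have hyH : y ∈ normalizer (zpowers y : Set G) := le_normalizer (mem_zpowers y)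
    exact (h.hA _ (h.zpowers_normalizer_ne_top hy1) (hs ▸ Subgroup.orderOf_dvd_natCard _ hsH)
      l hl (hord ▸ Subgroup.orderOf_dvd_natCard _ hyH)).resolve_right hl2
  exact ⟨y, pow_mem (mem_zpowers _) _, hy1, ⟨1, by rw [hord, hlp, pow_one]⟩, esy, ety⟩

/-- Some involution normalizes every Sylow `p`-subgroup. -/
theorem exists_inv_normalizer (h : Cfg p a G) (P : Sylow p G) :
    ∃ s, orderOf s = 2 ∧ s ∈ normalizer ((P : Subgroup G) : Set G) := by
  haveI : Fact p.Prime := ⟨h.hp⟩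
  haveI : Fact (Nat.Prime 2) := ⟨Nat.prime_two⟩
  by_contra hno
  push_neg at hno
  have hall : ∀ s t : G, orderOf s = 2 → orderOf t = 2 → s * t = t * s := by
    intro s t hs ht
    by_contra hne
    obtain ⟨y, -, hy1, hyp, hsy, -⟩ := h.exists_inverted hs ht hne
    obtain ⟨R, hR⟩ := h.exists_sylow_p hyp
    obtain ⟨g, rfl⟩ := MulAction.exists_smul_eq G R P
    refine hno (g * s * g⁻¹) (((MulAut.conj g).orderOf_eq s).trans hs) ?_
    have := (h.inverted R hs hR hy1 hsy).1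
    replace this := Sylow.smul_eq_iff_mem_normalizer.2 this
    refine Sylow.smul_eq_iff_mem_normalizer.1 (?_ : (g * s * g⁻¹) • (g • R) = g • R)
    rw [smul_smul, inv_mul_cancel_right, mul_smul, this]
  set K := Subgroup.closure {s : G | orderOf s = 2}
  have hK : K.Normal := ⟨fun x hx g => by
    have hle : K ≤ K.comap (MulAut.conj g).toMonoidHom := by
      rw [Subgroup.closure_le]
      intro z hz
      exact Subgroup.subset_closure (((MulAut.conj g).orderOf_eq z).trans hz)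
    simpa using hle hx⟩
  haveI hKc := Subgroup.isMulCommutative_closure (k := {s : G | orderOf s = 2}) fun s hs t ht => hall s t hs ht
  have h2 : 2 ∣ Nat.card G := by
    obtain ⟨S⟩ : Nonempty (Sylow 2 G) := inferInstance
    refine dvd_trans ?_ (Subgroup.card_subgroup_dvd_card (S : Subgroup G))
    rw [h.card_sylow S]
    exact even_iff_two_dvd.1 (h.hp.odd_of_ne_two h.hp2).add_one
  obtain ⟨s, hs⟩ := exists_prime_orderOf_dvd_card' 2 h2
  have := h.simple
  rcases hK.eq_bot_or_eq_top with e | e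
  · have : s ∈ (⊥ : Subgroup G) := e ▸ Subgroup.subset_closure hs
    rw [mem_bot.1 this, orderOf_one] at hs
    norm_num at hs
  · exact h.ne_top_of_forall_comm (fun x hx y hy => Subgroup.mul_comm_of_mem_isMulCommutative K hx hy) e

end Cfg

end Cfsg.Agent.H74.Mixed
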