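import Cfsg.Agent.H74.MixedFree

/-!
The extreme case `p = 2^a - 1` by induction on the order.
-/

namespace Cfsg.Agent.H74.Mixed

open Subgroup

universe u

/-- In the extreme case with abelian Sylow `p`-subgroups only two primes occur. -/
theorem main2 {p : ℕ} (hp : p.Prime) (hp2 : p ≠ 2) : ∀ (n : ℕ) (G : Type u) [Group G] [Finite G],
    Nat.card G = n → p ∣ Nat.card G → 2 ∣ Nat.card G → MixHyp p 2 G →
    2 ^ (Nat.card G).factorization 2 = p + 1 → (∀ P : Sylow p G, IsMulCommutative (P : Subgroup G)) →
    TwoPrimes p 2 G := by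
  intro n
  induction n using Nat.strong_induction_on with
  | _ n ih =>
  intro G _ _ hn hpG h2G hmix ha hab
  haveI : Fact p.Prime := ⟨hp⟩
  haveI : Fact (Nat.Prime 2) := ⟨Nat.prime_two⟩
  by_contra hne
  have hA : ∀ H : Subgroup G, H ≠ ⊤ → 2 ∣ Nat.card H → TwoPrimes p 2 H := by
    intro H hH h2
    by_cases hpH : p ∣ Nat.card H
    swap
    · intro r hr hrd
      obtain ⟨k, hk⟩ := IsPGroup.iff_card.1 (isPGroup_of_small hpG hmix hpH h2)
      exact Or.inr ((Nat.prime_dvd_prime_iff_eq hr Nat.prime_two).1 (hr.dvd_of_dvd_pow (hk ▸ hrd)))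
    have hle : (Nat.card H).factorization 2 ≤ (Nat.card G).factorization 2 :=
      (Nat.prime_two.pow_dvd_iff_le_factorization Nat.card_pos.ne').1
        ((Nat.ordProj_dvd _ _).trans (card_subgroup_dvd_card H))
    rcases hle.lt_or_eq with hlt | he
    · refine twoPrimes_of_lt hp hp2 hpH h2 (mixHyp_subgroup hmix H) ?_
      have h3 := Nat.pow_le_pow_right two_pos (Nat.succ_le_of_lt hlt)
      rw [pow_succ, ha] at h3
      omega
    · refine ih _ (hn ▸ lt_of_le_of_ne (Subgroup.card_le_card_group H)
        fun e => hH (Subgroup.eq_top_of_card_eq _ e)) H rfl hpH h2 (mixHyp_subgroup hmix H)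
        (he ▸ ha) fun P => ⟨⟨fun x y => ?_⟩⟩
      obtain ⟨Q, hQ⟩ := (P.isPGroup'.map H.subtype).exists_le_sylow
      haveI := hab Q
      exact Subtype.ext (Subtype.ext (Subgroup.mul_comm_of_mem_isMulCommutative (Q : Subgroup G)
        (hQ ⟨x, x.2, rfl⟩) (hQ ⟨y, y.2, rfl⟩)))
  -- some `p`-element acts on a `2`-subgroup
  have hact : ∃ (U : Subgroup G) (g : G), IsPGroup 2 U ∧ g ∈ normalizer (U : Set G) ∧
      (∃ k, orderOf g = p ^ k) ∧ g ∉ centralizer (U : Set G) := by
    by_contra hcon
    refine hne (twoPrimes_of_centralizes hp hp2 hpG h2G hmix fun U g h1 h2 h3 => ?_).2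
    by_contra h4
    exact hcon ⟨U, g, h1, h2, h3, h4⟩
  have hsimple : IsSimpleGroup G := by
    haveI : Nontrivial G := Finite.one_lt_card_iff_nontrivial.1
      (hp.one_lt.trans_le (Nat.le_of_dvd Nat.card_pos hpG))
    refine ⟨fun N hN => ?_⟩
    by_contra hcon
    push_neg at hcon
    obtain ⟨hNb, hNt⟩ := hcon
    haveI := hN
    have hfrat : ∀ (r : ℕ) [Fact r.Prime] (R : Sylow r N), Nat.card G ∣
        Nat.card (normalizer (((R : Subgroup N).map N.subtype : Subgroup G) : Set G)) * Nat.card N := by
      intro r _ R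
      have hd := Cores.card_sup_dvd (normalizer (((R : Subgroup N).map N.subtype : Subgroup G) : Set G)) N
      rwa [Sylow.normalizer_sup_eq_top R, Subgroup.card_top] at hd
    by_cases h2N : 2 ∣ Nat.card N
    · obtain ⟨Q⟩ : Nonempty (Sylow 2 N) := inferInstance
      set Q' : Subgroup G := (Q : Subgroup N).map N.subtype with hQ'
      have hQne : Q' ≠ ⊥ := fun e => Q.ne_bot_of_dvd_card h2N
        ((Subgroup.map_eq_bot_iff_of_injective _ N.subtype_injective).1 e)
      have hQp : IsPGroup 2 Q' := Q.isPGroup'.map _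
      refine hne fun r hr hrG => ?_
      by_cases hNQ : normalizer (Q' : Set G) = ⊤
      · by_contra hr2
        push_neg at hr2
        haveI : Fact r.Prime := ⟨hr⟩
        obtain ⟨x, hx⟩ := exists_prime_orderOf_dvd_card' r hrG
        obtain ⟨k, hk⟩ := isPow_of_normalizes (g := x) hp hp2 hpG hmix hQp hQne (hNQ ▸ mem_top x)
          (fun hd => hr2.1 ((Nat.prime_dvd_prime_iff_eq hp hr).1 (hx ▸ hd)).symm)
        rw [hx] at hk
        exact hr2.2 ((Nat.prime_dvd_prime_iff_eq hr Nat.prime_two).1
          (hr.dvd_of_dvd_pow (dvd_of_eq hk)))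
      · have h2Q : 2 ∣ Nat.card (normalizer (Q' : Set G)) := by
          obtain ⟨m, hm⟩ := IsPGroup.iff_card.1 hQp
          have hm0 : m ≠ 0 := fun e => hQne (Subgroup.card_eq_one.1 (by rw [hm, e, pow_zero]))
          exact ((dvd_pow_self 2 hm0).trans (dvd_of_eq hm.symm)).trans
            (Subgroup.card_dvd_of_le le_normalizer)
        rcases hr.dvd_mul.1 (hrG.trans (hfrat 2 Q)) with h1 | h1
        · exact hA _ hNQ h2Q r hr h1
        · exact hA N hNt h2N r hr h1
    · have hNp : ∀ r : ℕ, r.Prime → r ∣ Nat.card N → r = p := by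
        intro r hr hrN
        by_contra hrp
        haveI : Fact r.Prime := ⟨hr⟩
        obtain ⟨R⟩ : Nonempty (Sylow r N) := inferInstance
        set R' : Subgroup G := (R : Subgroup N).map N.subtype with hR'
        obtain ⟨y, hy⟩ := exists_prime_orderOf_dvd_card' 2
          ((Nat.prime_two.dvd_mul.1 (h2G.trans (hfrat r R))).resolve_right h2N)
        rw [← Subgroup.orderOf_coe] at hy
        obtain ⟨m, hm⟩ := IsPGroup.iff_card.1 (R.isPGroup'.map N.subtype)
        have hm0 : m ≠ 0 := by
          rintro rfl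
          rw [pow_zero, Subgroup.card_map_of_injective N.subtype_injective] at hm
          exact R.ne_bot_of_dvd_card hrN (Subgroup.card_eq_one.1 hm)
        have hd := card_sup_zpowers_dvd (U := R') y.2
        rw [hm, hy] at hd
        have hnp : ¬ p ∣ Nat.card ↥(R' ⊔ zpowers (y : G)) := fun hh => by
          rcases hp.dvd_mul.1 (hh.trans hd) with h1 | h1
          · exact hrp ((Nat.prime_dvd_prime_iff_eq hp hr).1 (hp.dvd_of_dvd_pow h1)).symm
          · exact hp2 ((Nat.prime_dvd_prime_iff_eq hp Nat.prime_two).1 h1)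
        have h2d : 2 ∣ Nat.card ↥(R' ⊔ zpowers (y : G)) := by
          have h1 := Subgroup.card_dvd_of_le (le_sup_right : zpowers (y : G) ≤ R' ⊔ zpowers (y : G))
          rwa [Nat.card_zpowers, hy] at h1
        obtain ⟨j, hj⟩ := IsPGroup.iff_card.1 (isPGroup_of_small hpG hmix hnp h2d)
        have hr' : r ∣ Nat.card ↥(R' ⊔ zpowers (y : G)) :=
          ((dvd_pow_self r hm0).trans (dvd_of_eq hm.symm)).trans (Subgroup.card_dvd_of_le le_sup_left)
        have : r = 2 := (Nat.prime_dvd_prime_iff_eq hr Nat.prime_two).1 (hr.dvd_of_dvd_pow (hj ▸ hr'))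
        exact h2N (this ▸ hrN)
      have hNpg : IsPGroup p N := by
        refine IsPGroup.of_card (n := (Nat.card N).primeFactorsList.length)
          (Nat.eq_prime_pow_of_unique_prime_dvd Nat.card_pos.ne' fun {d} hd hdN => hNp d hd hdN)
      by_cases hpq : p ∣ N.index
      swap
      · obtain ⟨U, g, hU, hgN, ⟨k, hk⟩, hnc⟩ := hact
        have hgp : g ∈ N := by
          by_contra hg
          have h1 : (QuotientGroup.mk g : G ⧸ N) ≠ 1 := fun e => hg ((QuotientGroup.eq_one_iff g).1 e)
          have h2 : orderOf (QuotientGroup.mk g : G ⧸ N) ∣ p ^ k :=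
            hk ▸ orderOf_map_dvd (QuotientGroup.mk' N) g
          obtain ⟨j, -, hj⟩ := (Nat.dvd_prime_pow hp).1 h2
          rcases Nat.eq_zero_or_pos j with rfl | hj0
          · exact h1 (orderOf_eq_one_iff.1 (by rw [hj, pow_zero]))
          · exact hpq ((dvd_pow_self p hj0.ne').trans ((dvd_of_eq hj.symm).trans
              (by rw [Subgroup.index_eq_card]; exact orderOf_dvd_natCard _)))
        refine hnc (mem_centralizer_iff.2 fun x hx => ?_)
        have h1 : g * x * g⁻¹ * x⁻¹ ∈ U := mul_mem ((Subgroup.mem_normalizer_iff.1 hgN x).1 hx) (inv_mem hx)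
        have h2 : g * x * g⁻¹ * x⁻¹ ∈ N := by
          have := mul_mem hgp (hN.conj_mem _ (inv_mem hgp) x)
          convert this using 1
          group
        have h3 : g * x * g⁻¹ * x⁻¹ = 1 :=
          Subgroup.disjoint_def.1 (IsPGroup.disjoint_of_ne 2 p (Ne.symm hp2) _ _ hU hNpg) h1 h2
        calc x * g = (g * x * g⁻¹ * x⁻¹) * (x * g) := by rw [h3, one_mul]
          _ = g * x := by group
      · have hcard : Nat.card N * N.index = Nat.card G := N.card_mul_index
        have hidx : Nat.card (G ⧸ N) = N.index := (Subgroup.index_eq_card N).symm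
        have h2i : 2 ∣ Nat.card (G ⧸ N) := by
          rw [hidx]
          exact (Nat.prime_two.dvd_mul.1 (hcard.symm ▸ h2G)).resolve_left h2N
        have hlt : Nat.card (G ⧸ N) < n := by
          rw [← hn, hidx, ← hcard]
          have h1 : 1 < Nat.card N := (Subgroup.one_lt_card_iff_ne_bot N).2 hNb
          exact lt_mul_left (Nat.pos_of_ne_zero Subgroup.index_ne_zero_of_finite) h1
        have hmixQ : MixHyp p 2 (G ⧸ N) := by
          intro K hK hKq h2K
          have hsurj := QuotientGroup.mk'_surjective N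
          have h1 : K.comap (QuotientGroup.mk' N) ≠ ⊤ := fun e => hK (by
            rw [← Subgroup.map_comap_eq_self_of_surjective hsurj K, e,
              Subgroup.map_top_of_surjective _ hsurj])
          have h3 : Nat.card K ∣ Nat.card (K.comap (QuotientGroup.mk' N)) := by
            conv_lhs => rw [← Subgroup.map_comap_eq_self_of_surjective hsurj K]
            exact Subgroup.card_map_dvd _ _
          by_contra hpK
          refine hKq (IsPGroup.of_card (n := (Nat.card K).primeFactorsList.length)
            (Nat.eq_prime_pow_of_unique_prime_dvd Nat.card_pos.ne' fun {d} hd hdK => ?_))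
          rcases hA _ h1 (h2K.trans h3) d hd (hdK.trans h3) with h4 | h4
          · exact absurd (h4 ▸ hdK) hpK
          · exact h4
        have hfac : (Nat.card (G ⧸ N)).factorization 2 = (Nat.card G).factorization 2 := by
          rw [← hcard, hidx, Nat.factorization_mul Nat.card_pos.ne' Subgroup.index_ne_zero_of_finite]
          simp [Nat.factorization_eq_zero_of_not_dvd h2N]
        have habQ : ∀ P : Sylow p (G ⧸ N), IsMulCommutative (P : Subgroup (G ⧸ N)) := by
          intro P
          obtain ⟨Q, rfl⟩ := Sylow.mapSurjective_surjective (QuotientGroup.mk'_surjective N) p P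
          refine ⟨⟨?_⟩⟩
          rintro ⟨_, x, hx, rfl⟩ ⟨_, y, hy, rfl⟩
          haveI := hab Q
          refine Subtype.ext ?_
          show QuotientGroup.mk' N x * QuotientGroup.mk' N y = QuotientGroup.mk' N y * QuotientGroup.mk' N x
          rw [← map_mul, ← map_mul,
            Subgroup.mul_comm_of_mem_isMulCommutative (Q : Subgroup G) hx hy]
        have hq := ih _ hlt (G ⧸ N) rfl (hidx.symm ▸ hpq) h2i hmixQ (hfac.symm ▸ ha) habQ
        refine hne fun r hr hrG => ?_
        rcases hr.dvd_mul.1 (hcard.symm ▸ hrG) with h1 | h1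
        · exact Or.inl (hNp r hr h1)
        · exact hq r hr (hidx.symm ▸ h1)
  have hnonab : ¬ ∀ x y : G, x * y = y * x := by
    intro hcomm
    obtain ⟨x, hx⟩ := exists_prime_orderOf_dvd_card' 2 h2G
    have hn : (zpowers x).Normal := ⟨fun y hy g => by rwa [hcomm g y, mul_inv_cancel_right]⟩
    rcases hn.eq_bot_or_eq_top with e | e
    · rw [zpowers_eq_bot] at e
      rw [e, orderOf_one] at hx
      norm_num at hx
    · have h1 : Nat.card G = 2 := by rw [← Subgroup.card_top, ← e, Nat.card_zpowers, hx]
      rw [h1] at hpG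
      exact hp2 ((Nat.prime_dvd_prime_iff_eq hp Nat.prime_two).1 hpG)
  exact Cfg.absurd_cfg (a := (Nat.card G).factorization 2)
    ⟨hp, hp2, ha, rfl, hpG, hsimple, hnonab, hA, hab, hact⟩

end Cfsg.Agent.H74.Mixed
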