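import Cfsg.Agent.Thompson.BaerSuzuki
import Cfsg.Agent.H26.Invol
import Cfsg.Agent.Cores.PCore
import Cfsg.Agent.Coprime.SchurZassenhaus

/-!
Groups without nontrivial real elements of odd order have a normal Sylow 2-subgroup.
-/

namespace Cfsg.Agent.H74

open Subgroup

theorem sylow_two_normal_of_no_real {G : Type*} [Group G] [Finite G]
    (hreal : ∀ x : G, Odd (orderOf x) → ∀ t : G, t * x * t⁻¹ = x⁻¹ → x = 1)
    (P : Sylow 2 G) : (P : Subgroup G).Normal := by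
  haveI : Fact (Nat.Prime 2) := ⟨Nat.prime_two⟩
  set O := Cfsg.pCore 2 G with hO
  haveI hOn : O.Normal := inferInstance
  have hOp : IsPGroup 2 O := Cfsg.Agent.Cores.pCore_isPGroup
  have hcore : ∀ N : Subgroup (G ⧸ O), N.Normal → IsPGroup 2 N → N = ⊥ := by
    intro N hN hNp
    have h1 : N.comap (QuotientGroup.mk' O) ≤ O :=
      Cfsg.Agent.Cores.le_pCore (hN := hN.comap _) (hNp.comap_of_ker_isPGroup _ (by
        rw [QuotientGroup.ker_mk']; exact hOp))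
    rw [eq_bot_iff]
    intro y hy
    obtain ⟨x, rfl⟩ := QuotientGroup.mk'_surjective O y
    exact (QuotientGroup.eq_one_iff x).2 (h1 hy)
  suffices hodd : ¬ 2 ∣ Nat.card (G ⧸ O) by
    have hPO : (P : Subgroup G) ≤ O := by
      intro x hx
      rw [← QuotientGroup.eq_one_iff, ← orderOf_eq_one_iff]
      obtain ⟨a, ha⟩ := P.2 ⟨x, hx⟩
      have ha' : x ^ 2 ^ a = 1 := congrArg Subtype.val ha
      have h1 : orderOf (QuotientGroup.mk' O x) ∣ 2 ^ a :=
        (orderOf_map_dvd _ _).trans (orderOf_dvd_of_pow_eq_one ha')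
      have h2 : orderOf (QuotientGroup.mk' O x) ∣ Nat.card (G ⧸ O) := orderOf_dvd_natCard _
      exact Nat.dvd_one.1 (((Nat.prime_two.coprime_iff_not_dvd).2 hodd).pow_left a ▸ Nat.dvd_gcd h1 h2)
    rwa [le_antisymm hPO (Cfsg.Agent.Cores.pCore_le_sylow P)]
  intro h2
  obtain ⟨τ, hτ⟩ := exists_prime_orderOf_dvd_card' 2 h2
  have hττ : τ * τ = 1 := by rw [← pow_two, ← hτ, pow_orderOf_eq_one]
  -- Baer-Suzuki
  obtain ⟨u, huu, hu⟩ : ∃ u : G ⧸ O, u * u = 1 ∧
      ∀ a : ℕ, (τ * u) ^ 2 ^ a ≠ 1 := by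
    by_contra hcon
    push Not at hcon
    obtain ⟨N, hN, hNp, hτN⟩ := Cfsg.Agent.Thompson.baer_suzuki (p := 2) (x := τ) fun g => by
      have hc : g * τ * g⁻¹ * (g * τ * g⁻¹) = 1 := by
        rw [show g * τ * g⁻¹ * (g * τ * g⁻¹) = g * (τ * τ) * g⁻¹ by group, hττ, mul_one, mul_inv_cancel]
      obtain ⟨a, ha⟩ := hcon _ hc
      exact Cfsg.Agent.H26.isPGroup_closure_pair hττ hc ha
    rw [hcore N hN hNp, mem_bot] at hτN
    rw [hτN, orderOf_one] at hτ
    omega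
  obtain ⟨a, m, hm, hnm⟩ := Nat.exists_eq_two_pow_mul_odd (orderOf_pos (τ * u)).ne'
  set y := (τ * u) ^ 2 ^ a with hy
  have hy1 : y ≠ 1 := hu a
  have hym : y ^ m = 1 := by rw [hy, ← pow_mul, ← hnm, pow_orderOf_eq_one]
  obtain ⟨t, ht⟩ := QuotientGroup.mk'_surjective O τ
  obtain ⟨x₀, hx₀⟩ := QuotientGroup.mk'_surjective O y
  obtain ⟨b, m', hm', hnm'⟩ := Nat.exists_eq_two_pow_mul_odd (orderOf_pos x₀).ne'
  set x := x₀ ^ 2 ^ b with hx
  set z := y ^ 2 ^ b with hz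
  have hxz : QuotientGroup.mk' O x = z := by rw [hx, map_pow, hx₀]
  have hxo : Odd (orderOf x) := by
    refine Odd.of_dvd_nat hm' (orderOf_dvd_of_pow_eq_one ?_)
    rw [hx, ← pow_mul, ← hnm', pow_orderOf_eq_one]
  have hz1 : z ≠ 1 := by
    intro h
    apply hy1
    rw [← orderOf_eq_one_iff]
    exact Nat.dvd_one.1 ((Nat.Coprime.pow_left b (Nat.coprime_two_left.2 hm)) ▸
      Nat.dvd_gcd (orderOf_dvd_of_pow_eq_one h) (orderOf_dvd_of_pow_eq_one hym))
  have hinv : τ * z * τ⁻¹ = z⁻¹ := by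
    have h0 : τ * (τ * u) * τ⁻¹ = (τ * u)⁻¹ := by
      rw [_root_.mul_inv_rev, inv_eq_of_mul_eq_one_right huu, ← mul_assoc τ τ u, hττ, one_mul]
    rw [hz, hy, ← pow_mul, ← conj_pow, h0, inv_pow]
  -- orders of x and z agree
  have hord : orderOf x = orderOf z := by
    refine Nat.dvd_antisymm (orderOf_dvd_of_pow_eq_one ?_) (hxz ▸ orderOf_map_dvd _ _)
    have hmem : x ^ orderOf z ∈ O := by
      rw [← QuotientGroup.eq_one_iff]
      show QuotientGroup.mk' O (x ^ orderOf z) = 1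
      rw [map_pow, hxz, pow_orderOf_eq_one]
    obtain ⟨c, hc⟩ := hOp ⟨_, hmem⟩
    have hc' : (x ^ orderOf z) ^ 2 ^ c = 1 := congrArg Subtype.val hc
    have h1 : orderOf (x ^ orderOf z) ∣ 2 ^ c := orderOf_dvd_of_pow_eq_one hc'
    have h2 : orderOf (x ^ orderOf z) ∣ orderOf x := orderOf_pow_dvd _
    rw [← orderOf_eq_one_iff]
    exact Nat.dvd_one.1 ((Nat.Coprime.pow_left c (Nat.coprime_two_left.2 hxo)) ▸ Nat.dvd_gcd h1 h2)
  -- conjugate complements
  obtain ⟨k, hk⟩ : ∃ k, Nat.card O = 2 ^ k := hOp.exists_card_eq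
  have hle : zpowers (t * x * t⁻¹) ≤ O ⊔ zpowers x := by
    rw [zpowers_le]
    have hmem : x * (t * x * t⁻¹) ∈ O := by
      rw [← QuotientGroup.eq_one_iff]
      show QuotientGroup.mk' O (x * (t * x * t⁻¹)) = 1
      rw [map_mul, map_mul, map_mul, map_inv, hxz, ht, hinv, mul_inv_cancel]
    have h := mul_mem (mem_sup_right (inv_mem (mem_zpowers x)) : x⁻¹ ∈ O ⊔ zpowers x)
      (mem_sup_left hmem)
    rwa [inv_mul_cancel_left] at h
  obtain ⟨n, hn, hmap⟩ := Cfsg.Agent.Coprime.exists_conj_of_le_sup (N := O) (H₁ := zpowers x)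
    (H₂ := zpowers (t * x * t⁻¹)) (by rw [normalizer_eq_top_iff.2 hOn]; exact le_top) hle
    (by
      rw [Nat.card_zpowers, Nat.card_zpowers]
      exact orderOf_injective (MulAut.conj t).toMonoidHom (MulAut.conj t).injective x)
    (by rw [hk, Nat.card_zpowers]; exact (Nat.Coprime.pow_left k (Nat.coprime_two_left.2 hxo)).symm)
    (Or.inl (Group.isSolvable_of_comm fun a b => mul_comm' a b))
  obtain ⟨w, hw, hwe⟩ : t * x * t⁻¹ ∈ (zpowers x).map (MulAut.conj n).toMonoidHom :=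
    hmap ▸ mem_zpowers _
  obtain ⟨i, rfl⟩ := mem_zpowers_iff.1 hw
  have hwe' : n * x ^ i * n⁻¹ = t * x * t⁻¹ := hwe
  have hxi : x ^ i = x⁻¹ := by
    have h1 : z ^ i = z⁻¹ := by
      have := congrArg (QuotientGroup.mk' O) hwe'
      rw [map_mul, map_mul, map_mul, map_mul, map_zpow, map_inv, map_inv, hxz, ht, hinv,
        show QuotientGroup.mk' O n = 1 from (QuotientGroup.eq_one_iff n).2 hn, one_mul, inv_one,
        mul_one] at this
      exact this
    rw [← zpow_neg_one, zpow_eq_zpow_iff_modEq, hord, ← zpow_eq_zpow_iff_modEq, zpow_neg_one]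
    exact h1
  have := hreal x hxo (n⁻¹ * t) (by
    rw [← hxi, show n⁻¹ * t * x * (n⁻¹ * t)⁻¹ = n⁻¹ * (t * x * t⁻¹) * n by group, ← hwe']
    group)
  rw [this, map_one] at hxz
  exact hz1 hxz.symm

end Cfsg.Agent.H74
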