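import Cfsg.Agent.S0529
import Cfsg.Agent.Hall.Basic
import Mathlib.Data.Nat.Factorization.Basic
import Mathlib.GroupTheory.Sylow
import Mathlib.GroupTheory.Nilpotent
import Mathlib.GroupTheory.Solvable
import Mathlib.GroupTheory.Index

/-!
Normal Hall subgroups detected by counting: if exactly `m` elements of a finite group satisfy
`x ^ m = 1` for each upper-prime part `m` of the order, the group has a Sylow tower.
-/

namespace Cfsg.Agent.H74.Tower

open Subgroup
open scoped Pointwise

variable {G : Type*} [Group G]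

/-- The part of `n` made of primes `≥ k`. -/
noncomputable def upperPart (n k : ℕ) : ℕ :=
  ∏ p ∈ n.primeFactors.filter (k ≤ ·), p ^ n.factorization p

theorem upperPart_zero {n : ℕ} (hn : n ≠ 0) : upperPart n 0 = n := by
  rw [upperPart, Finset.filter_true_of_mem (fun _ _ => Nat.zero_le _)]
  exact (Nat.prod_factorization_pow_eq_self hn : _)

theorem upperPart_of_lt {n k : ℕ} (h : n < k) : upperPart n k = 1 := by
  rw [upperPart, Finset.filter_false_of_mem, Finset.prod_empty]
  intro p hp hkp
  have := Nat.le_of_mem_primeFactors hp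
  omega

theorem upperPart_succ_of_notMem {n k : ℕ} (h : k ∉ n.primeFactors) :
    upperPart n k = upperPart n (k + 1) := by
  rw [upperPart, upperPart]
  refine Finset.prod_congr (Finset.filter_congr fun p hp => ?_) fun _ _ => rfl
  exact ⟨fun h' => Nat.succ_le_of_lt (lt_of_le_of_ne h' fun e => h (e ▸ hp)), fun h' => by omega⟩

theorem upperPart_succ_of_mem {n k : ℕ} (h : k ∈ n.primeFactors) :
    upperPart n k = k ^ n.factorization k * upperPart n (k + 1) := by
  rw [upperPart, upperPart]
  rw [show n.primeFactors.filter (k ≤ ·) = insert k (n.primeFactors.filter (k + 1 ≤ ·)) by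
    ext p; simp only [Finset.mem_filter, Finset.mem_insert]
    constructor
    · rintro ⟨hp, hk⟩
      rcases eq_or_lt_of_le hk with e | e
      · exact Or.inl e.symm
      · exact Or.inr ⟨hp, e⟩
    · rintro (rfl | ⟨hp, hk⟩)
      · exact ⟨h, le_rfl⟩
      · exact ⟨hp, by omega⟩]
  rw [Finset.prod_insert]
  simp

theorem upperPart_dvd {n : ℕ} (hn : n ≠ 0) (k : ℕ) : upperPart n k ∣ n := by
  conv_rhs => rw [← upperPart_zero hn]
  exact Finset.prod_dvd_prod_of_subset _ _ _ (fun p hp => by
    simp only [Finset.mem_filter] at hp ⊢; exact ⟨hp.1, Nat.zero_le _⟩)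

theorem coprime_pow_upperPart {n k e : ℕ} (hk : k.Prime) :
    Nat.Coprime (k ^ e) (upperPart n (k + 1)) := by
  refine Nat.Coprime.prod_right fun p hp => ?_
  simp only [Finset.mem_filter] at hp
  exact Nat.Coprime.pow _ _ ((Nat.coprime_primes hk (Nat.prime_of_mem_primeFactors hp.1)).2
    (by omega))

/-- A factorisation of `n` into a part with large primes and a part with small primes. -/
theorem eq_upperPart {n a b k : ℕ} (hn : n ≠ 0) (hab : a * b = n)
    (ha : ∀ p, p.Prime → p ∣ a → k ≤ p) (hb : ∀ p, p.Prime → p ∣ b → p < k) :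
    a = upperPart n k := by
  have ha0 : a ≠ 0 := fun h => hn (by rw [← hab, h, zero_mul])
  have hb0 : b ≠ 0 := fun h => hn (by rw [← hab, h, mul_zero])
  conv_lhs => rw [← Nat.prod_factorization_pow_eq_self ha0]
  rw [upperPart, Finsupp.prod, Nat.support_factorization]
  refine Finset.prod_congr ?_ fun p hp => ?_
  · ext p
    simp only [Finset.mem_filter, Nat.mem_primeFactors]
    constructor
    · rintro ⟨hp, hd, -⟩
      exact ⟨⟨hp, hab ▸ hd.mul_right b, hn⟩, ha p hp hd⟩
    · rintro ⟨⟨hp, hd, -⟩, hk⟩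
      rw [← hab] at hd
      rcases hp.dvd_mul.1 hd with h | h
      · exact ⟨hp, h, ha0⟩
      · exact absurd (hb p hp h) (by omega)
  · simp only [Finset.mem_filter, Nat.mem_primeFactors] at hp
    congr 1
    rw [← hab, Nat.factorization_mul ha0 hb0, Finsupp.add_apply,
      Nat.factorization_eq_zero_of_not_dvd (n := b), add_zero]
    intro h
    have := hb p hp.1.1 h
    omega

theorem card_pow_eq_one_of_normal [Finite G] (N : Subgroup G) [N.Normal]
    (h : (Nat.card N).Coprime N.index) :
    Nat.card {x : G // x ^ Nat.card N = 1} = Nat.card N := by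
  refine Nat.card_congr (Equiv.subtypeEquivRight fun x => ⟨fun hx => ?_, fun hx => ?_⟩)
  · have h1 : orderOf (QuotientGroup.mk' N x) ∣ Nat.card N :=
      (orderOf_map_dvd _ _).trans (orderOf_dvd_of_pow_eq_one hx)
    have h2 : orderOf (QuotientGroup.mk' N x) ∣ N.index := orderOf_dvd_natCard _
    have h3 := Nat.dvd_one.1 (h ▸ Nat.dvd_gcd h1 h2)
    exact (QuotientGroup.eq_one_iff x).1 (orderOf_eq_one_iff.1 h3)
  · exact orderOf_dvd_iff_pow_eq_one.1 (Subgroup.orderOf_dvd_natCard _ hx)

theorem normal_of_count [Finite G] (M : Subgroup G) {m : ℕ} (hM : Nat.card M = m)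
    (hc : Nat.card {x : G // x ^ m = 1} = m) : M.Normal := by
  have hset : (M : Set G) = {x : G | x ^ m = 1} := by
    refine Set.eq_of_subset_of_ncard_le (fun x hx => ?_) ?_
    · exact orderOf_dvd_iff_pow_eq_one.1 (hM ▸ Subgroup.orderOf_dvd_natCard _ hx)
    · rw [← Nat.card_coe_set_eq, ← Nat.card_coe_set_eq]
      exact le_of_eq (hc.trans hM.symm)
  refine ⟨fun x hx g => ?_⟩
  have h1 : x ∈ (M : Set G) := hx
  rw [hset, Set.mem_ofPred_eq] at h1
  show g * x * g⁻¹ ∈ (M : Set G)
  rw [hset, Set.mem_ofPred_eq, conj_pow, h1, mul_one, mul_inv_cancel]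

/-- Sylow tower from counts above a bound. -/
theorem exists_normal_upper_of_ge [Finite G] (k₀ : ℕ)
    (hc : ∀ k, k₀ ≤ k →
      Nat.card {x : G // x ^ upperPart (Nat.card G) k = 1} = upperPart (Nat.card G) k)
    (k : ℕ) (hk₀ : k₀ ≤ k) : ∃ N : Subgroup G, N.Normal ∧ Group.IsSolvable N ∧
      Nat.card N = upperPart (Nat.card G) k := by
  set n := Nat.card G with hn
  have hn0 : n ≠ 0 := Nat.card_pos.ne'
  suffices h : ∀ d k, k₀ ≤ k → k + d = n + 1 → ∃ N : Subgroup G, N.Normal ∧ Group.IsSolvable N ∧
      Nat.card N = upperPart n k by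
    by_cases hk : k ≤ n + 1
    · exact h (n + 1 - k) k hk₀ (by omega)
    · exact ⟨⊥, inferInstance, inferInstance, by rw [upperPart_of_lt (by omega), Subgroup.card_bot]⟩
  intro d
  induction d with
  | zero =>
    intro k _ hk
    exact ⟨⊥, inferInstance, inferInstance, by rw [upperPart_of_lt (by omega), Subgroup.card_bot]⟩
  | succ d ih =>
    intro k hk0 hk
    obtain ⟨N, hNn, hNs, hNc⟩ := ih (k + 1) (by omega) (by omega)
    by_cases hkm : k ∈ n.primeFactors
    · haveI : Fact k.Prime := ⟨Nat.prime_of_mem_primeFactors hkm⟩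
      obtain ⟨R⟩ : Nonempty (Sylow k G) := inferInstance
      have hR : Nat.card R = k ^ n.factorization k := R.card_eq_multiplicity
      have hdisj : N ⊓ (R : Subgroup G) = ⊥ := by
        refine Subgroup.inf_eq_bot_of_coprime ?_
        rw [hNc]; erw [hR]
        exact (coprime_pow_upperPart (Fact.out : k.Prime)).symm
      let M : Subgroup G := N ⊔ (R : Subgroup G)
      have hMc : Nat.card M = upperPart n k := by
        rw [upperPart_succ_of_mem hkm, ← hNc, ← hR, mul_comm (Nat.card R) (Nat.card N)]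
        exact Cfsg.Agent.Hall.card_sup_eq_of_inf_eq_bot N _ hdisj
      refine ⟨M, normal_of_count M hMc (hc k hk0), ?_, hMc⟩
      haveI : (N.subgroupOf M).Normal := hNn.subgroupOf M
      haveI : Group.IsSolvable (N.subgroupOf M) :=
        Group.isSolvable_of_surjective (f := (Subgroup.subgroupOfEquivOfLe (le_sup_left : N ≤ M)).symm.toMonoidHom)
          (MulEquiv.surjective _)
      have hq : IsPGroup k (M ⧸ N.subgroupOf M) := by
        refine IsPGroup.of_card (n := n.factorization k) ?_
        have h1 := Subgroup.card_mul_index (N.subgroupOf M)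
        rw [Nat.card_congr (Subgroup.subgroupOfEquivOfLe (le_sup_left : N ≤ M)).toEquiv, hMc,
          upperPart_succ_of_mem hkm, ← hNc, mul_comm (k ^ _)] at h1
        exact Nat.eq_of_mul_eq_mul_left Nat.card_pos h1
      haveI : Group.IsNilpotent (M ⧸ N.subgroupOf M) := hq.isNilpotent
      exact Group.isSolvable_of_ker_le_range (N.subgroupOf M).subtype
        (QuotientGroup.mk' (N.subgroupOf M)) (by simp [QuotientGroup.ker_mk'])
    · exact ⟨N, hNn, hNs, by rw [hNc, upperPart_succ_of_notMem hkm]⟩

theorem exists_normal_upper [Finite G]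
    (hc : ∀ k, Nat.card {x : G // x ^ upperPart (Nat.card G) k = 1} = upperPart (Nat.card G) k)
    (k : ℕ) : ∃ N : Subgroup G, N.Normal ∧ Group.IsSolvable N ∧
      Nat.card N = upperPart (Nat.card G) k :=
  exists_normal_upper_of_ge 0 (fun k _ => hc k) k (Nat.zero_le k)

theorem isSolvable_of_counts [Finite G]
    (hc : ∀ k, Nat.card {x : G // x ^ upperPart (Nat.card G) k = 1} = upperPart (Nat.card G) k) :
    Group.IsSolvable G := by
  obtain ⟨N, -, hs, hcard⟩ := exists_normal_upper hc 0
  rw [upperPart_zero Nat.card_pos.ne'] at hcard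
  have hN : N = ⊤ := Subgroup.eq_top_of_card_eq _ hcard
  subst hN
  exact Group.isSolvable_of_surjective (f := (Subgroup.topEquiv (G := G)).toMonoidHom)
    (MulEquiv.surjective _)

theorem exists_normal_upper_supersolvable [Finite G] (hG : Cfsg.IsSupersolvable G) (k : ℕ) :
    ∃ N : Subgroup G, N.Normal ∧ Nat.card N = upperPart (Nat.card G) k ∧
      (Nat.card N).Coprime N.index := by
  obtain ⟨n, H, h0, hl, hn, hstep, hdec⟩ := Cfsg.Agent.S0529.result hG
  suffices h : ∀ i : Fin (n + 1), (∀ p, p.Prime → p ∣ Nat.card (H i) → k ≤ p) ∨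
      (∃ N : Subgroup G, N.Normal ∧ (∀ p, p.Prime → p ∣ Nat.card N → k ≤ p) ∧
        (∀ p, p.Prime → p ∣ N.relIndex (H i) → p < k) ∧ N ≤ H i ∧
        ∀ j : Fin n, i ≤ j.castSucc → (H j.castSucc).relIndex (H j.succ) < k) by
    have hfin : ∃ N : Subgroup G, N.Normal ∧ (∀ p, p.Prime → p ∣ Nat.card N → k ≤ p) ∧
        (∀ p, p.Prime → p ∣ N.index → p < k) := by
      rcases h (Fin.last n) with hc | ⟨N, hN, ha, hb, -, -⟩
      · refine ⟨⊤, inferInstance, ?_, fun p hp hd => ?_⟩
        · rwa [hl] at hc
        · rw [Subgroup.index_top, Nat.dvd_one] at hd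
          exact absurd (hd ▸ hp) Nat.not_prime_one
      · rw [hl, Subgroup.relIndex_top_right] at hb
        exact ⟨N, hN, ha, hb⟩
    obtain ⟨N, hN, ha, hb⟩ := hfin
    refine ⟨N, hN, eq_upperPart Nat.card_pos.ne' (Subgroup.card_mul_index N) ha hb, ?_⟩
    refine Nat.coprime_of_dvd fun p hp h1 h2 => ?_
    have := ha p hp h1
    have := hb p hp h2
    omega
  intro i
  induction i using Fin.induction with
  | zero =>
    left
    intro p hp hd
    rw [h0, Subgroup.card_bot, Nat.dvd_one] at hd
    exact absurd (hd ▸ hp) Nat.not_prime_one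
  | succ i ih =>
    obtain ⟨hle, hpr⟩ := hstep i
    have hcard : Nat.card (H i.castSucc) * (H i.castSucc).relIndex (H i.succ) = Nat.card (H i.succ) := by
      rw [← Nat.card_congr (Subgroup.subgroupOfEquivOfLe hle).toEquiv]
      exact Subgroup.card_mul_index _
    rcases ih with hall | ⟨N, hN, ha, hb, hNle, hsm⟩
    · by_cases hk : k ≤ (H i.castSucc).relIndex (H i.succ)
      · left
        intro p hp hd
        rw [← hcard] at hd
        rcases hp.dvd_mul.1 hd with h | h
        · exact hall p hp h
        · rwa [(Nat.prime_dvd_prime_iff_eq hp hpr).1 h]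
      · right
        refine ⟨H i.castSucc, hn _, hall, fun p hp hd => ?_, hle, fun j hj => ?_⟩
        · rw [(Nat.prime_dvd_prime_iff_eq hp hpr).1 hd]; omega
        · have hij : i ≤ j := by
            have h' : (i : ℕ) + 1 ≤ (j : ℕ) := by simpa [Fin.le_def] using hj
            rw [Fin.le_def]; omega
          have := hdec i j hij
          omega
    · right
      refine ⟨N, hN, ha, fun p hp hd => ?_, hNle.trans hle, fun j hj => hsm j ?_⟩
      · rw [← Subgroup.relIndex_mul_relIndex N _ _ hNle hle] at hd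
        rcases hp.dvd_mul.1 hd with h | h
        · exact hb p hp h
        · rw [(Nat.prime_dvd_prime_iff_eq hp hpr).1 h]
          exact hsm i le_rfl
      · rw [Fin.le_def] at hj ⊢
        simp only [Fin.val_succ, Fin.val_castSucc] at hj ⊢
        omega

end Cfsg.Agent.H74.Tower
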