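import Mathlib.GroupTheory.Sylow
import Mathlib.GroupTheory.Index
import Mathlib.GroupTheory.Complement
import Mathlib.GroupTheory.OrderOfElement
import Mathlib.GroupTheory.Nilpotent
import Mathlib.GroupTheory.SchurZassenhaus
import Cfsg.Agent.H26.Invol
import Mathlib.Algebra.Group.Conj

/-!
When a Sylow subgroup is a direct factor.
-/

namespace Cfsg.Agent.H74.PFactor

open Subgroup

variable {G : Type*} [Group G] [Finite G] {p : ℕ} [Fact p.Prime]

/-- The number of conjugates of `x` is the index of its centralizer. -/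
theorem card_conjugates (x : G) :
    Nat.card {z : G // IsConj x z} = (centralizer ({x} : Set G)).index := by
  have h1 := Cfsg.Agent.H26.card_conj_mul_card_centralizer x
  have h2 := Subgroup.index_mul_card (centralizer ({x} : Set G))
  exact Nat.eq_of_mul_eq_mul_right Nat.card_pos (h1.trans h2.symm)

theorem commute_of_index_eq {x y : G}
    (h : (centralizer ({x * y} : Set G)).index =
      (centralizer ({x} : Set G)).index * (centralizer ({y} : Set G)).index) : x * y = y * x := by
  classical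
  rw [← card_conjugates, ← card_conjugates, ← card_conjugates] at h
  let S : Set G := Set.range (fun w : {z // IsConj x z} × {z // IsConj y z} => (w.1 : G) * w.2)
  have hsub : {z : G | IsConj (x * y) z} ⊆ S := by
    intro z hz
    obtain ⟨c, rfl⟩ := isConj_iff.1 hz
    exact ⟨(⟨c * x * c⁻¹, isConj_iff.2 ⟨c, rfl⟩⟩, ⟨c * y * c⁻¹, isConj_iff.2 ⟨c, rfl⟩⟩),
      by simp⟩
  have h1 : Nat.card ({z : G // IsConj x z} × {z : G // IsConj y z}) ≤ Nat.card S := by
    rw [Nat.card_prod, ← h]
    exact Nat.card_mono (Set.toFinite _) hsub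
  have hinj : Function.Injective
      (Set.rangeFactorization fun w : {z // IsConj x z} × {z // IsConj y z} => (w.1 : G) * w.2) :=
    ((Nat.bijective_iff_surjective_and_card _).2 ⟨Set.rangeFactorization_surjective,
      le_antisymm h1 (Nat.card_le_card_of_surjective _ Set.rangeFactorization_surjective)⟩).1
  have h2 := @hinj (⟨x, IsConj.refl x⟩, ⟨y, IsConj.refl y⟩)
    (⟨(x * y) * x * (x * y)⁻¹, isConj_iff.2 ⟨x * y, rfl⟩⟩,
     ⟨(x * y) * y * (x * y)⁻¹, isConj_iff.2 ⟨x * y, rfl⟩⟩) (Subtype.ext (by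
      simp [Set.rangeFactorization, mul_assoc]))
  have h3 : y = (x * y) * y * (x * y)⁻¹ := congrArg (fun w => ((w.2 : {z // IsConj y z}) : G)) h2
  have h4 : x * y * y * (x * y)⁻¹ = x * y * x⁻¹ := by group
  exact (eq_mul_inv_iff_mul_eq.1 (h3.trans h4)).symm

theorem commute_of_direct (P : Sylow p G) (K : Subgroup G) (hinf : (P : Subgroup G) ⊓ K = ⊥)
    (hsup : (P : Subgroup G) ⊔ K = ⊤) (hP : (P : Subgroup G).Normal) (hK : K.Normal) {x y : G}
    {a : ℕ} (hx : orderOf x = p ^ a) {q b : ℕ} (hq : q.Prime) (hqp : q ≠ p)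
    (hy : orderOf y = q ^ b) : x ∈ (P : Subgroup G) ∧ y ∈ K ∧ x * y = y * x := by
  have hcompl : IsComplement' K (P : Subgroup G) := by
    refine Subgroup.isComplement'_of_disjoint_and_mul_eq_univ (disjoint_iff.2 ((inf_comm _ _).trans hinf)) ?_
    rw [← Subgroup.normal_mul, sup_comm, hsup]; rfl
  obtain ⟨c, hc⟩ : ∃ c, Nat.card P = p ^ c := P.2.exists_card_eq
  have hxP : x ∈ (P : Subgroup G) := by
    rw [← QuotientGroup.eq_one_iff x, ← orderOf_eq_one_iff]
    have h1 : orderOf (QuotientGroup.mk' (P : Subgroup G) x) ∣ p ^ a := hx ▸ orderOf_map_dvd _ _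
    have h2 : orderOf (QuotientGroup.mk' (P : Subgroup G) x) ∣ (P : Subgroup G).index := orderOf_dvd_natCard _
    exact Nat.dvd_one.1 (((Nat.Prime.coprime_iff_not_dvd Fact.out).2 P.not_dvd_index).pow_left a ▸
      Nat.dvd_gcd h1 h2)
  have hyK : y ∈ K := by
    rw [← QuotientGroup.eq_one_iff y, ← orderOf_eq_one_iff]
    have h1 : orderOf (QuotientGroup.mk' K y) ∣ q ^ b := hy ▸ orderOf_map_dvd _ _
    have h2 : orderOf (QuotientGroup.mk' K y) ∣ p ^ c := by
      rw [← hc, ← hcompl.symm.index_eq_card]; exact orderOf_dvd_natCard _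
    exact Nat.dvd_one.1 (((Nat.coprime_primes hq Fact.out).2 hqp).pow b c ▸ Nat.dvd_gcd h1 h2)
  exact ⟨hxP, hyK, Subgroup.commute_of_normal_of_disjoint _ _ hP hK (disjoint_iff.2 hinf) x y hxP hyK⟩

theorem index_centralizer_mul (P : Sylow p G) (K : Subgroup G) (hinf : (P : Subgroup G) ⊓ K = ⊥)
    (hsup : (P : Subgroup G) ⊔ K = ⊤) (hP : (P : Subgroup G).Normal) (hK : K.Normal) {x y : G}
    {a : ℕ} (hx : orderOf x = p ^ a) {q b : ℕ} (hq : q.Prime) (hqp : q ≠ p)
    (hy : orderOf y = q ^ b) :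
    (centralizer ({x * y} : Set G)).index =
      (centralizer ({x} : Set G)).index * (centralizer ({y} : Set G)).index := by
  obtain ⟨hxP, hyK, hxy⟩ := commute_of_direct P K hinf hsup hP hK hx hq hqp hy
  have hcompl : IsComplement' K (P : Subgroup G) := by
    refine Subgroup.isComplement'_of_disjoint_and_mul_eq_univ (disjoint_iff.2 ((inf_comm _ _).trans hinf)) ?_
    rw [← Subgroup.normal_mul, sup_comm, hsup]; rfl
  have hcop : (orderOf x).Coprime (orderOf y) := by
    rw [hx, hy]; exact ((Nat.coprime_primes Fact.out hq).2 hqp.symm).pow a b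
  have hC : centralizer ({x * y} : Set G) = centralizer {x} ⊓ centralizer {y} := by
    ext g
    simp only [mem_inf, mem_centralizer_singleton_iff]
    constructor
    · intro h
      have hc : Commute g (x * y) := h
      have h1 : Commute g (x ^ orderOf y) := by
        have := hc.pow_right (orderOf y)
        rwa [Commute.mul_pow hxy, pow_orderOf_eq_one, mul_one] at this
      obtain ⟨k, hk⟩ := exists_pow_eq_self_of_coprime hcop.symm
      have hgx : Commute g x := hk ▸ h1.pow_right k
      refine ⟨hgx, ?_⟩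
      have := hgx.inv_right.mul_right hc
      rwa [inv_mul_cancel_left] at this
    · rintro ⟨h1, h2⟩
      exact Commute.mul_right h1 h2
  have h1 : (centralizer ({x} : Set G)).index ∣ Nat.card P := by
    rw [← hcompl.symm.index_eq_card]
    refine Subgroup.index_dvd_of_le fun g hg => ?_
    rw [mem_centralizer_singleton_iff]
    exact (Subgroup.commute_of_normal_of_disjoint _ _ hP hK (disjoint_iff.2 hinf) x g hxP hg).symm
  have h2 : (centralizer ({y} : Set G)).index ∣ (P : Subgroup G).index := by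
    refine Subgroup.index_dvd_of_le fun g hg => ?_
    rw [mem_centralizer_singleton_iff]
    exact (Subgroup.commute_of_normal_of_disjoint _ _ hP hK (disjoint_iff.2 hinf) g y hg hyK)
  have hcop2 : (centralizer ({x} : Set G)).index.Coprime (centralizer ({y} : Set G)).index :=
    Nat.Coprime.of_dvd h1 h2 P.card_coprime_index
  rw [hC]
  refine le_antisymm Subgroup.index_inf_le ?_
  exact Nat.le_of_dvd (Nat.pos_of_ne_zero Subgroup.index_ne_zero_of_finite)
    (hcop2.mul_dvd_of_dvd_of_dvd (Subgroup.index_dvd_of_le inf_le_left)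
      (Subgroup.index_dvd_of_le inf_le_right))

theorem exists_direct_of_commute
    (h : ∀ x y : G, (∃ a : ℕ, orderOf x = p ^ a) → (∃ q b : ℕ, q.Prime ∧ q ≠ p ∧ orderOf y = q ^ b) →
      x * y = y * x) :
    ∃ (P : Sylow p G) (K : Subgroup G), (P : Subgroup G).Normal ∧ K.Normal ∧
      (P : Subgroup G) ⊓ K = ⊥ ∧ (P : Subgroup G) ⊔ K = ⊤ := by
  obtain ⟨P⟩ : Nonempty (Sylow p G) := inferInstance
  set C := centralizer ((P : Subgroup G) : Set G) with hC
  have hQ : ∀ (q : ℕ) [Fact q.Prime], q ≠ p → ∀ Q : Sylow q G, (Q : Subgroup G) ≤ C := by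
    intro q _ hqp Q g hg
    rw [hC, mem_centralizer_iff]
    intro x hx
    obtain ⟨a, ha⟩ := P.2 ⟨x, hx⟩
    obtain ⟨b, hb⟩ := Q.2 ⟨g, hg⟩
    have ha' : x ^ p ^ a = 1 := congrArg Subtype.val ha
    have hb' : g ^ q ^ b = 1 := congrArg Subtype.val hb
    obtain ⟨i, -, hi⟩ := (Nat.dvd_prime_pow Fact.out).1 (orderOf_dvd_of_pow_eq_one ha')
    obtain ⟨j, -, hj⟩ := (Nat.dvd_prime_pow Fact.out).1 (orderOf_dvd_of_pow_eq_one hb')
    exact h x g ⟨i, hi⟩ ⟨q, j, Fact.out, hqp, hj⟩
  have hCidx : ∀ (N : Subgroup G), C ≤ N → ∀ q : ℕ, q.Prime → q ∣ N.index → q = p := by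
    intro N hN q hq hd
    by_contra hne
    haveI : Fact q.Prime := ⟨hq⟩
    obtain ⟨Q⟩ : Nonempty (Sylow q G) := inferInstance
    exact Q.not_dvd_index (hd.trans (Subgroup.index_dvd_of_le ((hQ q hne Q).trans hN)))
  have hP : (P : Subgroup G).Normal := by
    rw [← normalizer_eq_top_iff, ← Subgroup.index_eq_one]
    by_contra hne
    obtain ⟨q, hq, hd⟩ := Nat.exists_prime_and_dvd hne
    have hqp := hCidx _ (centralizer_le_normalizer _) q hq hd
    subst hqp
    exact P.not_dvd_index (hd.trans (Subgroup.index_dvd_of_le le_normalizer))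
  obtain ⟨K, hK⟩ := Subgroup.exists_right_complement'_of_coprime P.card_coprime_index
  haveI : C.Normal := by rw [hC]; infer_instance
  have hKC : K ≤ C := by
    intro y hy
    rw [← QuotientGroup.eq_one_iff y, ← orderOf_eq_one_iff]
    by_contra hne
    obtain ⟨q, hq, hd⟩ := Nat.exists_prime_and_dvd hne
    have h1 : q = p := hCidx C le_rfl q hq (hd.trans (orderOf_dvd_natCard _))
    subst h1
    have h2 : q ∣ Nat.card K :=
      (hd.trans (orderOf_map_dvd (QuotientGroup.mk' C) y)).trans (Subgroup.orderOf_dvd_natCard _ hy)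
    rw [← hK.symm.index_eq_card] at h2
    exact P.not_dvd_index h2
  have hsup : (P : Subgroup G) ⊔ K = ⊤ := hK.sup_eq_top
  have hKn : K.Normal := by
    rw [← normalizer_eq_top_iff, eq_top_iff, ← hsup, sup_le_iff]
    refine ⟨fun x hx => ?_, le_normalizer⟩
    refine mem_normalizer_iff.2 fun g => ?_
    constructor
    · intro hg
      rwa [(mem_centralizer_iff.1 (hKC hg)) x hx, mul_inv_cancel_right]
    · intro hg
      have h1 := (mem_centralizer_iff.1 (hKC hg)) x hx
      rw [show x * (x * g * x⁻¹) = x * (x * g * x⁻¹) from rfl] at h1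
      have h2 : g = x * g * x⁻¹ := by
        calc g = x⁻¹ * (x * g * x⁻¹ * x) := by group
          _ = x⁻¹ * (x * (x * g * x⁻¹)) := by rw [h1]
          _ = x * g * x⁻¹ := by group
      rwa [h2]
  exact ⟨P, K, hP, hKn, disjoint_iff.1 hK.disjoint, hsup⟩

end Cfsg.Agent.H74.PFactor
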