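import Cfsg.Agent.H84.FrobeniusCount
import Cfsg.Agent.H87.CyclicCount

/-!
Groups whose numbers of elements of equal order take few values: arithmetic.
-/

namespace Cfsg.Agent.H74.SameCount

variable (G : Type*) [Group G] [Finite G]

/-- The number of elements of order `m`. -/
noncomputable def cnt (m : ℕ) : ℕ := Nat.card {g : G // orderOf g = m}

/-- For `m > 2` only the two values `a` and `b` occur. -/
def TwoVal (a b : ℕ) : Prop :=
  1 < a ∧ 1 < b ∧ a ≠ b ∧ ∀ m, 2 < m → cnt G m = 0 ∨ cnt G m = a ∨ cnt G m = b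

variable {G}

theorem TwoVal.swap {a b : ℕ} (h : TwoVal G a b) : TwoVal G b a :=
  ⟨h.2.1, h.1, h.2.2.1.symm, fun m hm => (h.2.2.2 m hm).imp_right Or.symm⟩

theorem cnt_one : cnt G 1 = 1 := by
  rw [cnt, Nat.card_eq_one_iff_unique]
  exact ⟨⟨fun x y => Subtype.ext ((orderOf_eq_one_iff.1 x.2).trans (orderOf_eq_one_iff.1 y.2).symm)⟩,
    ⟨⟨1, orderOf_one⟩⟩⟩

theorem totient_dvd_cnt (m : ℕ) : m.totient ∣ cnt G m := by
  rw [cnt, H87.CyclicCount.card_eq_mul (fun x : G => orderOf x = m)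
    (fun x y hx h => by rw [← Nat.card_zpowers, h, Nat.card_zpowers, hx]) m (fun _ h => h)]
  exact dvd_mul_left _ _

theorem cnt_ne_zero_iff {m : ℕ} : cnt G m ≠ 0 ↔ ∃ g : G, orderOf g = m := by
  rw [← Nat.pos_iff_ne_zero, cnt, Nat.card_pos_iff, nonempty_subtype]
  exact and_iff_left inferInstance

theorem cnt_prime_ne_zero {p : ℕ} [Fact p.Prime] (h : p ∣ Nat.card G) : cnt G p ≠ 0 :=
  cnt_ne_zero_iff.2 (exists_prime_orderOf_dvd_card' p h)

theorem sum_cnt {m : ℕ} (hm : m ≠ 0) :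
    ∑ d ∈ m.divisors, cnt G d = Nat.card {g : G // g ^ m = 1} := by
  classical
  cases nonempty_fintype G
  rw [Nat.card_eq_fintype_card, Fintype.card_subtype,
    Finset.card_eq_sum_card_fiberwise (f := fun g : G => orderOf g) (t := m.divisors)]
  · refine Finset.sum_congr rfl fun d hd => ?_
    rw [cnt, Nat.card_eq_fintype_card, Fintype.card_subtype]
    refine congrArg Finset.card (Finset.ext fun g => ?_)
    simp only [Finset.mem_filter, Finset.mem_univ, true_and]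
    refine ⟨fun h => ⟨orderOf_dvd_iff_pow_eq_one.1 (h ▸ (Nat.mem_divisors.1 hd).1), h⟩, fun h => h.2⟩
  · intro g hg
    simp only [Finset.coe_filter, Finset.mem_univ, true_and, Set.mem_setOf_eq] at hg
    exact Nat.mem_divisors.2 ⟨orderOf_dvd_iff_pow_eq_one.2 hg, hm⟩

theorem sum_divisors_prime_mul {M : Type*} [AddCommMonoid M] (f : ℕ → M) {p m : ℕ} (hp : p.Prime)
    (hpm : ¬ p ∣ m) :
    ∑ d ∈ (p * m).divisors, f d = ∑ d ∈ m.divisors, f d + ∑ d ∈ m.divisors, f (p * d) := by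
  classical
  have hinj : Function.Injective (fun d : ℕ => p * d) := fun x y h => Nat.eq_of_mul_eq_mul_left hp.pos h
  have hm0 : m ≠ 0 := fun h => hpm (h ▸ dvd_zero p)
  have h1 : (p * m).divisors = m.divisors ∪ m.divisors.image (fun d => p * d) := by
    ext d
    simp only [Finset.mem_union, Finset.mem_image, Nat.mem_divisors]
    constructor
    · rintro ⟨hd, -⟩
      by_cases hpd : p ∣ d
      · obtain ⟨e, rfl⟩ := hpd
        exact Or.inr ⟨e, ⟨Nat.dvd_of_mul_dvd_mul_left hp.pos hd, hm0⟩, rfl⟩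
      · exact Or.inl ⟨((hp.coprime_iff_not_dvd.2 hpd).symm).dvd_of_dvd_mul_left hd, hm0⟩
    · rintro (⟨hd, -⟩ | ⟨e, ⟨he, -⟩, rfl⟩)
      · exact ⟨hd.mul_left p, mul_ne_zero hp.ne_zero hm0⟩
      · exact ⟨mul_dvd_mul_left p he, mul_ne_zero hp.ne_zero hm0⟩
  rw [h1, Finset.sum_union, Finset.sum_image fun x _ y _ h => hinj h]
  rw [Finset.disjoint_left]
  intro d hd hd'
  obtain ⟨e, -, rfl⟩ := Finset.mem_image.1 hd'
  exact hpm ((dvd_mul_right p e).trans (Nat.mem_divisors.1 hd).1)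

theorem zmod_sum {p m : ℕ} (hpm : p ∣ m) (hm : m ∣ Nat.card G) :
    ∑ d ∈ m.divisors, (cnt G d : ZMod p) = 0 := by
  rw [← Nat.cast_sum, sum_cnt (fun h => Nat.card_pos.ne' (Nat.eq_zero_of_zero_dvd (h ▸ hm))),
    (ZMod.natCast_eq_zero_iff _ _)]
  exact hpm.trans (H84.dvd_card_pow_eq_one hm)

section primes

variable {p q r : ℕ} [hp : Fact p.Prime]

theorem sum_prime (hd : p ∣ Nat.card G) : (1 + cnt G p : ZMod p) = 0 := by
  have h := zmod_sum (G := G) dvd_rfl hd
  rwa [← mul_one p, sum_divisors_prime_mul _ hp.out (fun h => hp.out.ne_one (Nat.eq_one_of_dvd_one h)),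
    Nat.divisors_one, Finset.sum_singleton, Finset.sum_singleton, cnt_one, mul_one, Nat.cast_one] at h

theorem dvd_mul_card [hq : Fact q.Prime] (hne : p ≠ q) (hpd : p ∣ Nat.card G) (hqd : q ∣ Nat.card G) :
    p * q ∣ Nat.card G :=
  ((Nat.coprime_primes hp.out hq.out).2 hne).mul_dvd_of_dvd_of_dvd hpd hqd

theorem not_dvd_prime [hq : Fact q.Prime] (hne : p ≠ q) : ¬ p ∣ q := fun h =>
  hne ((Nat.prime_dvd_prime_iff_eq hp.out hq.out).1 h)

theorem not_dvd_one : ¬ p ∣ 1 := fun h => hp.out.ne_one (Nat.eq_one_of_dvd_one h)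

theorem expand_two [hq : Fact q.Prime] (hne : p ≠ q) {M : Type*} [AddCommMonoid M] (f : ℕ → M) :
    ∑ d ∈ (p * q).divisors, f d = f 1 + f q + (f p + f (p * q)) := by
  rw [sum_divisors_prime_mul f hp.out (not_dvd_prime hne), hq.out.divisors]
  simp [Finset.sum_pair hq.out.ne_one.symm]

theorem sum_two [Fact q.Prime] (hne : p ≠ q) (hpd : p ∣ Nat.card G) (hqd : q ∣ Nat.card G) :
    (1 + cnt G p + cnt G q + cnt G (p * q) : ZMod p) = 0 := by
  have h := zmod_sum (G := G) (dvd_mul_right p q) (dvd_mul_card hne hpd hqd)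
  rw [expand_two hne, cnt_one, Nat.cast_one] at h
  linear_combination h

theorem sum_two' [Fact q.Prime] (hne : p ≠ q) (hpd : p ∣ Nat.card G) (hqd : q ∣ Nat.card G) :
    (1 + cnt G p + cnt G q + cnt G (p * q) : ZMod q) = 0 := by
  have h := sum_two (p := q) (q := p) hne.symm hqd hpd
  rw [mul_comm p q]
  linear_combination h

theorem two_ne_zero (hp2 : p ≠ 2) : (2 : ZMod p) ≠ 0 := fun h =>
  hp2 ((Nat.prime_dvd_prime_iff_eq hp.out Nat.prime_two).1
    (((ZMod.natCast_eq_zero_iff _ _)).1 (by exact_mod_cast h)))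

/-- A count congruent to `1` modulo `p` forbids elements of order `p ^ 2`. -/
theorem cnt_sq {a b : ℕ} (hV : TwoVal G a b) (hpd : p ∣ Nat.card G) (hpa : cnt G p = a)
    (hb : (b : ZMod p) ≠ 0) : cnt G (p ^ 2) = 0 := by
  have h0 : (cnt G (p ^ 2) : ZMod p) = 0 := by
    rw [(ZMod.natCast_eq_zero_iff _ _)]
    refine dvd_trans ?_ (totient_dvd_cnt _)
    rw [Nat.totient_prime_pow hp.out two_pos, show 2 - 1 = 1 from rfl, pow_one]
    exact dvd_mul_right _ _
  have h1 : (1 + a : ZMod p) = 0 := hpa ▸ sum_prime hpd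
  have h2 : 2 < p ^ 2 := by nlinarith [hp.out.two_le]
  rcases hV.2.2.2 _ h2 with h | h | h
  · exact h
  · rw [h] at h0; rw [h0, add_zero] at h1; exact absurd h1 one_ne_zero
  · exact absurd (h ▸ h0) hb

theorem two_lt_mul [hq : Fact q.Prime] : 2 < p * q := by
  nlinarith [hp.out.two_le, hq.out.two_le]

/-- Two primes with the same count force the other count to be `1` modulo each. -/
theorem same_pair [Fact q.Prime] {a b : ℕ} (hV : TwoVal G a b) (hp2 : p ≠ 2) (hne : p ≠ q)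
    (hpd : p ∣ Nat.card G) (hqd : q ∣ Nat.card G) (hpa : cnt G p = a) (hqa : cnt G q = a) :
    cnt G (p * q) = b ∧ (b : ZMod p) = 1 := by
  have h := sum_two hne hpd hqd
  have h1 := sum_prime (G := G) hpd
  rw [hpa] at h h1
  rw [hqa] at h
  have hc : (cnt G (p * q) : ZMod p) = 1 := by linear_combination h - 2 * h1
  rcases hV.2.2.2 _ (two_lt_mul (p := p) (q := q)) with e | e | e
  · rw [e, Nat.cast_zero] at hc; exact absurd hc zero_ne_one
  · rw [e] at hc; exact absurd (show (2 : ZMod p) = 0 by linear_combination h1 - hc) (two_ne_zero hp2)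
  · exact ⟨e, e ▸ hc⟩

/-- Three odd primes cannot split two to one. -/
theorem three_split [hq : Fact q.Prime] [hr : Fact r.Prime] {a b : ℕ} (hV : TwoVal G a b)
    (hp2 : p ≠ 2) (hq2 : q ≠ 2) (hr2 : r ≠ 2) (hpq : p ≠ q) (hpr : p ≠ r) (hqr : q ≠ r)
    (hpd : p ∣ Nat.card G) (hqd : q ∣ Nat.card G) (hrd : r ∣ Nat.card G)
    (hpa : cnt G p = a) (hqa : cnt G q = a) (hrb : cnt G r = b) : False := by
  obtain ⟨hcpq, hbp⟩ := same_pair hV hp2 hpq hpd hqd hpa hqa
  obtain ⟨-, hbq⟩ := same_pair hV hq2 hpq.symm hqd hpd hqa hpa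
  have hside : ∀ (s : ℕ) [Fact s.Prime], s ≠ 2 → s ≠ r → s ∣ Nat.card G → cnt G s = a →
      (b : ZMod s) = 1 → cnt G (s * r) = a := by
    intro s _ hs2 hsr hsd hsa hbs
    have h := sum_two hsr hsd hrd
    have h1 := sum_prime (G := G) hsd
    rw [hsa] at h h1
    rw [hrb, hbs] at h
    have hc : (cnt G (s * r) : ZMod s) = -1 := by linear_combination h - h1
    rcases hV.2.2.2 _ (two_lt_mul (p := s) (q := r)) with e | e | e
    · rw [e, Nat.cast_zero] at hc; exact absurd hc.symm (neg_ne_zero.2 one_ne_zero)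
    · exact e
    · rw [e, hbs] at hc; exact absurd (show (2 : ZMod s) = 0 by linear_combination hc) (two_ne_zero hs2)
  have hcpr := hside p hp2 hpr hpd hpa hbp
  have hcqr := hside q hq2 hqr hqd hqa hbq
  have hr1 : (1 + b : ZMod r) = 0 := hrb ▸ sum_prime hrd
  have ha : (a : ZMod r) = 0 := by
    have h := sum_two' hpr hpd hrd
    rw [hpa, hrb, hcpr] at h
    have : (2 : ZMod r) * a = 0 := by linear_combination h - hr1
    exact (mul_eq_zero.1 this).resolve_left (two_ne_zero hr2)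
  have hndvd : ¬ p ∣ q * r := fun h => (hp.out.dvd_mul.1 h).elim (not_dvd_prime hpq) (not_dvd_prime hpr)
  have h := zmod_sum (G := G) (p := r) (m := p * (q * r)) (dvd_mul_of_dvd_right (dvd_mul_left r q) p)
    ((hp.out.coprime_iff_not_dvd.2 hndvd).mul_dvd_of_dvd_of_dvd hpd (dvd_mul_card hqr hqd hrd))
  rw [sum_divisors_prime_mul _ hp.out hndvd, expand_two hqr, expand_two hqr, cnt_one, hqa, hrb, hcqr,
    mul_one, hpa, hcpq, hcpr, ha, Nat.cast_one] at h
  have hc : (cnt G (p * (q * r)) : ZMod r) = 1 := by linear_combination h - 2 * hr1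
  rcases hV.2.2.2 _ (show 2 < p * (q * r) by have := Nat.mul_le_mul hp.out.two_le (Nat.mul_le_mul hq.out.two_le hr.out.two_le); omega) with
    e | e | e
  · rw [e, Nat.cast_zero] at hc; exact absurd hc zero_ne_one
  · rw [e, ha] at hc; exact absurd hc zero_ne_one
  · rw [e] at hc; exact absurd (show (2 : ZMod r) = 0 by linear_combination hr1 - hc) (two_ne_zero hr2)

omit hp in
theorem cast_dvd_of {s : ℕ} {x : ℕ} (h : (x : ZMod s) = 0) : s ∣ x :=
  (ZMod.natCast_eq_zero_iff _ _).1 h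

end primes

theorem pow_dvd_succ {p : ℕ} [hp : Fact p.Prime] (hsq : cnt G (p ^ 2) = 0) {k : ℕ}
    (hk : p ^ k ∣ Nat.card G) : p ^ k ∣ 1 + cnt G p := by
  rcases Nat.eq_zero_or_pos k with rfl | hk0
  · simp
  have h := H84.dvd_card_pow_eq_one hk
  rw [← sum_cnt (pow_ne_zero k hp.out.ne_zero), Nat.sum_divisors_prime_pow hp.out] at h
  have h2 : ∀ i, 2 ≤ i → cnt G (p ^ i) = 0 := by
    intro i hi
    by_contra hne
    obtain ⟨g, hg⟩ := cnt_ne_zero_iff.1 hne
    refine cnt_ne_zero_iff.2 ⟨g ^ p ^ (i - 2), ?_⟩ hsq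
    rw [orderOf_pow_of_dvd (pow_ne_zero _ hp.out.ne_zero) (hg ▸ pow_dvd_pow p (by omega)), hg,
      Nat.pow_div (by omega) hp.out.pos, Nat.sub_sub_self hi]
  rw [Finset.range_eq_Ico, Finset.sum_eq_sum_Ico_succ_bot (by omega),
    Finset.sum_eq_sum_Ico_succ_bot (by omega), Finset.sum_eq_zero, pow_zero, cnt_one, pow_one,
    add_zero] at h
  · exact h
  · intro i hi
    exact h2 i (by rw [Finset.mem_Ico] at hi; omega)

/-- Three odd primes. -/
theorem odd_primes_le {a b : ℕ} (hV : TwoVal G a b) (hfour : ¬ 4 ∣ Nat.card G) :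
    ((Nat.card G).primeFactors.erase 2).card ≤ 2 := by
  classical
  by_contra hcard
  push_neg at hcard
  set T := (Nat.card G).primeFactors.erase 2
  obtain ⟨p, q, r, hpT, hqT, hrT, hpq, hpr, hqr⟩ := Finset.two_lt_card_iff.1 hcard
  have hT : ∀ s ∈ T, s.Prime ∧ s ≠ 2 ∧ s ∣ Nat.card G := fun s hs =>
    ⟨Nat.prime_of_mem_primeFactors (Finset.mem_of_mem_erase hs), Finset.ne_of_mem_erase hs,
      Nat.dvd_of_mem_primeFactors (Finset.mem_of_mem_erase hs)⟩
  have hval : ∀ s ∈ T, cnt G s = a ∨ cnt G s = b := fun s hs => by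
    haveI : Fact s.Prime := ⟨(hT s hs).1⟩
    exact (hV.2.2.2 s (lt_of_le_of_ne (hT s hs).1.two_le (hT s hs).2.1.symm)).resolve_left
      (cnt_prime_ne_zero (hT s hs).2.2)
  have hthree : ∀ s ∈ T, ∀ t ∈ T, ∀ u ∈ T, s ≠ t → s ≠ u → t ≠ u →
      ∀ c d, TwoVal G c d → cnt G s = c → cnt G t = c → cnt G u = d → False := by
    intro s hs t ht u hu h1 h2 h3 c d hcd e1 e2 e3
    haveI : Fact s.Prime := ⟨(hT s hs).1⟩
    haveI : Fact t.Prime := ⟨(hT t ht).1⟩
    haveI : Fact u.Prime := ⟨(hT u hu).1⟩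
    exact three_split hcd (hT s hs).2.1 (hT t ht).2.1 (hT u hu).2.1 h1 h2 h3 (hT s hs).2.2 (hT t ht).2.2
      (hT u hu).2.2 e1 e2 e3
  suffices hall : ∀ c d, TwoVal G c d → cnt G p = c → False by
    rcases hval p hpT with e | e
    · exact hall a b hV e
    · exact hall b a hV.swap e
  intro c d hcd hpc
  have hcd' : ∀ s ∈ T, cnt G s = c ∨ cnt G s = d := fun s hs => by
    haveI : Fact s.Prime := ⟨(hT s hs).1⟩
    exact (hcd.2.2.2 s (lt_of_le_of_ne (hT s hs).1.two_le (hT s hs).2.1.symm)).resolve_left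
      (cnt_prime_ne_zero (hT s hs).2.2)
  have hall : ∀ s ∈ T, cnt G s = c := by
    intro s hs
    refine (hcd' s hs).resolve_right fun hsd => ?_
    have hsp : s ≠ p := fun e => hcd.2.2.1 (by rw [← hpc, ← e, hsd])
    obtain ⟨t, htT, hts, htp⟩ : ∃ t ∈ T, t ≠ s ∧ t ≠ p := by
      rcases eq_or_ne q s with rfl | h
      · exact ⟨r, hrT, hqr.symm, hpr.symm⟩
      · exact ⟨q, hqT, h, hpq.symm⟩
    rcases hcd' t htT with e | e
    · exact hthree p hpT t htT s hs htp.symm hsp.symm hts c d hcd hpc e hsd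
    · exact hthree t htT s hs p hpT hts htp hsp d c hcd.swap e hsd hpc
  have hdvd : Nat.card G ∣ 2 * (1 + c) := by
    rw [Nat.dvd_iff_prime_pow_dvd_dvd]
    intro s k hs hk
    rcases eq_or_ne s 2 with rfl | hs2
    · have : k ≤ 1 := by
        by_contra hk2
        exact hfour (dvd_trans (by exact pow_dvd_pow 2 (by omega : 2 ≤ k)) hk)
      exact dvd_mul_of_dvd_left ((pow_dvd_pow 2 this).trans (by norm_num)) _
    rcases Nat.eq_zero_or_pos k with rfl | hk0
    · simp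
    haveI : Fact s.Prime := ⟨hs⟩
    have hsT : s ∈ T := Finset.mem_erase.2 ⟨hs2, hs.mem_primeFactors
      ((dvd_pow_self s hk0.ne').trans hk) Nat.card_pos.ne'⟩
    obtain ⟨t, htT, hts⟩ : ∃ t ∈ T, t ≠ s := by
      rcases eq_or_ne p s with rfl | h
      · exact ⟨q, hqT, hpq.symm⟩
      · exact ⟨p, hpT, h⟩
    haveI : Fact t.Prime := ⟨(hT t htT).1⟩
    have hb := (same_pair hcd hs2 hts.symm (hT s hsT).2.2 (hT t htT).2.2 (hall s hsT) (hall t htT)).2
    exact dvd_mul_of_dvd_right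
      (hall s hsT ▸ pow_dvd_succ (cnt_sq hcd (hT s hsT).2.2 (hall s hsT) (hb ▸ one_ne_zero)) hk) _
  haveI : Fact p.Prime := ⟨(hT p hpT).1⟩
  haveI : Fact q.Prime := ⟨(hT q hqT).1⟩
  obtain ⟨hpqd, -⟩ := same_pair hcd (hT p hpT).2.1 hpq (hT p hpT).2.2 (hT q hqT).2.2 hpc (hall q hqT)
  have hle : 1 + c + c + d ≤ Nat.card G := by
    have h1 := sum_cnt (G := G) (mul_ne_zero (hT p hpT).1.ne_zero (hT q hqT).1.ne_zero)
    rw [expand_two hpq, cnt_one, hpc, hall q hqT, hpqd] at h1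
    have h2 : Nat.card {g : G // g ^ (p * q) = 1} ≤ Nat.card G :=
      Nat.card_le_card_of_injective Subtype.val Subtype.val_injective
    omega
  have := Nat.le_of_dvd (by omega) hdvd
  have := hcd.2.1
  omega

end Cfsg.Agent.H74.SameCount
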