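import Cfsg.Agent.H74.SameCount
import Cfsg.Agent.H74.LocalTI
import Cfsg.Prelude.Def_Solvable
import Cfsg.Agent.S0144

/-!
Groups whose numbers of elements of equal order take few values: structure.
-/

namespace Cfsg.Agent.H74.SameCount

open Subgroup
open scoped IsMulCommutative

variable {G : Type*} [Group G] [Finite G] {p q : ℕ}

/-- A value list of length three. -/
theorem exists_values (h : (((fun m : ℕ => Nat.card {g : G // orderOf g = m}) '' Set.range (orderOf : G → ℕ))).ncard = 3) :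
    ∃ a b, TwoVal G a b ∧ (cnt G 2 ≤ 1 ∨ cnt G 2 = a) := by
  set S := (fun m : ℕ => Nat.card {g : G // orderOf g = m}) '' Set.range (orderOf : G → ℕ) with hS
  have hmem : ∀ m, cnt G m ≠ 0 → cnt G m ∈ S := fun m hm => by
    obtain ⟨g, hg⟩ := cnt_ne_zero_iff.1 hm
    exact ⟨m, ⟨g, hg⟩, rfl⟩
  have h0 : ∀ x ∈ S, x ≠ 0 := by
    rintro x ⟨m, ⟨g, hg⟩, rfl⟩
    exact cnt_ne_zero_iff.2 ⟨g, hg⟩
  have h1 : (1 : ℕ) ∈ S := by
    have := hmem 1 (by rw [cnt_one]; exact one_ne_zero)
    rwa [cnt_one] at this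
  have hd := Set.ncard_diff_singleton_of_mem h1
  rw [h] at hd
  obtain ⟨a, b, hab, hd⟩ := Set.ncard_eq_two.1 hd
  have ha : a ∈ S \ {1} := by rw [hd]; simp
  have hb : b ∈ S \ {1} := by rw [hd]; simp
  have hval : ∀ x ∈ S, x = 1 ∨ x = a ∨ x = b := fun x hx => by
    by_cases hx1 : x = 1
    · exact Or.inl hx1
    · have : x ∈ ({a, b} : Set ℕ) := hd ▸ ⟨hx, hx1⟩
      exact Or.inr this
  have ha1 : 1 < a := by
    have := h0 a ha.1; have : a ≠ 1 := ha.2; omega
  have hb1 : 1 < b := by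
    have := h0 b hb.1; have : b ≠ 1 := hb.2; omega
  have hV : TwoVal G a b := ⟨ha1, hb1, hab, fun m hm => by
    rcases eq_or_ne (cnt G m) 0 with e | e
    · exact Or.inl e
    rcases hval _ (hmem m e) with e1 | e1
    · have h2 := Nat.le_of_dvd (by omega) (totient_dvd_cnt (G := G) m)
      have h3 : Even m.totient := Nat.totient_even hm
      have h4 := Nat.totient_pos.2 (show 0 < m by omega)
      obtain ⟨k, hk⟩ := h3
      omega
    · exact Or.inr e1⟩
  by_cases h2 : cnt G 2 ≤ 1
  · exact ⟨a, b, hV, Or.inl h2⟩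
  rcases hval _ (hmem 2 (by omega)) with e | e | e
  · omega
  · exact ⟨a, b, hV, Or.inr e⟩
  · exact ⟨b, a, hV.swap, Or.inr e⟩

/-- An element of order `q` centralized by a Sylow `p`-subgroup makes mixed elements abundant. -/
theorem not_value_left [hp : Fact p.Prime] [hq : Fact q.Prime] {a b : ℕ} (hV : TwoVal G a b)
    (hq2 : q ≠ 2) (hne : p ≠ q) (hpd : p ∣ Nat.card G) (hqd : q ∣ Nat.card G)
    (hpa : cnt G p = a) (hqb : cnt G q = b) : cnt G (p * q) ≠ a := by
  classical
  intro hc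
  have h := sum_two hne hpd hqd
  have h1 := sum_prime (G := G) hpd
  rw [hpa, hqb, hc] at h
  rw [hpa] at h1
  have hb : (b : ZMod p) = 1 := by linear_combination h - 2 * h1
  obtain ⟨P⟩ : Nonempty (Sylow p G) := inferInstance
  letI : MulAction (P : Subgroup G) {y : G // orderOf y = q} :=
    { smul := fun g y => ⟨(g : G) * y * (g : G)⁻¹, ((MulAut.conj (g : G)).orderOf_eq y.1).trans y.2⟩
      one_smul := fun y => Subtype.ext (show (1 : G) * y * (1 : G)⁻¹ = y by group)
      mul_smul := fun g k y => Subtype.ext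
        (show ((g : G) * k) * y * ((g : G) * k)⁻¹ = g * (k * y * (k : G)⁻¹) * (g : G)⁻¹ by group) }
  have hfix := P.isPGroup'.card_modEq_card_fixedPoints {y : G // orderOf y = q}
  obtain ⟨⟨⟨y, hy⟩, hyf⟩⟩ : Nonempty (MulAction.fixedPoints (P : Subgroup G) {y : G // orderOf y = q}) := by
    by_contra hem
    rw [not_nonempty_iff] at hem
    rw [Nat.card_of_isEmpty (α := MulAction.fixedPoints (P : Subgroup G) {y : G // orderOf y = q}),
      show Nat.card {y : G // orderOf y = q} = b from hqb, ← ZMod.natCast_eq_natCast_iff, hb,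
      Nat.cast_zero] at hfix
    exact one_ne_zero hfix
  have hcent : ∀ x : {x : G // orderOf x = p}, ∃ w : G, orderOf w = q ∧ Commute x.1 w := by
    rintro ⟨x, hx⟩
    obtain ⟨S, hS⟩ := (IsPGroup.of_card (G := zpowers x) (p := p) (n := 1)
      (by rw [Nat.card_zpowers, hx, pow_one])).exists_le_sylow
    obtain ⟨g, rfl⟩ := MulAction.exists_smul_eq G P S
    have hxg := hS (mem_zpowers x)
    rw [Sylow.coe_subgroup_smul, Subgroup.mem_pointwise_smul_iff_inv_smul_mem] at hxg
    have hxg' : g⁻¹ * x * g ∈ (P : Subgroup G) := by simpa [MulAut.smul_def] using hxg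
    refine ⟨g * y * g⁻¹, ((MulAut.conj g).orderOf_eq y).trans hy, ?_⟩
    have e : g⁻¹ * x * g * y * (g⁻¹ * x * g)⁻¹ = y := congrArg Subtype.val (hyf ⟨_, hxg'⟩)
    show x * (g * y * g⁻¹) = g * y * g⁻¹ * x
    calc x * (g * y * g⁻¹) = g * (g⁻¹ * x * g * y * (g⁻¹ * x * g)⁻¹) * g⁻¹ * x := by group
      _ = g * y * g⁻¹ * x := by rw [e]
  choose w hw hxw using hcent
  have hcop : p.Coprime q := (Nat.coprime_primes hp.out hq.out).2 hne
  let F : {x : G // orderOf x = p} × Fin 2 → {g : G // orderOf g = p * q} := fun u =>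
    ⟨u.1.1 * w u.1 ^ (u.2.val + 1), by
      have ho : orderOf (w u.1 ^ (u.2.val + 1)) = q := by
        rw [Nat.Coprime.orderOf_pow, hw]
        rw [hw]
        have := u.2.2
        exact (hq.out.coprime_iff_not_dvd.2 fun hd => by
          have := Nat.le_of_dvd (by omega) hd
          have := hq.out.two_le
          omega)
      rw [((hxw u.1).pow_right _).orderOf_mul_eq_mul_orderOf_of_coprime (by rw [ho, u.1.2]; exact hcop),
        ho, u.1.2]⟩
  have hF : Function.Injective F := by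
    rintro ⟨x, i⟩ ⟨x', i'⟩ he
    have he' : x.1 * w x ^ (i.val + 1) = x'.1 * w x' ^ (i'.val + 1) := congrArg Subtype.val he
    have hq' : ∀ (z : {x : G // orderOf x = p}) (j : ℕ), (z.1 * w z ^ j) ^ q = z.1 ^ q := fun z j => by
      rw [((hxw z).pow_right j).mul_pow, ← pow_mul, mul_comm j q, pow_mul,
        ← hw z, pow_orderOf_eq_one, one_pow, mul_one]
    have hxx : x = x' := by
      refine Subtype.ext ?_
      have e := congrArg (· ^ q) he'
      simp only [hq'] at e
      obtain ⟨k, hk⟩ := exists_pow_eq_self_of_coprime (x := x.1) (n := q) (by rw [x.2]; exact hcop.symm)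
      obtain ⟨-, hkm⟩ : True ∧ q * k ≡ 1 [MOD p] := ⟨trivial, by
        rw [← x.2]
        exact pow_eq_pow_iff_modEq.mp (by rw [pow_mul, hk, pow_one])⟩
      rw [← hk, e, ← pow_mul]
      conv_rhs => rw [← pow_one x'.1]
      exact pow_eq_pow_iff_modEq.mpr (by rw [x'.2]; exact hkm)
    subst hxx
    have e := pow_eq_pow_iff_modEq.1 (mul_left_cancel he')
    rw [hw] at e
    have h3 : 3 ≤ q := by have := hq.out.two_le; omega
    have h4 := Nat.ModEq.eq_of_lt_of_lt e (by omega) (by omega)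
    exact Prod.ext rfl (Fin.ext (by simpa using h4))
  have hcard := Nat.card_le_card_of_injective F hF
  rw [Nat.card_prod, Nat.card_fin, show Nat.card {x : G // orderOf x = p} = a from hpa,
    show Nat.card {g : G // orderOf g = p * q} = a from hc] at hcard
  have := hV.1
  omega

/-- Two primes with different counts: no mixed elements. -/
theorem cnt_mul_eq_zero [hp : Fact p.Prime] [hq : Fact q.Prime] {a b : ℕ} (hV : TwoVal G a b)
    (hp2 : p ≠ 2) (hq2 : q ≠ 2) (hne : p ≠ q) (hpd : p ∣ Nat.card G) (hqd : q ∣ Nat.card G)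
    (hpa : cnt G p = a) (hqb : cnt G q = b) : cnt G (p * q) = 0 :=
  (hV.2.2.2 _ (two_lt_mul (p := p) (q := q))).resolve_right fun e => e.elim
    (not_value_left hV hq2 hne hpd hqd hpa hqb) fun e => by
      rw [mul_comm] at e
      exact not_value_left hV.swap hp2 hne.symm hqd hpd hqb hpa e

theorem cnt_sq_eq_zero [hp : Fact p.Prime] [hq : Fact q.Prime] {a b : ℕ} (hV : TwoVal G a b)
    (hne : p ≠ q) (hpd : p ∣ Nat.card G) (hqd : q ∣ Nat.card G) (hpa : cnt G p = a) (hqb : cnt G q = b)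
    (hpq : cnt G (p * q) = 0) : cnt G (p ^ 2) = 0 := by
  by_contra hne0
  have h1 : (1 + a : ZMod p) = 0 := hpa ▸ sum_prime hpd
  have hsq : (cnt G (p ^ 2) : ZMod p) = 0 := by
    rw [(ZMod.natCast_eq_zero_iff _ _)]
    refine dvd_trans ?_ (totient_dvd_cnt _)
    rw [Nat.totient_prime_pow hp.out two_pos, show 2 - 1 = 1 from rfl, pow_one]
    exact dvd_mul_right _ _
  have h2 : 2 < p ^ 2 := by nlinarith [hp.out.two_le]
  have hv : cnt G (p ^ 2) = b := ((hV.2.2.2 _ h2).resolve_left hne0).resolve_left fun e => by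
    rw [e] at hsq; rw [hsq, add_zero] at h1; exact one_ne_zero h1
  obtain ⟨g, hg⟩ := cnt_ne_zero_iff.1 hne0
  have hsqd : p ^ 2 ∣ Nat.card G := hg ▸ orderOf_dvd_natCard g
  have hqp : ¬ q ∣ p ^ 2 := fun h => hne ((Nat.prime_dvd_prime_iff_eq hq.out hp.out).1
    (hq.out.dvd_of_dvd_pow h)).symm
  have hmix : ∀ i, 1 ≤ i → cnt G (q * p ^ i) = 0 := by
    intro i hi
    by_contra h0
    obtain ⟨g, hg⟩ := cnt_ne_zero_iff.1 h0
    refine cnt_ne_zero_iff.2 ⟨g ^ p ^ (i - 1), ?_⟩ hpq
    have e : p ^ i = p ^ (i - 1) * p := by rw [← pow_succ]; congr 1; omega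
    rw [orderOf_pow_of_dvd (pow_ne_zero _ hp.out.ne_zero) (hg ▸ ⟨q * p, by rw [e]; ring⟩), hg]
    exact Nat.div_eq_of_eq_mul_left (pow_pos hp.out.pos _) (by rw [e]; ring)
  have h := zmod_sum (G := G) (p := q) (m := q * p ^ 2) (dvd_mul_right _ _)
    ((hq.out.coprime_iff_not_dvd.2 hqp).mul_dvd_of_dvd_of_dvd hqd hsqd)
  rw [sum_divisors_prime_mul _ hq.out hqp, Nat.sum_divisors_prime_pow hp.out,
    Nat.sum_divisors_prime_pow hp.out] at h
  simp only [Finset.sum_range_succ, Finset.sum_range_zero, zero_add, pow_zero, pow_one, mul_one] at h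
  rw [hmix 2 (by norm_num), show cnt G (q * p) = 0 by rw [mul_comm]; exact hpq, cnt_one, hpa, hqb, hv,
    Nat.cast_one, Nat.cast_zero] at h
  have h3 : (1 + b : ZMod q) = 0 := hqb ▸ sum_prime hqd
  have h4 := sum_two' hne hpd hqd
  rw [hpa, hqb, hpq, Nat.cast_zero] at h4
  exact one_ne_zero (show (1 : ZMod q) = 0 by linear_combination 2 * h3 + h4 - h - h3 + h3 - h3)

section norm

variable {V : Subgroup G} [hn : V.Normal] [IsMulCommutative V]

/-- The product of the translates under a fixed-point-free cyclic group is trivial. -/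
theorem norm_eq_one {t : G} {s : ℕ} (hs : t ^ s = 1)
    (hf : ∀ w ∈ V, t * w * t⁻¹ = w → w = 1) (v : V) :
    ∏ i ∈ Finset.range s, MulAut.conjNormal (t ^ i) v = 1 := by
  set w := ∏ i ∈ Finset.range s, MulAut.conjNormal (t ^ i) v
  have h : MulAut.conjNormal t w = w := by
    have e : MulAut.conjNormal t w = ∏ i ∈ Finset.range s, MulAut.conjNormal (t ^ (i + 1)) v := by
      rw [map_prod]
      refine Finset.prod_congr rfl fun i _ => ?_
      rw [pow_succ' t i, map_mul, MulAut.mul_apply]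
    have h2 := Finset.prod_range_succ' (fun i => MulAut.conjNormal (t ^ i) v) s
    rw [Finset.prod_range_succ, hs, pow_zero, ← e] at h2
    exact (mul_right_cancel h2).symm
  refine Subtype.ext (hf w w.2 ?_)
  have := congrArg Subtype.val h
  rwa [MulAut.conjNormal_apply] at this

theorem double_norm {s : ℕ} (u : ℕ → G) (hA : ∀ i, ∀ v : V, ∏ k ∈ Finset.range (s + 1),
      MulAut.conjNormal (u i ^ k) v = 1)
    (hB : ∀ k < s, ∃ t e : G, t ^ q = 1 ∧ (∀ w ∈ V, t * w * t⁻¹ = w → w = 1) ∧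
      ∀ i, u i ^ (k + 1) = t ^ i * e) (v : V) : v ^ q = 1 := by
  have h1 : ∏ i ∈ Finset.range q, ∏ k ∈ Finset.range (s + 1), MulAut.conjNormal (u i ^ k) v = 1 :=
    Finset.prod_eq_one fun i _ => hA i v
  rw [Finset.prod_comm, Finset.prod_range_succ', Finset.prod_eq_one (fun k hk => ?_), one_mul] at h1
  · simpa using h1
  obtain ⟨t, e, ht, hf, he⟩ := hB k (Finset.mem_range.1 hk)
  rw [← norm_eq_one ht hf (MulAut.conjNormal e v)]
  refine Finset.prod_congr rfl fun i _ => ?_
  rw [he i, map_mul, MulAut.mul_apply]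

theorem mul_pow_eq_prod (v : V) (x : G) (m : ℕ) :
    ((v : G) * x) ^ m = ((∏ k ∈ Finset.range m, MulAut.conjNormal (x ^ k) v : V) : G) * x ^ m := by
  induction m with
  | zero => simp
  | succ m ih =>
    rw [pow_succ, ih, Finset.prod_range_succ, Subgroup.coe_mul, MulAut.conjNormal_apply, pow_succ]
    group

end norm

/-- Orders only `1, p, q`: with an abelian normal `p`-subgroup, a Sylow `q`-subgroup is a Frobenius
complement of order `q`. -/
theorem exists_complement [hp : Fact p.Prime] [hq : Fact q.Prime] (hne : p ≠ q)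
    (hord : ∀ g : G, orderOf g = 1 ∨ orderOf g = p ∨ orderOf g = q)
    (hpd : p ∣ Nat.card G) (hqd : q ∣ Nat.card G)
    (V : Subgroup G) [V.Normal] [IsMulCommutative V] (hV1 : V ≠ ⊥) (hVp : IsPGroup p V) :
    ∃ C : Subgroup G, Cfsg.IsFrobeniusComplement C ∧ (Nat.card ↥C).Prime := by
  have hcop : p.Coprime q := (Nat.coprime_primes hp.out hq.out).2 hne
  have hnc : ∀ x y : G, orderOf x = p → orderOf y = q → x * y ≠ y * x := by
    intro x y hx hy hc
    have h := (show Commute x y from hc).orderOf_mul_eq_mul_orderOf_of_coprime (by rw [hx, hy]; exact hcop)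
    rw [hx, hy] at h
    have := hp.out.two_le
    have := hq.out.two_le
    rcases hord (x * y) with e | e | e <;> rw [e] at h <;> nlinarith
  have hVord : ∀ w ∈ V, w ≠ 1 → orderOf w = p := by
    intro w hw hw1
    obtain ⟨k, hk⟩ := IsPGroup.iff_orderOf.1 hVp ⟨w, hw⟩
    rw [Subgroup.orderOf_mk] at hk
    rcases hord w with e | e | e
    · exact absurd (orderOf_eq_one_iff.1 e) hw1
    · exact e
    · exact absurd ((Nat.prime_dvd_prime_iff_eq hq.out hp.out).1
        (hq.out.dvd_of_dvd_pow (e ▸ hk ▸ dvd_rfl : q ∣ p ^ k))).symm hne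
  have hfree : ∀ t : G, orderOf t = q → ∀ w ∈ V, t * w * t⁻¹ = w → w = 1 := by
    intro t ht w hw he
    by_contra hw1
    exact hnc w t (hVord w hw hw1) ht (mul_inv_eq_iff_eq_mul.1 he).symm
  obtain ⟨v, hv, hv1⟩ := (Subgroup.bot_or_exists_ne_one V).resolve_left hV1
  have hvq : (⟨v, hv⟩ : V) ^ q ≠ 1 := fun h => by
    have h' := orderOf_dvd_of_pow_eq_one (congrArg Subtype.val h : v ^ q = 1)
    rw [hVord v hv hv1] at h'
    exact hne ((Nat.prime_dvd_prime_iff_eq hp.out hq.out).1 h')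
  obtain ⟨Q⟩ : Nonempty (Sylow q G) := inferInstance
  have hQord : ∀ g ∈ (Q : Subgroup G), g ≠ 1 → orderOf g = q := by
    intro g hg hg1
    obtain ⟨k, hk⟩ := IsPGroup.iff_orderOf.1 Q.isPGroup' ⟨g, hg⟩
    rw [Subgroup.orderOf_mk] at hk
    rcases hord g with e | e | e
    · exact absurd (orderOf_eq_one_iff.1 e) hg1
    · exact absurd ((Nat.prime_dvd_prime_iff_eq hp.out hq.out).1
        (hp.out.dvd_of_dvd_pow (e ▸ hk ▸ dvd_rfl : p ∣ q ^ k))) hne
    · exact e
  haveI : Nontrivial (Q : Subgroup G) :=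
    (Subgroup.nontrivial_iff_ne_bot _).2 (Q.ne_bot_of_dvd_card hqd)
  haveI : Nontrivial (Subgroup.center (Q : Subgroup G)) := Q.isPGroup'.center_nontrivial
  obtain ⟨⟨⟨z, hzQ⟩, hzc⟩, hz1⟩ := exists_ne (1 : Subgroup.center (Q : Subgroup G))
  have hz1' : z ≠ 1 := fun h => hz1 (Subtype.ext (Subtype.ext h))
  have hz := hQord z hzQ hz1'
  -- the Sylow subgroup is cyclic of order `q`
  have hQz : (Q : Subgroup G) = zpowers z := by
    refine le_antisymm (fun w hw => ?_) (zpowers_le.2 hzQ)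
    by_contra hwz
    have hcomm : Commute z w := congrArg Subtype.val (Subgroup.mem_center_iff.1 hzc ⟨w, hw⟩).symm
    have hpowq : ∀ g ∈ (Q : Subgroup G), g ^ q = 1 := fun g hg => by
      rcases eq_or_ne g 1 with rfl | h
      · exact one_pow q
      · rw [← hQord g hg h, pow_orderOf_eq_one]
    obtain ⟨s, hs⟩ : ∃ s, q = s + 1 := ⟨q - 1, by have := hq.out.pos; omega⟩
    refine hvq (double_norm (q := q) (s := s) (fun i => z ^ i * w) (fun i u => ?_) (fun k hk => ?_) _)
    · have hm : z ^ i * w ∈ (Q : Subgroup G) := mul_mem (pow_mem hzQ i) hw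
      refine norm_eq_one (hs ▸ hpowq _ hm) (hfree _ (hQord _ hm fun e => hwz ?_)) u
      rw [eq_inv_of_mul_eq_one_right e]
      exact inv_mem (pow_mem (mem_zpowers z) i)
    · refine ⟨z ^ (k + 1), w ^ (k + 1), hpowq _ (pow_mem hzQ _), hfree _ ?_, fun i => ?_⟩
      · rw [Nat.Coprime.orderOf_pow, hz]
        rw [hz]
        exact hq.out.coprime_iff_not_dvd.2 fun hd => by
          have := Nat.le_of_dvd (by omega) hd
          omega
      · rw [(hcomm.pow_left i).mul_pow, ← pow_mul, ← pow_mul, mul_comm i]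
  -- no element of order `p` normalizes it
  have hnorm : ∀ g ∈ normalizer ((Q : Subgroup G) : Set G), g ∈ (Q : Subgroup G) := by
    intro x hx
    rcases hord x with e | e | e
    · rw [orderOf_eq_one_iff] at e
      rw [e]; exact one_mem _
    swap
    · exact (IsPGroup.inf_normalizer_sylow (IsPGroup.of_card (G := zpowers x) (p := q) (n := 1)
        (by rw [Nat.card_zpowers, e, pow_one])) Q).le ⟨mem_zpowers x, hx⟩ |>.2
    exfalso
    obtain ⟨s, hs⟩ : ∃ s, p = s + 1 := ⟨p - 1, by have := hp.out.pos; omega⟩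
    refine hvq (double_norm (q := q) (s := s) (fun i => z ^ i * x * (z ^ i)⁻¹) (fun i u => ?_)
      (fun k hk => ?_) _)
    · set c := z ^ i * x * (z ^ i)⁻¹ with hc
      have hco : orderOf c = p := ((MulAut.conj (z ^ i)).orderOf_eq x).trans e
      have hcp : c ^ p = 1 := by rw [← hco, pow_orderOf_eq_one]
      have h1 := mul_pow_eq_prod u c p
      rw [hcp, mul_one] at h1
      have hp1 : ((u : G) * c) ^ p = 1 := by
        rcases hord ((u : G) * c) with e' | e' | e'
        · rw [orderOf_eq_one_iff.1 e', one_pow]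
        · rw [← e', pow_orderOf_eq_one]
        · exfalso
          obtain ⟨l, hl⟩ := IsPGroup.iff_orderOf.1 hVp
            (∏ k ∈ Finset.range p, MulAut.conjNormal (c ^ k) u)
          rw [← Subgroup.orderOf_coe, ← h1] at hl
          have : q ∣ p * p ^ l := e' ▸ orderOf_dvd_of_pow_eq_one
            (by rw [pow_mul, ← hl, pow_orderOf_eq_one])
          rw [← pow_succ'] at this
          exact hne ((Nat.prime_dvd_prime_iff_eq hq.out hp.out).1 (hq.out.dvd_of_dvd_pow this)).symm
      refine Subtype.ext ?_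
      rw [← hs, Subgroup.coe_one, ← h1, hp1]
    · have hd : x ^ (k + 1) * z⁻¹ * (x ^ (k + 1))⁻¹ ∈ zpowers z := by
        rw [← hQz]
        exact (Subgroup.mem_normalizer_iff.1 (pow_mem hx (k + 1)) _).1 (inv_mem hzQ)
      obtain ⟨j, hj⟩ := mem_zpowers_iff.1 hd
      set d := x ^ (k + 1) * z⁻¹ * (x ^ (k + 1))⁻¹ with hd'
      have hzd : Commute z d := hj ▸ (Commute.refl z).zpow_right j
      refine ⟨z * d, x ^ (k + 1), ?_, hfree _ ?_, fun i => ?_⟩
      · have hm : z * d ∈ (Q : Subgroup G) := hQz ▸ mul_mem (mem_zpowers z) hd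
        rcases eq_or_ne (z * d) 1 with h | h
        · rw [h, one_pow]
        · rw [← hQord _ hm h, pow_orderOf_eq_one]
      · refine hQord _ (hQz ▸ mul_mem (mem_zpowers z) hd) fun h => ?_
        refine hnc (x ^ (k + 1)) z ?_ hz ?_
        · rw [Nat.Coprime.orderOf_pow, e]
          rw [e]
          exact hp.out.coprime_iff_not_dvd.2 fun hd => by
            have := Nat.le_of_dvd (by omega) hd
            omega
        · calc x ^ (k + 1) * z = (z * (x ^ (k + 1) * z⁻¹ * (x ^ (k + 1))⁻¹))⁻¹ * (z * x ^ (k + 1)) := by group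
            _ = z * x ^ (k + 1) := by rw [← hd', h, inv_one, one_mul]
      · rw [hzd.mul_pow, hd', conj_pow, conj_pow, inv_pow]
        group
  refine ⟨(Q : Subgroup G), ⟨Q.ne_bot_of_dvd_card hqd, fun htop => ?_, fun g hg => ?_⟩, ?_⟩
  · obtain ⟨x, hx⟩ := exists_prime_orderOf_dvd_card' p hpd
    refine hne ?_
    rw [← hx, hQord x (htop ▸ Subgroup.mem_top x) fun h => ?_]
    rw [h, orderOf_one] at hx
    exact hp.out.ne_one hx.symm
  · by_contra hbot
    obtain ⟨y, ⟨hy, hy'⟩, hy1⟩ := (Subgroup.bot_or_exists_ne_one _).resolve_left hbot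
    refine hg (hnorm g ?_)
    have hprime : (Nat.card (Q : Subgroup G)).Prime := by rw [hQz, Nat.card_zpowers, hz]; exact hq.out
    have hall : zpowers y = (Q : Subgroup G) := Subgroup.eq_of_le_of_card_ge (zpowers_le.2 hy)
      (by rw [Nat.card_zpowers, hQord y hy hy1, hQz, Nat.card_zpowers, hz])
    rw [Subgroup.mem_normalizer_iff_map_conj_eq]
    refine (Subgroup.eq_of_le_of_card_ge ?_ ?_).symm
    · conv_lhs => rw [← hall]
      exact zpowers_le.2 hy'
    · rw [Subgroup.card_map_of_injective (MulAut.conj g).injective]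
  · rw [hQz, Nat.card_zpowers, hz]; exact hq.out

theorem isSolvable_two (p q : ℕ) (hp : p.Prime) (hq : q.Prime)
    (h : ∀ r : ℕ, r.Prime → r ∣ Nat.card G → r = p ∨ r = q) : Group.IsSolvable G := by
  obtain ⟨i, m, hm, hc⟩ := Nat.exists_eq_pow_mul_and_not_dvd (Nat.card_pos (α := G)).ne' p hp.ne_one
  have hm0 : m ≠ 0 := fun h0 => Nat.card_pos.ne' (by rw [hc, h0, mul_zero])
  refine S0144.burnside p q hp hq _ G le_rfl i m.primeFactorsList.length ?_
  rw [hc]
  congr 1
  refine Nat.eq_prime_pow_of_unique_prime_dvd hm0 fun {d} hd hdm => ?_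
  rcases h d hd (hc ▸ hdm.mul_left _) with h1 | h1
  · exact absurd (h1 ▸ hdm) hm
  · exact h1

theorem exists_abelian_normal [Nontrivial G] [Group.IsSolvable G] :
    ∃ A : Subgroup G, A.Normal ∧ A ≠ ⊥ ∧ IsMulCommutative A := by
  classical
  have hex : ∃ i, derivedSeries G i = ⊥ := Group.IsSolvable.solvable
  have h0 : Nat.find hex ≠ 0 := fun h => by
    have := Nat.find_spec hex
    rw [h, derivedSeries_zero] at this
    exact top_ne_bot this
  obtain ⟨i, hi⟩ := Nat.exists_eq_succ_of_ne_zero h0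
  refine ⟨derivedSeries G i, derivedSeries_normal G i, Nat.find_min hex (by omega), ⟨⟨fun x y => ?_⟩⟩⟩
  have h1 := Nat.find_spec hex
  rw [hi, derivedSeries_succ, Subgroup.commutator_eq_bot_iff_le_centralizer] at h1
  exact Subtype.ext (Subgroup.mem_centralizer_iff.1 (h1 y.2) x x.2)

/-- The two-prime case of odd order. -/
theorem two_prime_case {a b : ℕ} (hV : TwoVal G a b) (hodd : Odd (Nat.card G))
    [hp : Fact p.Prime] [hq : Fact q.Prime] (hne : p ≠ q)
    (hpq : ∀ r : ℕ, r.Prime → r ∣ Nat.card G → r = p ∨ r = q)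
    (hpd : p ∣ Nat.card G) (hqd : q ∣ Nat.card G) :
    (∀ r : ℕ, r.Prime → r ∣ Nat.card G → cnt G (r ^ 2) = 0) ∧
      ∃ C : Subgroup G, Cfsg.IsFrobeniusComplement C ∧ (Nat.card ↥C).Prime := by
  classical
  have hp2 : p ≠ 2 := fun h => (Nat.not_even_iff_odd.2 hodd) (even_iff_two_dvd.2 (h ▸ hpd))
  have hq2 : q ≠ 2 := fun h => (Nat.not_even_iff_odd.2 hodd) (even_iff_two_dvd.2 (h ▸ hqd))
  suffices key : ∀ c d, TwoVal G c d → cnt G p = c →
      (∀ r : ℕ, r.Prime → r ∣ Nat.card G → cnt G (r ^ 2) = 0) ∧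
        ∃ C : Subgroup G, Cfsg.IsFrobeniusComplement C ∧ (Nat.card ↥C).Prime by
    rcases (hV.2.2.2 p (lt_of_le_of_ne hp.out.two_le hp2.symm)).resolve_left (cnt_prime_ne_zero hpd) with e | e
    · exact key a b hV e
    · exact key b a hV.swap e
  intro c d hcd hpc
  rcases (hcd.2.2.2 q (lt_of_le_of_ne hq.out.two_le hq2.symm)).resolve_left (cnt_prime_ne_zero hqd) with hqc | hqc
  · exfalso
    obtain ⟨hm, hb1⟩ := same_pair hcd hp2 hne hpd hqd hpc hqc
    obtain ⟨-, hb2⟩ := same_pair hcd hq2 hne.symm hqd hpd hqc hpc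
    have hsp := cnt_sq hcd hpd hpc (hb1 ▸ one_ne_zero)
    have hsq := cnt_sq hcd hqd hqc (hb2 ▸ one_ne_zero)
    have hdvd : Nat.card G ∣ 1 + c := by
      rw [Nat.dvd_iff_prime_pow_dvd_dvd]
      intro s k hs hk
      rcases Nat.eq_zero_or_pos k with rfl | hk0
      · simp
      rcases hpq s hs ((dvd_pow_self s hk0.ne').trans hk) with rfl | rfl
      · exact hpc ▸ pow_dvd_succ hsp hk
      · exact hqc ▸ pow_dvd_succ hsq hk
    have h1 := sum_cnt (G := G) (mul_ne_zero hp.out.ne_zero hq.out.ne_zero)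
    rw [expand_two hne, cnt_one, hpc, hqc, hm] at h1
    have h2 : Nat.card {g : G // g ^ (p * q) = 1} ≤ Nat.card G :=
      Nat.card_le_card_of_injective Subtype.val Subtype.val_injective
    have := Nat.le_of_dvd (by omega) hdvd
    have := hcd.2.1
    omega
  have hmix := cnt_mul_eq_zero hcd hp2 hq2 hne hpd hqd hpc hqc
  have hsp := cnt_sq_eq_zero hcd hne hpd hqd hpc hqc hmix
  have hsq := cnt_sq_eq_zero hcd.swap hne.symm hqd hpd hqc hpc (by rwa [mul_comm] at hmix)
  have hord : ∀ g : G, orderOf g = 1 ∨ orderOf g = p ∨ orderOf g = q := by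
    intro g
    have hno : ∀ m, cnt G m = 0 → ¬ m ∣ orderOf g := fun m hm hd =>
      cnt_ne_zero_iff.2 ⟨g ^ (orderOf g / m), orderOf_pow_orderOf_div (orderOf_pos g).ne' hd⟩ hm
    rcases eq_or_ne (orderOf g) 1 with e | e
    · exact Or.inl e
    obtain ⟨r, hr, hrd⟩ := Nat.exists_prime_and_dvd e
    obtain ⟨m, hm⟩ := hrd
    rcases eq_or_ne m 1 with rfl | hm1
    · rw [mul_one] at hm
      exact Or.inr (hm ▸ hpq r hr (hm ▸ orderOf_dvd_natCard g))
    exfalso
    obtain ⟨t, ht, htm⟩ := Nat.exists_prime_and_dvd hm1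
    have hd2 : r * t ∣ orderOf g := hm ▸ mul_dvd_mul_left r htm
    rcases hpq r hr ((dvd_mul_right r t).trans (hd2.trans (orderOf_dvd_natCard g))) with rfl | rfl <;>
      rcases hpq t ht ((dvd_mul_left t _).trans (hd2.trans (orderOf_dvd_natCard g))) with rfl | rfl
    · exact hno _ hsp (by rwa [sq])
    · exact hno _ hmix hd2
    · exact hno _ hmix (by rwa [mul_comm] at hd2)
    · exact hno _ hsq (by rwa [sq])
  refine ⟨fun r hr hrd => ?_, ?_⟩
  · rcases hpq r hr hrd with rfl | rfl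
    exacts [hsp, hsq]
  haveI : Nontrivial G := Finite.one_lt_card_iff_nontrivial.1
    (hp.out.one_lt.trans_le (Nat.le_of_dvd Nat.card_pos hpd))
  haveI := isSolvable_two p q hp.out hq.out hpq
  obtain ⟨A, hAn, hA1, hAc⟩ := exists_abelian_normal (G := G)
  by_cases hAp : IsPGroup p A
  · exact exists_complement hne hord hpd hqd A hA1 hAp
  refine exists_complement (p := q) (q := p) hne.symm (fun g => (hord g).imp_right Or.symm) hqd hpd A hA1 ?_
  rw [IsPGroup.iff_orderOf]
  intro w
  rw [IsPGroup.iff_orderOf] at hAp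
  push_neg at hAp
  obtain ⟨x, hx⟩ := hAp
  rcases hord (x : G) with e | e | e
  · exact absurd (by rw [← Subgroup.orderOf_coe, e, pow_zero]) (hx 0)
  · exact absurd (by rw [← Subgroup.orderOf_coe, e, pow_one]) (hx 1)
  rcases hord (w : G) with e' | e' | e'
  · exact ⟨0, by rw [← Subgroup.orderOf_coe, e', pow_zero]⟩
  · exfalso
    have h := (show Commute (w : G) (x : G) from congrArg Subtype.val (mul_comm w x)).orderOf_mul_eq_mul_orderOf_of_coprime
      (by rw [e', e]; exact (Nat.coprime_primes hp.out hq.out).2 hne)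
    rw [e', e] at h
    exact cnt_ne_zero_iff.2 ⟨_, h⟩ hmix
  · exact ⟨1, by rw [← Subgroup.orderOf_coe, e', pow_one]⟩

/-- Two odd primes exclude a unique involution together with elements of order four. -/
theorem four_false [hp : Fact p.Prime] [hq : Fact q.Prime] {a b : ℕ} (hV : TwoVal G a b)
    (h2 : cnt G 2 = 1) (h4 : 4 ∣ Nat.card G) (hp2 : p ≠ 2) (hq2 : q ≠ 2) (hne : p ≠ q)
    (hpd : p ∣ Nat.card G) (hqd : q ∣ Nat.card G) (hpa : cnt G p = a) : False := by
  have hc4 : 4 ∣ 1 + 1 + cnt G 4 := by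
    have h := H84.dvd_card_pow_eq_one h4
    rw [← sum_cnt (show (4 : ℕ) ≠ 0 by norm_num), show (4 : ℕ).divisors = {1, 2, 4} by decide,
      Finset.sum_insert (by decide), Finset.sum_pair (by decide), cnt_one, h2, ← add_assoc] at h
    exact h
  have hdiv4 : ∀ (s m : ℕ), s.Prime → s ≠ 2 → 4 ∣ (s * m).totient → 4 ∣ cnt G (s * m) := fun s m _ _ h =>
    h.trans (totient_dvd_cnt _)
  have hphi4 : ∀ s : ℕ, s.Prime → s ≠ 2 → 4 ∣ (s * 4).totient := fun s hs hs2 => by
    rw [Nat.totient_mul (Nat.Coprime.pow_right 2 ((Nat.coprime_primes hs Nat.prime_two).2 hs2)),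
      Nat.totient_prime hs, show Nat.totient 4 = 2 by decide]
    obtain ⟨k, hk⟩ := hs.odd_of_ne_two hs2
    exact ⟨k, by omega⟩
  have hphipq : 4 ∣ (p * q).totient := by
    rw [Nat.totient_mul ((Nat.coprime_primes hp.out hq.out).2 hne), Nat.totient_prime hp.out,
      Nat.totient_prime hq.out]
    obtain ⟨k, hk⟩ := hp.out.odd_of_ne_two hp2
    obtain ⟨l, hl⟩ := hq.out.odd_of_ne_two hq2
    exact ⟨k * l, by rw [show p - 1 = 2 * k by omega, show q - 1 = 2 * l by omega]; ring⟩
  have hdvd4 : ∀ s : ℕ, s.Prime → s ≠ 2 → s ∣ Nat.card G → s * 4 ∣ Nat.card G := fun s hs hs2 hd =>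
    (Nat.Coprime.pow_right 2 ((Nat.coprime_primes hs Nat.prime_two).2 hs2)).mul_dvd_of_dvd_of_dvd hd h4
  have hn4 : ∀ s : ℕ, s.Prime → s ≠ 2 → ¬ s ∣ 4 := fun s hs hs2 h =>
    hs2 ((Nat.prime_dvd_prime_iff_eq hs Nat.prime_two).1 (hs.dvd_of_dvd_pow (n := 2) h))
  -- the sums for `2 s` and `4 s`
  have hE2 : ∀ (s : ℕ) [Fact s.Prime], s ≠ 2 → s ∣ Nat.card G →
      (1 + 1 + (cnt G s + cnt G (s * 2)) : ZMod s) = 0 := by
    intro s _ hs2 hsd
    haveI : Fact (Nat.Prime 2) := ⟨Nat.prime_two⟩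
    have h := sum_two hs2 hsd ((show 2 ∣ 4 by norm_num).trans h4)
    rw [h2, Nat.cast_one] at h
    linear_combination h
  have hE4 : ∀ (s : ℕ) [Fact s.Prime], s ≠ 2 → s ∣ Nat.card G →
      (1 + 1 + cnt G 4 + (cnt G s + cnt G (s * 2) + cnt G (s * 4)) : ZMod s) = 0 := by
    intro s hs hs2 hsd
    have h := zmod_sum (G := G) (p := s) (dvd_mul_right s 4) (hdvd4 s hs.out hs2 hsd)
    rw [sum_divisors_prime_mul _ hs.out (hn4 s hs.out hs2), show (4 : ℕ).divisors = {1, 2, 4} by decide,
      Finset.sum_insert (by decide), Finset.sum_pair (by decide), Finset.sum_insert (by decide),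
      Finset.sum_pair (by decide), mul_one, cnt_one, h2, Nat.cast_one] at h
    linear_combination h
  have hgt : ∀ (s : ℕ), s.Prime → ∀ m, 2 ≤ m → 2 < s * m := fun s hs m hm => by
    have := Nat.mul_le_mul hs.two_le hm
    omega
  have hv4 : cnt G 4 = a ∨ cnt G 4 = b := (hV.2.2.2 4 (by norm_num)).resolve_left fun h => by
    rw [h] at hc4; norm_num at hc4
  have h1 : (1 + a : ZMod p) = 0 := hpa ▸ sum_prime hpd
  -- value lemma
  have pick : ∀ (s : ℕ) [Fact s.Prime] (m : ℕ) (c : ZMod s), 2 < m → (cnt G m : ZMod s) = c → c ≠ 0 →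
      ((a : ZMod s) ≠ c → cnt G m = b) ∧ ((b : ZMod s) ≠ c → cnt G m = a) ∧
      ((a : ZMod s) ≠ c → (b : ZMod s) ≠ c → False) := by
    intro s _ m c hm hc hc0
    rcases hV.2.2.2 m hm with e | e | e
    · exact absurd (by rw [← hc, e, Nat.cast_zero]) hc0
    · exact ⟨fun h => absurd (e ▸ hc) h, fun _ => e, fun h _ => h (e ▸ hc)⟩
    · exact ⟨fun _ => e, fun h => absurd (e ▸ hc) h, fun _ h => h (e ▸ hc)⟩
  rcases (hV.2.2.2 q (lt_of_le_of_ne hq.out.two_le hq2.symm)).resolve_left (cnt_prime_ne_zero hqd) with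
    hqa | hqb
  · -- equal counts
    obtain ⟨hpq', hbp⟩ := same_pair hV hp2 hne hpd hqd hpa hqa
    have hb4 : 4 ∣ b := hpq' ▸ hphipq.trans (totient_dvd_cnt _)
    have hA : cnt G 4 = a := hv4.resolve_right fun h => by rw [h] at hc4; omega
    have hne1 : (a : ZMod p) ≠ 1 := fun h =>
      two_ne_zero hp2 (show (2 : ZMod p) = 0 by linear_combination h1 - h)
    have h2p : cnt G (p * 2) = a := by
      refine (pick p _ (-1) (hgt p hp.out 2 le_rfl) ?_ (neg_ne_zero.2 one_ne_zero)).2.1 fun h => ?_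
      · have h := hE2 p hp2 hpd
        rw [hpa] at h
        linear_combination h - h1
      · rw [hbp] at h
        exact two_ne_zero hp2 (show (2 : ZMod p) = 0 by linear_combination h)
    have h2q : cnt G (q * 2) = a := by
      obtain ⟨-, hbq⟩ := same_pair hV hq2 hne.symm hqd hpd hqa hpa
      have hq1 : (1 + a : ZMod q) = 0 := hqa ▸ sum_prime hqd
      refine (pick q _ (-1) (hgt q hq.out 2 le_rfl) ?_ (neg_ne_zero.2 one_ne_zero)).2.1 fun h => ?_
      · have h := hE2 q hq2 hqd
        rw [hqa] at h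
        linear_combination h - hq1
      · rw [hbq] at h
        exact two_ne_zero hq2 (show (2 : ZMod q) = 0 by linear_combination h)
    have h4p : cnt G (p * 4) = b := by
      refine (pick p _ 1 (hgt p hp.out 4 (by norm_num)) ?_ one_ne_zero).1 hne1
      have h := hE4 p hp2 hpd
      rw [hA, hpa, h2p] at h
      linear_combination h - 3 * h1
    have h4q : cnt G (q * 4) = b := by
      obtain ⟨-, hbq⟩ := same_pair hV hq2 hne.symm hqd hpd hqa hpa
      have hq1 : (1 + a : ZMod q) = 0 := hqa ▸ sum_prime hqd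
      refine (pick q _ 1 (hgt q hq.out 4 (by norm_num)) ?_ one_ne_zero).1 fun h =>
        two_ne_zero hq2 (show (2 : ZMod q) = 0 by linear_combination hq1 - h)
      have h := hE4 q hq2 hqd
      rw [hA, hqa, h2q] at h
      linear_combination h - 3 * hq1
    have hp2q : ¬ p ∣ q * 2 := fun h => (hp.out.dvd_mul.1 h).elim (not_dvd_prime hne)
      fun h' => hp2 ((Nat.prime_dvd_prime_iff_eq hp.out Nat.prime_two).1 h')
    have hq2' : ¬ q ∣ 2 := fun h => hq2 ((Nat.prime_dvd_prime_iff_eq hq.out Nat.prime_two).1 h)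
    have hp4q : ¬ p ∣ q * 4 := fun h => (hp.out.dvd_mul.1 h).elim (not_dvd_prime hne) (hn4 p hp.out hp2)
    have h2pq : cnt G (p * (q * 2)) = b := by
      refine (pick p _ 1 ?_ ?_ one_ne_zero).1 hne1
      · have := Nat.mul_le_mul hp.out.two_le (Nat.mul_le_mul hq.out.two_le (le_refl 2))
        omega
      have h := zmod_sum (G := G) (p := p) (dvd_mul_right p (q * 2))
        ((hp.out.coprime_iff_not_dvd.2 hp2q).mul_dvd_of_dvd_of_dvd hpd
          ((hq.out.coprime_iff_not_dvd.2 hq2').mul_dvd_of_dvd_of_dvd hqd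
            ((show 2 ∣ 4 by norm_num).trans h4)))
      rw [sum_divisors_prime_mul _ hp.out hp2q, sum_divisors_prime_mul _ hq.out hq2',
        sum_divisors_prime_mul _ hq.out hq2', Nat.prime_two.divisors,
        Finset.sum_pair (by decide), Finset.sum_pair (by decide), Finset.sum_pair (by decide),
        Finset.sum_pair (by decide)] at h
      simp only [mul_one] at h
      rw [cnt_one, h2, hpa, hqa, h2p, h2q, hpq', Nat.cast_one, hbp] at h
      linear_combination h - 4 * h1
    have hc := zmod_sum (G := G) (p := p) (dvd_mul_right p (q * 4))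
      ((hp.out.coprime_iff_not_dvd.2 hp4q).mul_dvd_of_dvd_of_dvd hpd (hdvd4 q hq.out hq2 hqd))
    rw [sum_divisors_prime_mul _ hp.out hp4q, sum_divisors_prime_mul _ hq.out (hn4 q hq.out hq2),
      sum_divisors_prime_mul _ hq.out (hn4 q hq.out hq2), show (4 : ℕ).divisors = {1, 2, 4} by decide] at hc
    simp only [Finset.sum_insert (show (1 : ℕ) ∉ ({2, 4} : Finset ℕ) by decide),
      Finset.sum_pair (show (2 : ℕ) ≠ 4 by decide), mul_one] at hc
    rw [cnt_one, h2, hpa, hqa, hA, h2p, h2q, h4p, h4q, hpq', h2pq, Nat.cast_one, hbp] at hc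
    have hval : cnt G (p * (q * 4)) = a := by
      refine (pick p _ (-1) ?_ ?_ (neg_ne_zero.2 one_ne_zero)).2.1 fun h => ?_
      · have := Nat.mul_le_mul hp.out.two_le (Nat.mul_le_mul hq.out.two_le (show 4 ≤ 4 from le_rfl))
        omega
      · linear_combination hc - 5 * h1
      · rw [hbp] at h
        exact two_ne_zero hp2 (show (2 : ZMod p) = 0 by linear_combination h)
    have ha4 : 4 ∣ a := by
      rw [← hval]
      refine dvd_trans ?_ (totient_dvd_cnt _)
      rw [Nat.totient_mul (hp.out.coprime_iff_not_dvd.2 hp4q)]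
      exact dvd_mul_of_dvd_right (hphi4 q hq.out hq2) _
    rw [hA] at hc4
    omega
  · -- different counts
    have hq1 : (1 + b : ZMod q) = 0 := hqb ▸ sum_prime hqd
    have h := sum_two hne hpd hqd
    have h' := sum_two' hne hpd hqd
    rw [hpa, hqb] at h h'
    rcases hV.2.2.2 _ (two_lt_mul (p := p) (q := q)) with e | e | e
    · rw [e, Nat.cast_zero] at h h'
      have hb0 : (b : ZMod p) = 0 := by linear_combination h - h1
      have ha0 : (a : ZMod q) = 0 := by linear_combination h' - hq1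
      have hap : (a : ZMod p) ≠ 1 := fun hh =>
        two_ne_zero hp2 (show (2 : ZMod p) = 0 by linear_combination h1 - hh)
      have hbq : (b : ZMod q) ≠ 1 := fun hh =>
        two_ne_zero hq2 (show (2 : ZMod q) = 0 by linear_combination hq1 - hh)
      rcases hv4 with h4a | h4b
      · have h2p : cnt G (p * 2) = a := by
          refine (pick p _ (-1) (hgt p hp.out 2 le_rfl) ?_ (neg_ne_zero.2 one_ne_zero)).2.1 fun hh => ?_
          · have hh := hE2 p hp2 hpd
            rw [hpa] at hh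
            linear_combination hh - h1
          · rw [hb0] at hh
            exact neg_ne_zero.2 one_ne_zero hh.symm
        refine (pick p _ 1 (hgt p hp.out 4 (by norm_num)) ?_ one_ne_zero).2.2 hap
          (hb0 ▸ zero_ne_one)
        have hh := hE4 p hp2 hpd
        rw [h4a, hpa, h2p] at hh
        linear_combination hh - 3 * h1
      · have h2q : cnt G (q * 2) = b := by
          refine (pick q _ (-1) (hgt q hq.out 2 le_rfl) ?_ (neg_ne_zero.2 one_ne_zero)).1 fun hh => ?_
          · have hh := hE2 q hq2 hqd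
            rw [hqb] at hh
            linear_combination hh - hq1
          · rw [ha0] at hh
            exact neg_ne_zero.2 one_ne_zero hh.symm
        refine (pick q _ 1 (hgt q hq.out 4 (by norm_num)) ?_ one_ne_zero).2.2 (ha0 ▸ zero_ne_one) hbq
        have hh := hE4 q hq2 hqd
        rw [h4b, hqb, h2q] at hh
        linear_combination hh - 3 * hq1
    · exact not_value_left hV hq2 hne hpd hqd hpa hqb e
    · rw [mul_comm] at e
      exact not_value_left hV.swap hp2 hne.symm hqd hpd hqb hpa e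

end Cfsg.Agent.H74.SameCount
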