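import Cfsg.Agent.H74.SchurBasic
import Mathlib.Algebra.Group.Subgroup.Finite
import Mathlib.Algebra.BigOperators.Intervals
import Mathlib.Algebra.Ring.GeomSum

/-!
Stem extensions of groups generated by two elements with one normalising the other's powers.
-/

namespace Cfsg.Agent.H74.Schur

open Subgroup Finset
open scoped commutatorElement

variable {Γ Q : Type*} [Group Γ] [Group Q] {σ : Γ →* Q} {a b : Γ} {r : ℤ}

/-- Lifts of generators generate a stem extension. -/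
theorem closure_lifts (h : Cfsg.IsStemExtension σ) (s : Set Γ)
    (hgen : closure (σ '' s) = ⊤) : closure s = ⊤ := by
  have hdec : ∀ x : Γ, ∃ y ∈ closure s, ∃ z ∈ center Γ, x = y * z := fun x => by
    obtain ⟨y, hy, hyx⟩ : σ x ∈ (closure s).map σ := by
      rw [MonoidHom.map_closure, hgen]; exact mem_top _
    exact ⟨y, hy, y⁻¹ * x, h.2.1 (by rw [MonoidHom.mem_ker, map_mul, map_inv, hyx, inv_mul_cancel]),
      (mul_inv_cancel_left _ _).symm⟩
  have hcom : commutator Γ ≤ closure s := by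
    rw [commutator_def, Subgroup.commutator_le]
    intro x _ y _
    obtain ⟨x', hx', z, hz, rfl⟩ := hdec x
    obtain ⟨y', hy', z', hz', rfl⟩ := hdec y
    have c1 : ∀ t, t * z = z * t := fun t => mem_center_iff.1 hz t
    have c2 : ∀ t, t * z' = z' * t := fun t => mem_center_iff.1 hz' t
    have : ⁅x' * z, y' * z'⁆ = x' * y' * x'⁻¹ * y'⁻¹ := by
      rw [commutatorElement_def]
      calc x' * z * (y' * z') * (x' * z)⁻¹ * (y' * z')⁻¹
          = x' * (z * y') * z' * z⁻¹ * x'⁻¹ * z'⁻¹ * y'⁻¹ := by group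
        _ = x' * (y' * z) * z' * z⁻¹ * x'⁻¹ * z'⁻¹ * y'⁻¹ := by rw [c1 y']
        _ = x' * y' * (z * z') * z⁻¹ * x'⁻¹ * z'⁻¹ * y'⁻¹ := by group
        _ = x' * y' * (z' * x'⁻¹) * z'⁻¹ * y'⁻¹ := by rw [c2 z]; group
        _ = x' * y' * (x'⁻¹ * z') * z'⁻¹ * y'⁻¹ := by rw [c2 x'⁻¹]
        _ = x' * y' * x'⁻¹ * y'⁻¹ := by group
    rw [this]
    exact mul_mem (mul_mem (mul_mem hx' hy') (inv_mem hx')) (inv_mem hy')
  rw [eq_top_iff]
  intro x _
  obtain ⟨y, hy, hyx⟩ : σ x ∈ (closure s).map σ := by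
    rw [MonoidHom.map_closure, hgen]; exact mem_top _
  have := mul_mem hy (hcom (h.2.2 (show y⁻¹ * x ∈ σ.ker by
    rw [MonoidHom.mem_ker, map_mul, map_inv, hyx, inv_mul_cancel])))
  rwa [mul_inv_cancel_left] at this

/-- The distinguished commutator of the two lifts. -/
theorem meta_c (h : Cfsg.IsStemExtension σ) (hrel : σ b * σ a * (σ b)⁻¹ = σ a ^ r) :
    Commute a (b * a * b⁻¹ * a⁻¹) ∧
      b * (b * a * b⁻¹ * a⁻¹) * b⁻¹ = (b * a * b⁻¹ * a⁻¹) ^ r := by
  set c := b * a * b⁻¹ * a⁻¹ with hc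
  obtain ⟨z, hz, hcz⟩ : ∃ z ∈ center Γ, c = a ^ (r - 1) * z := by
    refine ⟨(a ^ (r - 1))⁻¹ * c, h.2.1 ?_, (mul_inv_cancel_left _ _).symm⟩
    rw [MonoidHom.mem_ker, map_mul, map_inv, map_zpow, hc, map_mul, map_mul, map_mul, map_inv,
      map_inv, hrel, zpow_sub_one, inv_mul_cancel]
  have hzc : Commute a z := mem_center_iff.1 hz a
  have hac : Commute a c := by rw [hcz]; exact (Commute.self_zpow a _).mul_right hzc
  refine ⟨hac, ?_⟩
  calc b * c * b⁻¹ = b * (a ^ (r - 1) * z) * b⁻¹ := by rw [hcz]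
    _ = b * a ^ (r - 1) * b⁻¹ * (b * z * b⁻¹) := by group
    _ = (b * a * b⁻¹) ^ (r - 1) * z := by rw [conj_zpow, mem_center_iff.1 hz b, mul_inv_cancel_right]
    _ = (c * a) ^ (r - 1) * z := by rw [hc, inv_mul_cancel_right]
    _ = c ^ (r - 1) * (a ^ (r - 1) * z) := by rw [hac.symm.mul_zpow, mul_assoc]
    _ = c ^ (r - 1) * c := by rw [← hcz]
    _ = c ^ r := by rw [← zpow_add_one, sub_add_cancel]

/-- All commutators are powers of the distinguished one. -/
theorem commutator_le_zpowers [Finite Γ] (h : Cfsg.IsStemExtension σ)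
    (hgen : closure ({σ a, σ b} : Set Q) = ⊤) (hrel : σ b * σ a * (σ b)⁻¹ = σ a ^ r) :
    commutator Γ ≤ zpowers (b * a * b⁻¹ * a⁻¹) := by
  obtain ⟨hac, hbc⟩ := meta_c h hrel
  have htop := closure_lifts h {a, b} (by rw [Set.image_pair]; exact hgen)
  set C := zpowers (b * a * b⁻¹ * a⁻¹) with hC
  have hn : C.Normal := by
    rw [← normalizer_eq_top_iff, eq_top_iff, ← htop, closure_le]
    have key : ∀ g : Γ, g * (b * a * b⁻¹ * a⁻¹) * g⁻¹ ∈ C → g ∈ normalizer (C : Set Γ) := by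
      intro g hg
      have hle : C.map (MulAut.conj g).toMonoidHom ≤ C := by
        rw [hC, MonoidHom.map_zpowers, zpowers_le]
        exact hg
      have heq : C.map (MulAut.conj g).toMonoidHom = C :=
        Subgroup.eq_of_le_of_card_ge hle
          (le_of_eq (Nat.card_congr (Subgroup.equivMapOfInjective C _
            (MulAut.conj g).injective).toEquiv))
      rw [mem_normalizer_iff]
      intro y
      constructor
      · intro hy
        rw [← heq]
        exact ⟨y, hy, rfl⟩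
      · intro hy
        rw [← heq] at hy
        obtain ⟨y', hy', hyy⟩ := hy
        exact (MulAut.conj g).injective hyy ▸ hy'
    rintro g (rfl | rfl)
    · refine key _ ?_
      rw [hac.eq, mul_inv_cancel_right]
      exact mem_zpowers _
    · refine key _ ?_
      rw [hbc]
      exact zpow_mem (mem_zpowers _) _
  haveI := hn
  rw [Subgroup.Normal.quotient_commutative_iff_commutator_le.symm]
  refine ⟨⟨fun x y => ?_⟩⟩
  have hab : (a : Γ ⧸ C) * b = b * a := by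
    rw [← QuotientGroup.mk_mul, ← QuotientGroup.mk_mul]
    refine (QuotientGroup.eq_iff_div_mem.2 ?_).symm
    rw [div_eq_mul_inv, show b * a * (a * b)⁻¹ = b * a * b⁻¹ * a⁻¹ by group]
    exact mem_zpowers _
  have hq : closure ({(a : Γ ⧸ C), (b : Γ ⧸ C)} : Set (Γ ⧸ C)) = ⊤ := by
    show closure ({QuotientGroup.mk' C a, QuotientGroup.mk' C b} : Set (Γ ⧸ C)) = ⊤
    rw [← Set.image_pair (QuotientGroup.mk' C), ← MonoidHom.map_closure, htop,
      ← MonoidHom.range_eq_map, MonoidHom.range_eq_top.2 (QuotientGroup.mk'_surjective C)]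
  haveI hcomm := Subgroup.isMulCommutative_closure (k := ({(a : Γ ⧸ C), (b : Γ ⧸ C)} : Set (Γ ⧸ C))) (by
    rintro u (rfl | rfl) v (rfl | rfl) <;> first | rfl | exact hab | exact hab.symm)
  exact Subgroup.mul_comm_of_mem_isMulCommutative (closure _) (hq ▸ mem_top x) (hq ▸ mem_top y)

theorem c_pow_eq_one_of_pow_eq_one (h : Cfsg.IsStemExtension σ)
    (hrel : σ b * σ a * (σ b)⁻¹ = σ a ^ r) {t : ℕ} (hz : b * a ^ t * b⁻¹ = a ^ t) :
    (b * a * b⁻¹ * a⁻¹) ^ t = 1 := by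
  obtain ⟨hac, -⟩ := meta_c h hrel
  rw [← conj_pow] at hz
  nth_rw 1 [show b * a * b⁻¹ = b * a * b⁻¹ * a⁻¹ * a by group] at hz
  rw [hac.symm.mul_pow] at hz
  exact mul_eq_right.1 hz

theorem c_pow_order (h : Cfsg.IsStemExtension σ) (hrel : σ b * σ a * (σ b)⁻¹ = σ a ^ r)
    {m : ℕ} (hm : σ a ^ m = 1) : (b * a * b⁻¹ * a⁻¹) ^ m = 1 := by
  refine c_pow_eq_one_of_pow_eq_one h hrel ?_
  rw [mem_center_iff.1 (h.2.1 (show a ^ m ∈ σ.ker by rw [MonoidHom.mem_ker, map_pow, hm])) b,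
    mul_inv_cancel_right]

theorem c_pow_rel (h : Cfsg.IsStemExtension σ) (hrel : σ b * σ a * (σ b)⁻¹ = σ a ^ r)
    {n t : ℕ} (hnt : σ b ^ n = σ a ^ t) :
    (b * a * b⁻¹ * a⁻¹) ^ t = 1 ∧
      (b * a * b⁻¹ * a⁻¹) ^ (∑ i ∈ range n, r ^ i) = 1 := by
  obtain ⟨z, hz, hbn⟩ : ∃ z ∈ center Γ, b ^ n = a ^ t * z :=
    ⟨(a ^ t)⁻¹ * b ^ n, h.2.1 (by
      rw [MonoidHom.mem_ker, map_mul, map_inv, map_pow, map_pow, hnt, inv_mul_cancel]),
      (mul_inv_cancel_left _ _).symm⟩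
  have c1 : ∀ x, x * z = z * x := fun x => mem_center_iff.1 hz x
  constructor
  · refine c_pow_eq_one_of_pow_eq_one h hrel ?_
    have h1 : b * (a ^ t * z) * b⁻¹ = a ^ t * z := by
      rw [← hbn, ← pow_succ', pow_succ, mul_inv_cancel_right]
    calc b * a ^ t * b⁻¹ = b * (a ^ t * z) * b⁻¹ * z⁻¹ := by
          rw [c1 (a ^ t), show b * (z * a ^ t) * b⁻¹ * z⁻¹ = b * z * (a ^ t * b⁻¹) * z⁻¹ by group,
            c1 b, mul_assoc z b, show z * (b * (a ^ t * b⁻¹)) * z⁻¹ = z * (b * a ^ t * b⁻¹) * z⁻¹ by group,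
            ← c1, mul_inv_cancel_right]
      _ = a ^ t := by rw [h1, mul_inv_cancel_right]
  · obtain ⟨hac, hbc⟩ := meta_c h hrel
    set c := b * a * b⁻¹ * a⁻¹ with hc
    have key : ∀ k : ℕ, b ^ k * a * (b ^ k)⁻¹ = c ^ (∑ i ∈ range k, r ^ i) * a := by
      intro k
      induction k with
      | zero => simp
      | succ k ih =>
        calc b ^ (k + 1) * a * (b ^ (k + 1))⁻¹
            = b * (b ^ k * a * (b ^ k)⁻¹) * b⁻¹ := by rw [pow_succ']; group
          _ = b * c ^ (∑ i ∈ range k, r ^ i) * b⁻¹ * (b * a * b⁻¹) := by rw [ih]; group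
          _ = (c ^ r) ^ (∑ i ∈ range k, r ^ i) * (c * a) := by
              rw [← conj_zpow, hbc, hc, inv_mul_cancel_right]
          _ = _ := by
              rw [← mul_assoc, ← zpow_mul, ← zpow_add_one, geom_sum_succ]
    have h2 := key n
    rw [hbn, show a ^ t * z * a * (a ^ t * z)⁻¹ = a ^ t * (z * a * z⁻¹) * (a ^ t)⁻¹ by group,
      ← c1 a, mul_inv_cancel_right, ← pow_succ, pow_succ', mul_inv_cancel_right] at h2
    exact mul_eq_right.1 h2.symm

/-- Kernel elements are powers `c ^ k` with `σ a ^ ((r - 1) k) = 1`. -/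
theorem ker_mem (hΓ : Finite Γ) (h : Cfsg.IsStemExtension σ)
    (hgen : closure ({σ a, σ b} : Set Q) = ⊤) (hrel : σ b * σ a * (σ b)⁻¹ = σ a ^ r)
    {z : Γ} (hz : z ∈ σ.ker) :
    ∃ k : ℤ, z = (b * a * b⁻¹ * a⁻¹) ^ k ∧ (orderOf (σ a) : ℤ) ∣ (r - 1) * k := by
  obtain ⟨k, rfl⟩ := mem_zpowers_iff.1 (commutator_le_zpowers h hgen hrel (h.2.2 hz))
  refine ⟨k, rfl, orderOf_dvd_iff_zpow_eq_one.2 ?_⟩
  rw [MonoidHom.mem_ker, map_zpow, map_mul, map_mul, map_mul, map_inv, map_inv, hrel,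
    ← zpow_sub_one, ← zpow_mul] at hz
  exact hz

/-- A kernel inside a cyclic subgroup of exponent `n` is an image of `ZMod n`. -/
theorem exists_surjective_of_le_zpowers {K : Subgroup Γ} {d : Γ} {n : ℕ} (hK : K ≤ zpowers d)
    (hd : d ^ n = 1) : ∃ f : Multiplicative (ZMod n) →* K, Function.Surjective f := by
  haveI : IsCyclic K := isCyclic_of_injective (Subgroup.inclusion hK) (Subgroup.inclusion_injective hK)
  obtain ⟨g, hg⟩ := IsCyclic.exists_generator (α := K)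
  refine exists_surjective_zmod g hg (Subtype.ext ?_)
  obtain ⟨i, hi⟩ := mem_zpowers_iff.1 (hK g.2)
  rw [Subgroup.coe_pow, ← hi, ← zpow_natCast, ← zpow_mul, mul_comm, zpow_mul, zpow_natCast, hd,
    one_zpow]
  rfl

end Cfsg.Agent.H74.Schur
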