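import Cfsg.Agent.H74.CocExt
import Cfsg.Agent.H74.SchurMeta
import Mathlib.GroupTheory.SpecificGroups.Cyclic
import Mathlib.LinearAlgebra.Dimension.Free
import Mathlib.LinearAlgebra.FreeModule.Finite.Basic
import Mathlib.LinearAlgebra.Dimension.Finrank
import Mathlib.FieldTheory.Finiteness
import Mathlib.Data.ZMod.Basic
import Mathlib.Algebra.Module.ZMod
import Mathlib.Algebra.Field.ZMod
import Mathlib.LinearAlgebra.Dimension.DivisionRing
import Mathlib.LinearAlgebra.Finsupp.VectorSpace

/-!
Schur multipliers of abelian groups.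
-/

namespace Cfsg.Agent.H74.Schur

open Subgroup

/-- A pairing on an abelian group built from two functionals. -/
def pairBil {Q : Type*} [Group Q] {n : ℕ} (f g : Q →* Multiplicative (ZMod n)) :
    Q →* Q →* Multiplicative (ZMod n) :=
  MonoidHom.mk' (fun x => MonoidHom.mk' (fun y => Multiplicative.ofAdd
      (Multiplicative.toAdd (f x) * Multiplicative.toAdd (g y)))
    (fun y z => by simp [mul_add, ← ofAdd_add]))
    (fun x y => by ext z; simp [add_mul, ← ofAdd_add])

theorem stem_of_functionals {Q : Type*} [CommGroup Q] [Finite Q] {n : ℕ} [NeZero n]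
    (f g : Q →* Multiplicative (ZMod n)) (x y : Q)
    (hfx : f x = Multiplicative.ofAdd 1) (hgx : g x = 1) (hfy : f y = 1)
    (hgy : g y = Multiplicative.ofAdd 1) :
    ∃ c : Coc Q (Multiplicative (ZMod n)), Cfsg.IsStemExtension c.proj := by
  refine ⟨Coc.ofBil (pairBil f g), Coc.isStemExtension _ fun a => ?_⟩
  have h1 := Coc.inc_mem_commutator (Coc.ofBil (pairBil f g)) x y (mul_comm x y)
  have hval : (Coc.ofBil (pairBil f g)).f x y / (Coc.ofBil (pairBil f g)).f y x =
      Multiplicative.ofAdd (1 : ZMod n) := by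
    simp [Coc.ofBil, pairBil, hfx, hgx, hfy, hgy]
  rw [hval] at h1
  have ha : a = Multiplicative.ofAdd (1 : ZMod n) ^ (Multiplicative.toAdd a).val := by
    rw [← ofAdd_nsmul]; simp
  rw [ha, map_pow]
  exact pow_mem h1 _

theorem exists_coords' {p : ℕ} [Fact p.Prime] {V : Type*} [AddCommGroup V] [Module (ZMod p) V]
    [Finite V] (hcard : p < Nat.card V) :
    ∃ (f g : V →+ ZMod p) (v w : V), f v = 1 ∧ g v = 0 ∧ f w = 0 ∧ g w = 1 := by
  haveI : Module.Finite (ZMod p) V := Module.Finite.of_finite
  have h2 : Nat.card V = p ^ Module.finrank (ZMod p) V := by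
    rw [Nat.card_congr (Module.finBasis (ZMod p) V).equivFun.toEquiv, Nat.card_fun, Nat.card_fin,
      Nat.card_zmod]
  have hd : 2 ≤ Module.finrank (ZMod p) V := by
    by_contra hh
    have : p ^ Module.finrank (ZMod p) V ≤ p ^ 1 :=
      Nat.pow_le_pow_right (Fact.out : p.Prime).pos (by omega)
    rw [pow_one] at this
    omega
  let b := Module.finBasis (ZMod p) V
  let i : Fin (Module.finrank (ZMod p) V) := ⟨0, by omega⟩
  let j : Fin (Module.finrank (ZMod p) V) := ⟨1, by omega⟩
  have hij : i ≠ j := by simp [i, j, Fin.ext_iff]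
  exact ⟨(b.coord i).toAddMonoidHom, (b.coord j).toAddMonoidHom, b i, b j,
    by simp, by simp [hij], by simp [hij.symm], by simp⟩

theorem exists_coords {p : ℕ} [Fact p.Prime] {V : Type*} [AddCommGroup V] [Finite V]
    (h : ∀ v : V, p • v = 0) (hcard : p < Nat.card V) :
    ∃ (f g : V →+ ZMod p) (v w : V), f v = 1 ∧ g v = 0 ∧ f w = 0 ∧ g w = 1 := by
  letI : Module (ZMod p) V := AddCommGroup.zmodModule h
  exact exists_coords' hcard

/-- A non-cyclic finite abelian group has two independent functionals modulo some prime. -/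
theorem exists_functionals {G : Type*} [CommGroup G] [Finite G] (h : ¬ IsCyclic G) :
    ∃ (p : ℕ) (_ : Fact p.Prime) (f g : G →* Multiplicative (ZMod p)) (x y : G),
      f x = Multiplicative.ofAdd 1 ∧ g x = 1 ∧ f y = 1 ∧ g y = Multiplicative.ofAdd 1 := by
  classical
  haveI := Fintype.ofFinite G
  -- an integer with too many roots
  obtain ⟨n, hn0, hn⟩ : ∃ n, 0 < n ∧ n < (Finset.univ.filter fun a : G => a ^ n = 1).card := by
    by_contra hh
    push Not at hh
    exact h (isCyclic_of_card_pow_eq_one_le fun n hn => hh n hn)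
  obtain ⟨p, hp, hpn⟩ : ∃ p : ℕ, p.Prime ∧ p < Nat.card (powMonoidHom p : G →* G).ker := by
    by_contra hh
    push Not at hh
    suffices ∀ n, 0 < n → Nat.card (powMonoidHom n : G →* G).ker ≤ n by
      have := this n hn0
      rw [Nat.card_eq_fintype_card, Fintype.card_subtype] at this
      simp only [MonoidHom.mem_ker, powMonoidHom_apply] at this
      omega
    intro n
    induction n using Nat.strong_induction_on with
    | _ n ih =>
      intro hn
      rcases Nat.lt_or_ge 1 n with h1 | h1
      · obtain ⟨p, hp, d, rfl⟩ := Nat.exists_prime_and_dvd h1.ne'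
        have hd : 0 < d := Nat.pos_of_mul_pos_left hn
        have hlt : d < p * d := lt_mul_of_one_lt_left hd hp.one_lt
        let π : (powMonoidHom (p * d) : G →* G).ker →* (powMonoidHom p : G →* G).ker :=
          ((powMonoidHom d : G →* G).comp (Subgroup.subtype _)).codRestrict _ fun a => by
            show ((a : G) ^ d) ^ p = 1
            rw [← pow_mul']; exact a.2
        have hk : Nat.card π.ker ≤ Nat.card (powMonoidHom d : G →* G).ker :=
          Nat.card_le_card_of_injective (fun a : π.ker => (⟨((a : _) : G), congrArg Subtype.val a.2⟩ :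
            (powMonoidHom d : G →* G).ker)) fun a b hab =>
              Subtype.ext (Subtype.ext (congrArg (fun t : (powMonoidHom d : G →* G).ker => (t : G)) hab))
        have hr : π.ker.index ≤ Nat.card (powMonoidHom p : G →* G).ker := by
          rw [Subgroup.index_ker]; exact Subgroup.card_le_card_group _
        calc Nat.card (powMonoidHom (p * d) : G →* G).ker = Nat.card π.ker * π.ker.index :=
              (Subgroup.card_mul_index _).symm
          _ ≤ d * p := Nat.mul_le_mul (hk.trans (ih d hlt hd)) (hr.trans (hh p hp))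
          _ = p * d := mul_comm _ _
      · obtain rfl : n = 1 := by omega
        refine Finite.card_le_one_iff_subsingleton.2 ⟨fun a b => Subtype.ext ?_⟩
        have ha : (a : G) ^ 1 = 1 := a.2
        have hb : (b : G) ^ 1 = 1 := b.2
        rw [pow_one] at ha hb
        rw [ha, hb]
  haveI : Fact p.Prime := ⟨hp⟩
  let V := G ⧸ (powMonoidHom p : G →* G).range
  have hV : ∀ v : Additive V, p • v = 0 := by
    intro v
    obtain ⟨a, ha⟩ := QuotientGroup.mk'_surjective _ (Additive.toMul v)
    rw [← ofMul_toMul v, ← ofMul_pow, ← ha, ← map_pow]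
    rw [show (QuotientGroup.mk' _) (a ^ p) = (1 : V) from (QuotientGroup.eq_one_iff _).2 ⟨a, rfl⟩]
    rfl
  have hVcard : Nat.card (Additive V) = Nat.card (powMonoidHom p : G →* G).ker := by
    have h1 := Subgroup.card_mul_index (powMonoidHom p : G →* G).range
    have h2 := Subgroup.card_mul_index (powMonoidHom p : G →* G).ker
    rw [Subgroup.index_ker, mul_comm] at h2
    show (powMonoidHom p : G →* G).range.index = _
    exact Nat.eq_of_mul_eq_mul_left Nat.card_pos (h1.trans h2.symm)
  obtain ⟨f, g, v, w, hfv, hgv, hfw, hgw⟩ :=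
    exists_coords (p := p) hV (hVcard.symm ▸ hpn)
  obtain ⟨x, hx⟩ := QuotientGroup.mk'_surjective (powMonoidHom p : G →* G).range (Additive.toMul v)
  obtain ⟨y, hy⟩ := QuotientGroup.mk'_surjective (powMonoidHom p : G →* G).range (Additive.toMul w)
  let q := QuotientGroup.mk' (powMonoidHom p : G →* G).range
  refine ⟨p, inferInstance, (AddMonoidHom.toMultiplicativeRight f).comp q,
    (AddMonoidHom.toMultiplicativeRight g).comp q, x, y, ?_, ?_, ?_, ?_⟩
  · show Multiplicative.ofAdd (f (Additive.ofMul (q x))) = _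
    rw [show q x = Additive.toMul v from hx, ofMul_toMul, hfv]
  · show Multiplicative.ofAdd (g (Additive.ofMul (q x))) = _
    rw [show q x = Additive.toMul v from hx, ofMul_toMul, hgv, ofAdd_zero]
  · show Multiplicative.ofAdd (f (Additive.ofMul (q y))) = _
    rw [show q y = Additive.toMul w from hy, ofMul_toMul, hfw, ofAdd_zero]
  · show Multiplicative.ofAdd (g (Additive.ofMul (q y))) = _
    rw [show q y = Additive.toMul w from hy, ofMul_toMul, hgw]

theorem isCyclic_of_trivial {G : Type*} [CommGroup G] [Finite G]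
    (h : Cfsg.HasCyclicSchurMultiplier G 1) : IsCyclic G := by
  by_contra hc
  obtain ⟨p, hp, f, g, x, y, h1, h2, h3, h4⟩ := exists_functionals hc
  obtain ⟨c, hst⟩ := stem_of_functionals f g x y h1 h2 h3 h4
  haveI := c.finite_ext
  have hbot := ker_eq_bot_of_trivial h hst
  have e := Nat.card_congr c.kerEquiv.toEquiv
  rw [hbot, Subgroup.card_bot] at e
  have : Nat.card (Multiplicative (ZMod p)) = p := Nat.card_zmod p
  rw [this] at e
  exact hp.1.one_lt.ne e

theorem two_generator {m n : ℕ} [NeZero m] [NeZero n] (hnm : n ∣ m) :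
    Cfsg.HasCyclicSchurMultiplier (Multiplicative (ZMod m × ZMod n)) n := by
  let f : Multiplicative (ZMod m × ZMod n) →* Multiplicative (ZMod n) :=
    AddMonoidHom.toMultiplicative ((ZMod.castHom hnm (ZMod n)).toAddMonoidHom.comp (AddMonoidHom.fst _ _))
  let g : Multiplicative (ZMod m × ZMod n) →* Multiplicative (ZMod n) :=
    AddMonoidHom.toMultiplicative (AddMonoidHom.snd _ _)
  let x : Multiplicative (ZMod m × ZMod n) := Multiplicative.ofAdd (1, 0)
  let y : Multiplicative (ZMod m × ZMod n) := Multiplicative.ofAdd (0, 1)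
  obtain ⟨c, hst⟩ := stem_of_functionals f g x y
    (congrArg Multiplicative.ofAdd (map_one (ZMod.castHom hnm (ZMod n)))) rfl
    (congrArg Multiplicative.ofAdd (map_zero (ZMod.castHom hnm (ZMod n)))) rfl
  refine ⟨⟨c.Ext, inferInstance, c.finite_ext, c.proj, hst, ⟨c.kerEquiv⟩⟩, fun Δ _ _ σ hσ => ?_⟩
  obtain ⟨a, ha⟩ := hσ.1 x
  obtain ⟨b, hb⟩ := hσ.1 y
  have hrel : σ b * σ a * (σ b)⁻¹ = σ a ^ (1 : ℤ) := by
    rw [zpow_one, mul_comm (σ b), mul_inv_cancel_right]
  have hgen : closure ({σ a, σ b} : Set (Multiplicative (ZMod m × ZMod n))) = ⊤ := by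
    rw [ha, hb, eq_top_iff]
    intro w _
    have hw : w = x ^ (Multiplicative.toAdd w).1.val * y ^ (Multiplicative.toAdd w).2.val := by
      rw [← ofAdd_nsmul, ← ofAdd_nsmul, ← ofAdd_add]
      simp [Prod.smul_mk]
    rw [hw]
    have hxm : x ∈ closure ({x, y} : Set (Multiplicative (ZMod m × ZMod n))) :=
      subset_closure (Set.mem_insert x _)
    have hym : y ∈ closure ({x, y} : Set (Multiplicative (ZMod m × ZMod n))) :=
      subset_closure (Set.mem_insert_of_mem x (Set.mem_singleton y))
    exact mul_mem (pow_mem hxm _) (pow_mem hym _)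
  have hc : (b * a * b⁻¹ * a⁻¹) ^ n = 1 := by
    have h1 := (c_pow_rel hσ hrel (n := n) (t := 0) (by
      rw [hb, pow_zero]
      show Multiplicative.ofAdd (n • ((0, 1) : ZMod m × ZMod n)) = Multiplicative.ofAdd 0
      simp [Prod.smul_mk])).2
    simpa using h1
  exact exists_surjective_of_le_zpowers
    (hσ.2.2.trans (commutator_le_zpowers hσ hgen hrel)) hc

end Cfsg.Agent.H74.Schur
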