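import Cfsg.Agent.H74.SchurFree
import Mathlib.Algebra.Category.Grp.Injective
import Mathlib.LinearAlgebra.Matrix.GeneralLinearGroup.Basic
import Mathlib.Analysis.Complex.Polynomial.Basic
import Mathlib.GroupTheory.FiniteAbelian.Duality
import Mathlib.RingTheory.RootsOfUnity.AlgebraicallyClosed

/-!
Covering groups over a given stem extension, and lifting of projective representations.
-/

namespace Cfsg.Agent.H74.Schur

open Subgroup Matrix
open scoped IsMulCommutative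

universe u v w

theorem extend_hom {A B Z : Type*} [CommGroup A] [CommGroup B] [CommGroup Z]
    (hdiv : ∀ k : ℕ, k ≠ 0 → Function.Surjective (fun z : Z => z ^ k)) (e : A →* B)
    (he : Function.Injective e) (χ : A →* Z) : ∃ χ' : B →* Z, ∀ a, χ' (e a) = χ a := by
  letI : DivisibleBy (Additive Z) ℤ := divisibleByOfSMulRightSurj (Additive Z) ℤ fun {k} hk z => by
    obtain ⟨w, hw⟩ := hdiv k.natAbs (by simpa using hk) (Additive.toMul z)
    rcases Int.natAbs_eq k with h | h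
    · refine ⟨Additive.ofMul w, ?_⟩
      show k • Additive.ofMul w = z
      rw [h, ← ofMul_zpow, zpow_natCast, show w ^ k.natAbs = Additive.toMul z from hw, ofMul_toMul]
    · refine ⟨Additive.ofMul w⁻¹, ?_⟩
      show k • Additive.ofMul w⁻¹ = z
      rw [h, ← ofMul_zpow, inv_zpow', neg_neg, zpow_natCast,
        show w ^ k.natAbs = Additive.toMul z from hw, ofMul_toMul]
  obtain ⟨h, hh⟩ := (Module.Baer.of_divisible (Additive Z)).extension_property_addMonoidHom
    e.toAdditive he χ.toAdditive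
  exact ⟨MonoidHom.mk' (fun b => Additive.toMul (h (Additive.ofMul b))) (fun x y => by simp),
    fun a => congrArg Additive.toMul (DFunLike.congr_fun hh (Additive.ofMul a))⟩

theorem center_gl_pow_surjective (n : ℕ) (k : ℕ) (hk : k ≠ 0) :
    Function.Surjective (fun z : center (GL (Fin n) ℂ) => z ^ k) := by
  rintro ⟨g, hg⟩
  obtain ⟨c, hc⟩ : g ∈ (GeneralLinearGroup.scalar (Fin n)).range :=
    GeneralLinearGroup.center_eq_range_scalar (n := Fin n) (R := ℂ) ▸ hg
  obtain ⟨d, hd⟩ := IsAlgClosed.exists_pow_nat_eq (c : ℂ) (Nat.pos_of_ne_zero hk)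
  have hd0 : d ≠ 0 := by
    rintro rfl
    rw [zero_pow hk] at hd
    exact c.ne_zero hd.symm
  refine ⟨⟨GeneralLinearGroup.scalar (Fin n) (Units.mk0 d hd0),
    GeneralLinearGroup.center_eq_range_scalar (n := Fin n) (R := ℂ) ▸ ⟨_, rfl⟩⟩, Subtype.ext ?_⟩
  show GeneralLinearGroup.scalar (Fin n) (Units.mk0 d hd0) ^ k = g
  rw [← map_pow, ← hc]
  exact congrArg _ (Units.ext (by simpa using hd))

/-- A covering group mapping onto a given stem extension. -/
theorem exists_cover_over {ι : Type u} {Q : Type v} [Group Q] [Finite ι] [Finite Q]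
    (π : FreeGroup ι →* Q) (hπ : Function.Surjective π) {Γ : Type w} [Group Γ] (σ : Γ →* Q)
    (hσ : Cfsg.IsStemExtension σ) :
    ∃ (S : Subgroup (CExt π)) (_ : S.Normal) (σ₀ : CExt π ⧸ S →* Q) (β : CExt π ⧸ S →* Γ),
      Cfsg.IsStemExtension σ₀ ∧ Finite (CExt π ⧸ S) ∧ Nonempty (mult π ≃* σ₀.ker) ∧
        Function.Surjective β ∧ σ.comp β = σ₀ := by
  obtain ⟨φ, hφ⟩ := exists_lift (π := π) σ hσ.1 hσ.2.1
  obtain ⟨hsurj, hM⟩ := lift_stem hπ hσ hφ
  obtain ⟨S, hS, hinf, hsup⟩ := exists_complement π ((cextHom π).ker ⊓ φ.ker) inf_le_left (by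
    intro e he
    obtain ⟨m, hm, hme⟩ : φ e ∈ (mult π).map φ := hM.symm ▸ (show σ (φ e) = 1 by
      rw [← MonoidHom.comp_apply, hφ]; exact he)
    rw [← inv_mul_cancel_right e m]
    refine mul_mem_sup (mem_inf.2 ⟨mul_mem he (inv_mem hm.1), ?_⟩) hm
    rw [MonoidHom.mem_ker, map_mul, map_inv, hme, mul_inv_cancel])
  haveI := normal_of_le_ker S (hS.trans inf_le_left)
  obtain ⟨σ₀, hσ₀, hst, hfin, he⟩ := cover_of_complement S hπ (hS.trans inf_le_left) hinf hsup
  refine ⟨S, inferInstance, σ₀, QuotientGroup.lift S φ (fun x hx => (hS hx).2), hst, hfin, he,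
    fun g => ?_, ?_⟩
  · obtain ⟨e, rfl⟩ := hsurj g
    exact ⟨QuotientGroup.mk e, rfl⟩
  · refine QuotientGroup.monoidHom_ext _ ?_
    rw [hσ₀, MonoidHom.comp_assoc]
    refine MonoidHom.ext fun e => ?_
    exact DFunLike.congr_fun hφ e

/-- Projective representations lift to covering groups. -/
theorem exists_projective_lift {Q : Type v} [Group Q] [Finite Q] {A : Type w} [CommGroup A]
    (hA : Cfsg.HasSchurMultiplier Q A) {Γ : Type u} [Group Γ] (σ : Γ →* Q)
    (hσ : Cfsg.IsStemExtension σ) (hk : Nonempty (σ.ker ≃* A)) (n : ℕ)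
    (γ : Q →* (GL (Fin n) ℂ ⧸ center (GL (Fin n) ℂ))) :
    ∃ ρ : Γ →* GL (Fin n) ℂ,
      (QuotientGroup.mk' (center (GL (Fin n) ℂ))).comp ρ = γ.comp σ := by
  let π := FreeGroup.lift (id : Q → Q)
  have hπ : Function.Surjective π := freeGroup_lift_id_surjective
  let qm := QuotientGroup.mk' (center (GL (Fin n) ℂ))
  obtain ⟨φ, hφ⟩ := exists_lift (π := π) σ hσ.1 hσ.2.1
  obtain ⟨hS, hinf, -⟩ := lift_cover π hπ hA hσ hk hφ
  obtain ⟨hsurj, -⟩ := lift_stem hπ hσ hφ
  let ψ₀ : FreeGroup Q →* GL (Fin n) ℂ := FreeGroup.lift fun q => (γ q).out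
  have hψ₀ : qm.comp ψ₀ = γ.comp π := by
    refine FreeGroup.ext_hom _ _ fun q => ?_
    simp [qm, ψ₀, π]
  have hle : ⁅π.ker, (⊤ : Subgroup (FreeGroup Q))⁆ ≤ ψ₀.ker := by
    rw [Subgroup.commutator_le]
    intro r hr g _
    have hc : ψ₀ r ∈ center (GL (Fin n) ℂ) := by
      rw [← QuotientGroup.eq_one_iff]
      have := DFunLike.congr_fun hψ₀ r
      rwa [MonoidHom.comp_apply, MonoidHom.comp_apply, MonoidHom.mem_ker.1 hr, map_one] at this
    rw [MonoidHom.mem_ker, map_commutatorElement]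
    exact commutatorElement_eq_one_iff_mul_comm.2 (mem_center_iff.1 hc _).symm
  let ψ : CExt π →* GL (Fin n) ℂ := QuotientGroup.lift _ ψ₀ hle
  have hψ : ∀ e, qm (ψ e) = γ (cextHom π e) := by
    intro e
    induction e using QuotientGroup.induction_on with
    | H x => exact DFunLike.congr_fun hψ₀ x
  haveI : IsMulCommutative φ.ker :=
    ⟨⟨fun a b => Subtype.ext (mem_center_iff.1 (ker_cextHom_le π (hS b.2)) (a : CExt π))⟩⟩
  let e : φ.ker →* Multiplicative (Q →₀ ℤ) := (cextExp π).comp φ.ker.subtype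
  have he : Function.Injective e := (injective_iff_map_eq_one e).2 fun a ha => by
    have h2 : (a : CExt π) ∈ φ.ker ⊓ mult π :=
      mem_inf.2 ⟨a.2, mem_inf.2 ⟨hS a.2, (cextExp_eq_one_iff π _).1 ha⟩⟩
    rw [hinf, mem_bot] at h2
    exact Subtype.ext h2
  let χ : φ.ker →* center (GL (Fin n) ℂ) := (ψ.comp φ.ker.subtype).codRestrict _ fun a => by
    show ψ (a : CExt π) ∈ _
    rw [← QuotientGroup.eq_one_iff]
    have := hψ (a : CExt π)
    rwa [MonoidHom.mem_ker.1 (hS a.2), map_one] at this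
  obtain ⟨χ', hχ'⟩ := extend_hom (center_gl_pow_surjective n) e he χ
  let ψ' : CExt π →* GL (Fin n) ℂ :=
    MonoidHom.mk' (fun x => ψ x * ((χ' (cextExp π x))⁻¹ : center (GL (Fin n) ℂ)).1) fun x y => by
      rw [map_mul, map_mul, map_mul, mul_inv, Subgroup.coe_mul]
      have hc := mem_center_iff.1 ((χ' (cextExp π x))⁻¹).2 (ψ y)
      calc ψ x * ψ y * (((χ' (cextExp π x))⁻¹).1 * ((χ' (cextExp π y))⁻¹).1)
          = ψ x * (ψ y * ((χ' (cextExp π x))⁻¹).1) * ((χ' (cextExp π y))⁻¹).1 := by group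
        _ = _ := by rw [hc]; group
  have hkill : φ.ker ≤ ψ'.ker := fun a ha => by
    show ψ a * ((χ' (cextExp π a))⁻¹).1 = 1
    rw [show cextExp π a = e ⟨a, ha⟩ from rfl, hχ']
    exact mul_inv_cancel _
  refine ⟨φ.liftOfSurjective hsurj ⟨ψ', hkill⟩, MonoidHom.ext fun g => ?_⟩
  obtain ⟨x, rfl⟩ := hsurj g
  show qm (φ.liftOfSurjective hsurj ⟨ψ', hkill⟩ (φ x)) = γ (σ (φ x))
  rw [MonoidHom.liftOfRightInverse_comp_apply, show σ (φ x) = cextHom π x from DFunLike.congr_fun hφ x,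
    ← hψ]
  show qm (ψ x * ((χ' (cextExp π x))⁻¹).1) = qm (ψ x)
  rw [map_mul, show qm ((χ' (cextExp π x))⁻¹).1 = 1 from
    (QuotientGroup.eq_one_iff _).2 ((χ' (cextExp π x))⁻¹).2, mul_one]

section Monomial

variable {Γ : Type u} {Q : Type v} [Group Γ] [Group Q] {σ : Γ →* Q}

/-- A projective representation of `Q` realising a character of a central kernel. -/
theorem exists_monomial [Finite Q] (hs : Function.Surjective σ) (hc : σ.ker ≤ center Γ)
    (χ : σ.ker →* ℂˣ) :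
    ∃ (n : ℕ) (_ : NeZero n) (ρ : Γ →* GL (Fin n) ℂ)
      (γ : Q →* (GL (Fin n) ℂ ⧸ center (GL (Fin n) ℂ))),
      (QuotientGroup.mk' (center (GL (Fin n) ℂ))).comp ρ = γ.comp σ ∧
        ∀ z : σ.ker, ρ z = GeneralLinearGroup.scalar (Fin n) (χ z) := by
  classical
  haveI : NeZero (Nat.card Q) := ⟨Nat.card_pos.ne'⟩
  obtain ⟨e⟩ : Nonempty (Fin (Nat.card Q) ≃ Q) := ⟨(Finite.equivFin Q).symm⟩
  let s := Function.surjInv hs
  have hsec : ∀ q, σ (s q) = q := Function.surjInv_eq hs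
  have hmem : ∀ g q, (s (σ g * q))⁻¹ * (g * s q) ∈ σ.ker := fun g q => by
    rw [MonoidHom.mem_ker, map_mul, map_mul, map_inv, hsec, hsec, inv_mul_cancel]
  let k : Γ → Q → σ.ker := fun g q => ⟨(s (σ g * q))⁻¹ * (g * s q), hmem g q⟩
  have hk : ∀ g h q, k (g * h) q = k g (σ h * q) * k h q := fun g h q => Subtype.ext (by
    show (s (σ (g * h) * q))⁻¹ * (g * h * s q) =
      (s (σ g * (σ h * q)))⁻¹ * (g * s (σ h * q)) * ((s (σ h * q))⁻¹ * (h * s q))
    rw [map_mul, mul_assoc (σ g)]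
    group)
  let M : Γ → Matrix (Fin (Nat.card Q)) (Fin (Nat.card Q)) ℂ := fun g =>
    Matrix.of fun i j => if i = e.symm (σ g * e j) then (χ (k g (e j)) : ℂ) else 0
  have hz : ∀ z : σ.ker, M z = Matrix.diagonal fun _ => ((χ z : ℂˣ) : ℂ) := by
    intro z
    ext i j
    have h1 : σ (z : Γ) = 1 := z.2
    have h2 : k z (e j) = z := Subtype.ext (by
      show (s (σ (z : Γ) * e j))⁻¹ * ((z : Γ) * s (e j)) = z
      rw [h1, one_mul, ← mem_center_iff.1 (hc z.2) (s (e j)), inv_mul_cancel_left])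
    simp only [M, Matrix.of_apply, h1, one_mul, Equiv.symm_apply_apply, h2, Matrix.diagonal_apply]
  let R : Γ →* Matrix (Fin (Nat.card Q)) (Fin (Nat.card Q)) ℂ :=
    { toFun := M
      map_one' := by
        rw [show (1 : Γ) = ((1 : σ.ker) : Γ) from rfl, hz]
        simp
      map_mul' := fun g h => by
        ext i j
        rw [Matrix.mul_apply, Finset.sum_eq_single (e.symm (σ h * e j))]
        · simp only [M, Matrix.of_apply, Equiv.apply_symm_apply, map_mul, mul_assoc, if_true, hk,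
            Units.val_mul]
          split_ifs <;> simp
        · intro l _ hl
          simp [M, hl]
        · simp }
  let ρ := R.toHomUnits
  have hρz : ∀ z : σ.ker, ρ z = GeneralLinearGroup.scalar (Fin (Nat.card Q)) (χ z) := fun z =>
    Units.ext (by
      show M z = _
      rw [hz]
      rfl)
  have hkill : σ.ker ≤ ((QuotientGroup.mk' (center (GL (Fin (Nat.card Q)) ℂ))).comp ρ).ker :=
    fun z hz' => by
      rw [MonoidHom.mem_ker, MonoidHom.comp_apply, QuotientGroup.mk'_apply, QuotientGroup.eq_one_iff,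
        hρz ⟨z, hz'⟩, GeneralLinearGroup.center_eq_range_scalar]
      exact ⟨_, rfl⟩
  refine ⟨Nat.card Q, inferInstance, ρ, σ.liftOfSurjective hs ⟨_, hkill⟩, ?_, hρz⟩
  ext g
  exact (σ.liftOfRightInverse_comp_apply (Function.surjInv hs) (Function.rightInverse_surjInv hs)
    ⟨_, hkill⟩ g).symm

/-- The obstruction: a lift along `φ` forces characters to be trivial on killed kernel elements. -/
theorem eq_one_of_lifts [Finite Q] (hσ : Cfsg.IsStemExtension σ) [Finite σ.ker] {Δ : Type w}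
    [Group Δ] {τ : Δ →* Q} (φ : Γ →* Δ) (hφ : τ.comp φ = σ)
    (hlift : ∀ (n : ℕ) (γ : Q →* (GL (Fin n) ℂ ⧸ center (GL (Fin n) ℂ))), ∃ ρ : Δ →* GL (Fin n) ℂ,
      (QuotientGroup.mk' (center (GL (Fin n) ℂ))).comp ρ = γ.comp τ)
    {z : Γ} (hz : z ∈ σ.ker) (hφz : φ z = 1) : z = 1 := by
  haveI : IsMulCommutative σ.ker :=
    ⟨⟨fun a b => Subtype.ext (mem_center_iff.1 (hσ.2.1 b.2) (a : Γ))⟩⟩
  suffices h : ∀ χ : σ.ker →* ℂˣ, χ ⟨z, hz⟩ = 1 by
    by_contra hne
    obtain ⟨χ, hχ⟩ := CommGroup.exists_apply_ne_one_of_hasEnoughRootsOfUnity σ.ker ℂ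
      (a := ⟨z, hz⟩) (fun h' => hne (congrArg Subtype.val h'))
    exact hχ (h χ)
  intro χ
  obtain ⟨n, _, ρ, γ, hγ, hρ⟩ := exists_monomial hσ.1 hσ.2.1 χ
  obtain ⟨ρ', hρ'⟩ := hlift n γ
  have hk : ∀ x, ρ x * (ρ' (φ x))⁻¹ ∈ center (GL (Fin n) ℂ) := fun x => by
    rw [← QuotientGroup.eq_one_iff, QuotientGroup.mk_mul, QuotientGroup.mk_inv, mul_inv_eq_one]
    have h1 := DFunLike.congr_fun hγ x
    have h2 := DFunLike.congr_fun hρ' (φ x)
    have h3 := DFunLike.congr_fun hφ x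
    simp only [MonoidHom.comp_apply, QuotientGroup.mk'_apply] at h1 h2 h3
    rw [h1, h2, h3]
  let d : Γ →* center (GL (Fin n) ℂ) := MonoidHom.mk' (fun x => ⟨_, hk x⟩) fun x y => Subtype.ext (by
    have hy := mem_center_iff.1 (hk y)
    simp only [map_mul, _root_.mul_inv_rev, Subgroup.coe_mul]
    calc ρ x * ρ y * ((ρ' (φ y))⁻¹ * (ρ' (φ x))⁻¹)
        = ρ x * (ρ y * (ρ' (φ y))⁻¹) * (ρ' (φ x))⁻¹ := by group
      _ = ρ y * (ρ' (φ y))⁻¹ * (ρ x * (ρ' (φ x))⁻¹) := by rw [hy]; group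
      _ = ρ x * (ρ' (φ x))⁻¹ * (ρ y * (ρ' (φ y))⁻¹) := by rw [hy])
  have h1 : d z = 1 := Abelianization.commutator_subset_ker d (hσ.2.2 hz)
  have h2 : ρ z * (ρ' (φ z))⁻¹ = 1 := congrArg Subtype.val h1
  rw [hφz, map_one, inv_one, mul_one, show z = ((⟨z, hz⟩ : σ.ker) : Γ) from rfl, hρ] at h2
  have h3 := congrArg (fun g : GL (Fin n) ℂ => (g : Matrix (Fin n) (Fin n) ℂ) 0 0) h2
  exact Units.ext (by simpa using h3)

end Monomial

end Cfsg.Agent.H74.Schur
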