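import Cfsg.Agent.H74.SchurFree
import Cfsg.Agent.H74.SchurLift
import Mathlib

/-! Consequences of the free-presentation description of the Schur multiplier. -/

namespace Cfsg.Agent.H74.Schur

open Subgroup
open scoped IsMulCommutative

universe u v w

/-- In a central extension every commutator comes from the universal one. -/
theorem commutator_le_map_cext {F : Type u} {Q : Type v} [Group F] [Group Q] {π : F →* Q}
    (hπ : Function.Surjective π) {Γ : Type w} [Group Γ] {σ : Γ →* Q} (hc : σ.ker ≤ center Γ)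
    {φ : CExt π →* Γ} (hφ : σ.comp φ = cextHom π) :
    commutator Γ ≤ (commutator (CExt π)).map φ := by
  rw [commutator_def Γ, Subgroup.commutator_le]
  intro a _ b _
  have key : ∀ a : Γ, ∃ e, ∃ z ∈ center Γ, a = φ e * z := by
    intro a
    obtain ⟨e, he⟩ := cextHom_surjective π hπ (σ a)
    refine ⟨e, (φ e)⁻¹ * a, hc ?_, (mul_inv_cancel_left _ _).symm⟩
    rw [MonoidHom.mem_ker, map_mul, map_inv, ← MonoidHom.comp_apply, hφ, he, inv_mul_cancel]
  obtain ⟨e, z, hz, rfl⟩ := key a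
  obtain ⟨f, z', hz', rfl⟩ := key b
  refine ⟨e * f * e⁻¹ * f⁻¹, Subgroup.commutator_mem_commutator (mem_top e) (mem_top f), ?_⟩
  have c1 : ∀ x, x * z = z * x := fun x => mem_center_iff.1 hz x
  have c2 : ∀ x, x * z' = z' * x := fun x => mem_center_iff.1 hz' x
  simp only [map_mul, map_inv, commutatorElement_def, mul_inv_rev]
  calc φ e * φ f * (φ e)⁻¹ * (φ f)⁻¹
      = φ e * φ f * (φ e)⁻¹ * z' * z'⁻¹ * (φ f)⁻¹ := by group
    _ = φ e * φ f * ((φ e)⁻¹ * z') * z'⁻¹ * (φ f)⁻¹ := by group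
    _ = φ e * φ f * (z' * (φ e)⁻¹) * z'⁻¹ * (φ f)⁻¹ := by rw [c2]
    _ = φ e * (φ f * z * z⁻¹) * z' * (φ e)⁻¹ * z'⁻¹ * (φ f)⁻¹ := by group
    _ = φ e * (z * φ f * z⁻¹) * z' * (φ e)⁻¹ * z'⁻¹ * (φ f)⁻¹ := by rw [c1]
    _ = φ e * z * φ f * (z⁻¹ * z') * (φ e)⁻¹ * z'⁻¹ * (φ f)⁻¹ := by group
    _ = φ e * z * φ f * (z' * z⁻¹) * (φ e)⁻¹ * z'⁻¹ * (φ f)⁻¹ := by rw [c2]
    _ = φ e * z * (φ f * z') * (z⁻¹ * (φ e)⁻¹) * (z'⁻¹ * (φ f)⁻¹) := by group

/-- A quotient of a finite abelian group embeds in it. -/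
theorem exists_injective_of_surjective {B C : Type*} [CommGroup B] [Finite B] [CommGroup C]
    (f : B →* C) (hf : Function.Surjective f) : ∃ g : C →* B, Function.Injective g := by
  haveI : Finite C := Finite.of_surjective f hf
  obtain ⟨eB⟩ := CommGroup.monoidHom_mulEquiv_of_hasEnoughRootsOfUnity B ℂ
  obtain ⟨eC⟩ := CommGroup.monoidHom_mulEquiv_of_hasEnoughRootsOfUnity C ℂ
  let P : (C →* ℂˣ) →* (B →* ℂˣ) := MonoidHom.mk' (fun χ => χ.comp f) fun _ _ => rfl
  have hP : Function.Injective P := fun χ χ' h => (MonoidHom.cancel_right hf).1 h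
  exact ⟨(eB.toMonoidHom.comp P).comp eC.symm.toMonoidHom,
    eB.injective.comp (hP.comp eC.symm.injective)⟩

/-- A nontrivial homomorphism between finite abelian groups of non-coprime orders. -/
theorem exists_ne_one_hom {C M : Type*} [CommGroup C] [Finite C] [CommGroup M] [Finite M]
    (h : ¬ Nat.Coprime (Nat.card C) (Nat.card M)) : ∃ ψ : C →* M, ψ ≠ 1 := by
  obtain ⟨p, hp, hpC, hpM⟩ := Nat.Prime.not_coprime_iff_dvd.1 h
  haveI : Fact p.Prime := ⟨hp⟩
  obtain ⟨eC⟩ := CommGroup.monoidHom_mulEquiv_of_hasEnoughRootsOfUnity C ℂ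
  obtain ⟨c, hc⟩ := exists_prime_orderOf_dvd_card' p hpC
  obtain ⟨m, hm⟩ := exists_prime_orderOf_dvd_card' p hpM
  set χ : C →* ℂˣ := eC.symm c with hχ
  have hord : orderOf χ = p := by rw [hχ, MulEquiv.orderOf_eq, hc]
  have hroot : ∀ x, χ x ∈ rootsOfUnity p ℂ := fun x => by
    rw [mem_rootsOfUnity, ← MonoidHom.pow_apply, ← hord, pow_orderOf_eq_one, MonoidHom.one_apply]
  have h1 : Nat.card (rootsOfUnity p ℂ) = p := by
    haveI : NeZero p := ⟨hp.ne_zero⟩
    exact HasEnoughRootsOfUnity.natCard_rootsOfUnity ℂ p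
  have h2 : Nat.card (Subgroup.zpowers m) = p := by rw [Nat.card_zpowers, hm]
  let e : rootsOfUnity p ℂ ≃* Subgroup.zpowers m :=
    mulEquivOfPrimeCardEq h1 h2
  refine ⟨(Subgroup.zpowers m).subtype.comp (e.toMonoidHom.comp (χ.codRestrict _ hroot)), fun h0 => ?_⟩
  have : χ = 1 := MonoidHom.ext fun x => by
    have h3 := DFunLike.congr_fun h0 x
    simp only [MonoidHom.comp_apply, MonoidHom.one_apply, Subgroup.coe_subtype,
      OneMemClass.coe_eq_one, MulEquiv.coe_toMonoidHom, map_eq_one_iff e e.injective] at h3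
    exact congrArg Subtype.val h3
  rw [this, orderOf_one] at hord
  exact hp.one_lt.ne hord

section Covers

variable {Q : Type u} [Group Q] [Finite Q]

/-- Powers by `|Q^ab|` bring exponent sums into those of a complement. -/
theorem exists_exp_pow {π : FreeGroup Q →* Q} (hπ : Function.Surjective π) (S : Subgroup (CExt π))
    (hsup : (cextHom π).ker ≤ S ⊔ mult π) (hS : S ≤ (cextHom π).ker) (e : CExt π) :
    ∃ s ∈ S, cextExp π s = cextExp π e ^ Nat.card (Abelianization Q) := by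
  set k := Nat.card (Abelianization Q)
  have hq : cextHom π e ^ k ∈ commutator Q := by
    rw [← Abelianization.ker_of, MonoidHom.mem_ker, map_pow]
    exact pow_card_eq_one'
  rw [← map_commutator_of_surjective _ (cextHom_surjective π hπ)] at hq
  obtain ⟨c, hc, hcq⟩ := hq
  have hR : e ^ k * c⁻¹ ∈ (cextHom π).ker := by
    rw [MonoidHom.mem_ker, map_mul, map_inv, map_pow, hcq, mul_inv_cancel]
  haveI := normal_of_le_ker S hS
  obtain ⟨s, hs, m, hm, hsm⟩ := Subgroup.mem_sup_of_normal_left.1 (hsup hR)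
  refine ⟨s, hs, ?_⟩
  have h := congrArg (cextExp π) hsm
  rwa [map_mul, map_mul, map_inv, map_pow, (cextExp_eq_one_iff π m).2 (Subgroup.mem_inf.1 hm).2,
    (cextExp_eq_one_iff π c).2 hc, mul_one, inv_one, mul_one] at h

theorem exp_inj_on {π : FreeGroup Q →* Q} {S : Subgroup (CExt π)} (hS : S ≤ (cextHom π).ker)
    (hinf : S ⊓ mult π = ⊥) {s t : CExt π} (hs : s ∈ S) (ht : t ∈ S)
    (h : cextExp π s = cextExp π t) : s = t := by
  have hmem : s * t⁻¹ ∈ S ⊓ mult π := by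
    refine Subgroup.mem_inf.2 ⟨mul_mem hs (inv_mem ht), Subgroup.mem_inf.2
      ⟨hS (mul_mem hs (inv_mem ht)), (cextExp_eq_one_iff π _).1 ?_⟩⟩
    rw [map_mul, map_inv, h, mul_inv_cancel]
  rwa [hinf, Subgroup.mem_bot, mul_inv_eq_one] at hmem

/-- Multiplication of a lift by a homomorphism with central values in the kernel. -/
noncomputable def twist {π : FreeGroup Q →* Q} {Γ : Type*} [Group Γ] {σ : Γ →* Q}
    (hc : σ.ker ≤ center Γ) (φ : CExt π →* Γ) (δ : CExt π →* σ.ker) : CExt π →* Γ :=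
  MonoidHom.mk' (fun e => φ e * δ e) fun a b => by
    have h := mem_center_iff.1 (hc (δ a).2) (φ b)
    simp only [map_mul, Subgroup.coe_mul]
    calc φ a * φ b * ((δ a : Γ) * δ b) = φ a * (φ b * δ a) * δ b := by group
      _ = φ a * ((δ a : Γ) * φ b) * δ b := by rw [h]
      _ = φ a * δ a * (φ b * δ b) := by group

/-- Covering groups are isomorphic over `Q` when `|Q^ab|` is prime to the multiplier. -/
theorem covers_equiv {A : Type w} [CommGroup A] (hA : Cfsg.HasSchurMultiplier Q A)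
    (hco : Nat.Coprime (Nat.card (Abelianization Q)) (Nat.card A))
    {Γ₁ Γ₂ : Type u} [Group Γ₁] [Finite Γ₁] [Group Γ₂] [Finite Γ₂] (σ₁ : Γ₁ →* Q) (σ₂ : Γ₂ →* Q)
    (h₁ : Cfsg.IsStemExtension σ₁) (h₂ : Cfsg.IsStemExtension σ₂)
    (k₁ : Nonempty (σ₁.ker ≃* A)) (k₂ : Nonempty (σ₂.ker ≃* A)) :
    ∃ e : Γ₁ ≃* Γ₂, σ₂.comp e.toMonoidHom = σ₁ := by
  set π := FreeGroup.lift (id : Q → Q) with hπd
  have hπ : Function.Surjective π := freeGroup_lift_id_surjective
  obtain ⟨φ₁, hφ₁⟩ := exists_lift (π := π) σ₁ h₁.1 h₁.2.1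
  obtain ⟨φ₂, hφ₂⟩ := exists_lift (π := π) σ₂ h₂.1 h₂.2.1
  obtain ⟨hS, hinf, hsup⟩ := lift_cover π hπ hA h₁ k₁ hφ₁
  obtain ⟨hsurj₁, -⟩ := lift_stem hπ h₁ hφ₁
  haveI : IsMulCommutative σ₂.ker :=
    ⟨⟨fun a b => Subtype.ext (mem_center_iff.1 (h₂.2.1 b.2) (a : Γ₂))⟩⟩
  choose s hs hsk using exists_exp_pow hπ φ₁.ker hsup hS
  obtain ⟨t, ht⟩ : ∃ t, Nat.card (Abelianization Q) * t ≡ 1 [MOD Nat.card A] := by
    by_cases h : 1 < Nat.card A
    · obtain ⟨t, -, ht⟩ := Nat.exists_mul_mod_eq_one_of_coprime hco h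
      exact ⟨t, by rw [Nat.ModEq, ht, Nat.one_mod_eq_one.2 h.ne']⟩
    · haveI := finite_of_hasSchurMultiplier hA
      have : Nat.card A = 1 := by have := Nat.card_pos (α := A); omega
      exact ⟨0, by rw [this]; exact Nat.modEq_one⟩
  have hd : ∀ e, φ₂ (s e) ∈ σ₂.ker := fun e => by
    rw [MonoidHom.mem_ker, ← MonoidHom.comp_apply, hφ₂]
    exact hS (hs e)
  have hsmul : ∀ a b, s (a * b) = s a * s b := fun a b =>
    exp_inj_on hS hinf (hs _) (mul_mem (hs a) (hs b))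
      (by rw [hsk, map_mul, map_mul, hsk, hsk, mul_pow])
  let δ : CExt π →* σ₂.ker := MonoidHom.mk' (fun e => ((⟨φ₂ (s e), hd e⟩ : σ₂.ker)⁻¹) ^ t)
    fun a b => by
      rw [← mul_pow, ← mul_inv]
      congr 2
      apply Subtype.ext
      show φ₂ (s (a * b)) = φ₂ (s a) * φ₂ (s b)
      rw [hsmul, map_mul]
  let φ₂' := twist h₂.2.1 φ₂ δ
  have hφ₂' : σ₂.comp φ₂' = cextHom π := MonoidHom.ext fun e => by
    show σ₂ (φ₂ e * δ e) = _
    rw [map_mul, MonoidHom.mem_ker.1 (δ e).2, mul_one, ← MonoidHom.comp_apply, hφ₂]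
  have hker : φ₁.ker ≤ φ₂'.ker := by
    intro x hx
    have hx2 : φ₂ x ∈ σ₂.ker := by rw [MonoidHom.mem_ker, ← MonoidHom.comp_apply, hφ₂]; exact hS hx
    have hsx : s x = x ^ Nat.card (Abelianization Q) :=
      exp_inj_on hS hinf (hs x) (pow_mem hx _) (by rw [hsk, map_pow])
    have hδ : δ x = (⟨φ₂ x, hx2⟩ : σ₂.ker)⁻¹ := by
      show ((⟨φ₂ (s x), hd x⟩ : σ₂.ker)⁻¹) ^ t = _
      have h4 : (⟨φ₂ (s x), hd x⟩ : σ₂.ker) = ⟨φ₂ x, hx2⟩ ^ Nat.card (Abelianization Q) :=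
        Subtype.ext (show φ₂ (s x) = φ₂ x ^ _ by rw [hsx, map_pow])
      obtain ⟨e2⟩ := k₂
      rw [h4, ← inv_pow, ← pow_mul]
      conv_rhs => rw [← pow_one (_⁻¹)]
      rw [pow_eq_pow_iff_modEq]
      refine ht.of_dvd ?_
      rw [← Nat.card_congr e2.toEquiv]
      exact orderOf_dvd_natCard _
    rw [MonoidHom.mem_ker]
    show φ₂ x * δ x = 1
    rw [hδ]; simp
  obtain ⟨hsurj₂, -⟩ := lift_stem hπ h₂ hφ₂'
  let e₀ : Γ₁ →* Γ₂ := φ₁.liftOfSurjective hsurj₁ ⟨φ₂', hker⟩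
  have he₀ : ∀ x, e₀ (φ₁ x) = φ₂' x := fun x =>
    MonoidHom.liftOfRightInverse_comp_apply φ₁ _ _ ⟨φ₂', hker⟩ x
  have hsurj : Function.Surjective e₀ := fun g => by
    obtain ⟨x, rfl⟩ := hsurj₂ g
    exact ⟨φ₁ x, he₀ x⟩
  have hcard : Nat.card Γ₁ = Nat.card Γ₂ := by
    rw [← Subgroup.card_mul_index σ₁.ker, ← Subgroup.card_mul_index σ₂.ker, Subgroup.index_ker,
      Subgroup.index_ker, MonoidHom.range_eq_top.2 h₁.1, MonoidHom.range_eq_top.2 h₂.1]
    obtain ⟨a⟩ := k₁; obtain ⟨b⟩ := k₂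
    rw [Nat.card_congr (a.trans b.symm).toEquiv]
  refine ⟨MulEquiv.ofBijective e₀ ((Nat.bijective_iff_surjective_and_card _).2 ⟨hsurj, hcard⟩),
    MonoidHom.ext fun g => ?_⟩
  obtain ⟨x, rfl⟩ := hsurj₁ g
  show σ₂ (e₀ (φ₁ x)) = σ₁ (φ₁ x)
  rw [he₀, ← MonoidHom.comp_apply, hφ₂', ← MonoidHom.comp_apply, hφ₁]

/-- Two covering groups not isomorphic over `Q` when `|Q^ab|` meets the multiplier. -/
theorem exists_covers_not_equiv {A : Type w} [CommGroup A] (hA : Cfsg.HasSchurMultiplier Q A)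
    (hco : ¬ Nat.Coprime (Nat.card (Abelianization Q)) (Nat.card A)) :
    ∃ (Γ₁ Γ₂ : Type u) (_ : Group Γ₁) (_ : Finite Γ₁) (_ : Group Γ₂) (_ : Finite Γ₂)
      (σ₁ : Γ₁ →* Q) (σ₂ : Γ₂ →* Q), Cfsg.IsStemExtension σ₁ ∧ Cfsg.IsStemExtension σ₂ ∧
        Nonempty (σ₁.ker ≃* A) ∧ Nonempty (σ₂.ker ≃* A) ∧
          ¬ ∃ e : Γ₁ ≃* Γ₂, σ₂.comp e.toMonoidHom = σ₁ := by
  classical
  set π := FreeGroup.lift (id : Q → Q) with hπd
  have hπ : Function.Surjective π := freeGroup_lift_id_surjective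
  obtain ⟨eA⟩ := mulEquiv_mult π hπ hA
  haveI := commGroup_finite_mult π
  letI : Fintype Q := Fintype.ofFinite Q
  obtain ⟨S, hS, hinf, hsup⟩ := exists_complement π (cextHom π).ker le_rfl le_sup_left
  haveI := normal_of_le_ker S hS
  haveI : IsMulCommutative S :=
    ⟨⟨fun a b => Subtype.ext (mem_center_iff.1 (ker_cextHom_le π (hS b.2)) (a : CExt π))⟩⟩
  -- a homomorphism on `S` that does not extend
  obtain ⟨d, hd⟩ : ∃ d : S →* mult π, ∀ ψ : CExt π →* mult π, ψ.comp S.subtype ≠ d := by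
    by_contra hall
    push_neg at hall
    let ρ : (CExt π →* mult π) → (S →* mult π) := fun ψ => ψ.comp S.subtype
    have hρ : Function.Surjective ρ := hall
    have hgen : Function.Injective
        (fun (ψ : CExt π →* mult π) (q : Q) => ψ (QuotientGroup.mk (FreeGroup.of q))) := by
      intro a b h
      exact QuotientGroup.monoidHom_ext _ (FreeGroup.ext_hom _ _ fun q => congrFun h q)
    haveI : Finite (CExt π →* mult π) := Finite.of_injective _ hgen
    -- `S` is free abelian of rank `|Q|`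
    let T := Additive S
    let fl : T →ₗ[ℤ] (Q →₀ ℤ) := (AddMonoidHom.mk'
      (fun a => Multiplicative.toAdd (cextExp π ((Additive.toMul (a : T) : S) : CExt π)))
      fun a b => by simp [T]).toIntLinearMap
    have hfl : Function.Injective fl := by
      intro a b h
      apply Additive.toMul.injective
      exact Subtype.ext (exp_inj_on hS hinf (Additive.toMul a).2 (Additive.toMul b).2
        (Multiplicative.toAdd.injective h))
    obtain ⟨n, ⟨b⟩⟩ := Submodule.nonempty_basis_of_pid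
      (Finsupp.basisSingleOne : Module.Basis Q ℤ (Q →₀ ℤ)) (LinearMap.range fl)
    let eT := LinearEquiv.ofInjective fl hfl
    have hn : n = Fintype.card Q := by
      have h1 : Module.finrank ℤ (LinearMap.range fl) = n := by
        rw [Module.finrank_eq_card_basis b, Fintype.card_fin]
      have h2 : Module.finrank ℤ (Q →₀ ℤ) = Fintype.card Q :=
        Module.finrank_finsupp_self _
      refine le_antisymm (h1 ▸ h2 ▸ Submodule.finrank_le _) ?_
      have hk : (Nat.card (Abelianization Q) : ℤ) ≠ 0 := Nat.cast_ne_zero.2 Nat.card_pos.ne'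
      have hmem : ∀ x, (Nat.card (Abelianization Q) : ℤ) • x ∈ LinearMap.range fl := by
        intro x
        induction x using Finsupp.induction_linear with
        | zero => simp
        | add a b ha hb => rw [smul_add]; exact add_mem ha hb
        | single i c =>
          obtain ⟨s, hs, he⟩ := exists_exp_pow hπ S hsup hS (QuotientGroup.mk (FreeGroup.of i))
          refine ⟨c • Additive.ofMul ⟨s, hs⟩, ?_⟩
          rw [LinearMap.map_smul]
          show c • Multiplicative.toAdd (cextExp π s) = _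
          rw [he]
          simp [cextExp, expSum, mul_comm]
      have hinj : Function.Injective ((((Nat.card (Abelianization Q) : ℤ) •
          (LinearMap.id : (Q →₀ ℤ) →ₗ[ℤ] Q →₀ ℤ))).codRestrict (LinearMap.range fl) hmem) :=
        fun a b hab => smul_right_injective _ hk (congrArg Subtype.val hab)
      exact h1 ▸ h2 ▸ LinearMap.finrank_le_finrank_of_injective hinj
    let eH : (S →* mult π) ≃ (Fin n → Additive (mult π)) :=
      MonoidHom.toAdditive.trans
        ((addMonoidHomLequivInt ℤ).toEquiv.trans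
          (((eT.trans b.equivFun).arrowCongr (LinearEquiv.refl ℤ _)).toEquiv.trans
            ((Pi.basisFun ℤ (Fin n)).constr ℤ).symm.toEquiv))
    have hcard : Nat.card (CExt π →* mult π) ≤ Nat.card (S →* mult π) := by
      refine (Nat.card_le_card_of_injective _ hgen).trans ?_
      rw [Nat.card_congr eH, Nat.card_fun, Nat.card_fun, Nat.card_fin, hn, Nat.card_eq_fintype_card (α := Q)]
      exact le_of_eq (congrArg (fun x : ℕ => x ^ Fintype.card Q) (Nat.card_congr Additive.ofMul))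
    haveI : Finite (S →* mult π) := Finite.of_surjective ρ hρ
    have hρinj : Function.Injective ρ :=
      ((Nat.bijective_iff_surjective_and_card ρ).2 ⟨hρ, le_antisymm hcard
        (Nat.card_le_card_of_surjective ρ hρ)⟩).1
    obtain ⟨ψ₀, hψ₀⟩ := exists_ne_one_hom (C := Abelianization Q) (M := mult π)
      (by rwa [Nat.card_congr eA.toEquiv])
    apply hψ₀
    have h0 := hρinj (a₁ := ψ₀.comp (Abelianization.of.comp (cextHom π))) (a₂ := 1)
      (MonoidHom.ext fun s => by simp [ρ, MonoidHom.mem_ker.1 (hS s.2)])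
    refine Abelianization.hom_ext _ _ (MonoidHom.ext fun q => ?_)
    obtain ⟨x, rfl⟩ := cextHom_surjective π hπ q
    exact DFunLike.congr_fun h0 x
  -- the two complements
  have hMc : ∀ (x : CExt π) (m : mult π), x * m = m * x :=
    fun x m => mem_center_iff.1 (ker_cextHom_le π m.2.1) x
  let S₂ : Subgroup (CExt π) := (MonoidHom.mk' (fun s : S => (s : CExt π) * d s) fun a b => by
    simp only [map_mul, Subgroup.coe_mul]
    calc (a : CExt π) * b * ((d a : CExt π) * d b) = a * (b * d a) * d b := by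
          simp only [mul_assoc]
      _ = a * ((d a : CExt π) * b) * d b := by rw [hMc (b : CExt π) (d a)]
      _ = (a : CExt π) * d a * (b * d b) := by simp only [mul_assoc]).range
  have hS₂ : S₂ ≤ (cextHom π).ker := by
    rintro _ ⟨s, rfl⟩
    exact mul_mem (hS s.2) (d s).2.1
  have hinf₂ : S₂ ⊓ mult π = ⊥ := by
    rw [eq_bot_iff]
    rintro _ ⟨⟨s, rfl⟩, hm⟩
    have hsM : (s : CExt π) ∈ mult π := by
      simpa using mul_mem (show (s : CExt π) * d s ∈ mult π from hm) (inv_mem (d s).2)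
    have hs1 : s = 1 := by
      have : (s : CExt π) ∈ S ⊓ mult π := ⟨s.2, hsM⟩
      rw [hinf, mem_bot] at this
      exact Subtype.ext this
    simp [hs1]
  have hsup₂ : (cextHom π).ker ≤ S₂ ⊔ mult π := by
    intro x hx
    obtain ⟨s, hs, m, hm, rfl⟩ := Subgroup.mem_sup_of_normal_left.1 (hsup hx)
    rw [show s * m = (s * d ⟨s, hs⟩) * ((d ⟨s, hs⟩ : CExt π)⁻¹ * m) by group]
    exact mul_mem_sup ⟨⟨s, hs⟩, rfl⟩ (mul_mem (inv_mem (d _).2) hm)
  haveI := normal_of_le_ker S₂ hS₂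
  obtain ⟨σ₁, hσ₁, hst₁, hfin₁, ⟨k₁⟩⟩ := cover_of_complement S hπ hS hinf hsup
  obtain ⟨σ₂, hσ₂, hst₂, hfin₂, ⟨k₂⟩⟩ := cover_of_complement S₂ hπ hS₂ hinf₂ hsup₂
  refine ⟨_, _, inferInstance, hfin₁, inferInstance, hfin₂, σ₁, σ₂, hst₁, hst₂,
    ⟨k₁.symm.trans eA⟩, ⟨k₂.symm.trans eA⟩, ?_⟩
  rintro ⟨e, he⟩
  -- recover an extension of `d`
  let q₁ := QuotientGroup.mk' S
  let q₂ := QuotientGroup.mk' S₂
  have hσe : ∀ x, σ₂ (e (q₁ x)) = cextHom π x := fun x => by
    rw [← hσ₁]; exact DFunLike.congr_fun he (q₁ x)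
  have hmem : ∀ x, (q₂ x)⁻¹ * e (q₁ x) ∈ σ₂.ker := fun x => by
    rw [MonoidHom.mem_ker, map_mul, map_inv, hσe]
    exact inv_mul_eq_one.2 (DFunLike.congr_fun hσ₂ x)
  haveI : IsMulCommutative σ₂.ker :=
    ⟨⟨fun a b => Subtype.ext (mem_center_iff.1 (hst₂.2.1 b.2) (a : CExt π ⧸ S₂))⟩⟩
  let δ : CExt π →* σ₂.ker := MonoidHom.mk' (fun x => ⟨_, hmem x⟩) fun a b => by
    apply Subtype.ext
    simp only [Subgroup.coe_mul, map_mul, mul_inv_rev]
    have h := mem_center_iff.1 (hst₂.2.1 (hmem a)) (q₂ b)⁻¹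
    calc (q₂ b)⁻¹ * (q₂ a)⁻¹ * (e (q₁ a) * e (q₁ b))
        = ((q₂ b)⁻¹ * ((q₂ a)⁻¹ * e (q₁ a))) * e (q₁ b) := by group
      _ = (((q₂ a)⁻¹ * e (q₁ a)) * (q₂ b)⁻¹) * e (q₁ b) := by rw [h]
      _ = (q₂ a)⁻¹ * e (q₁ a) * ((q₂ b)⁻¹ * e (q₁ b)) := by group
  let f₂ : mult π →* σ₂.ker := (q₂.comp (mult π).subtype).codRestrict σ₂.ker fun m => by
    rw [MonoidHom.mem_ker, MonoidHom.comp_apply, ← MonoidHom.comp_apply σ₂, hσ₂]
    exact m.2.1
  have hf₂inj : Function.Injective f₂ := (injective_iff_map_eq_one f₂).2 fun m hm => by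
    have : (m : CExt π) ∈ S₂ ⊓ mult π :=
      ⟨(QuotientGroup.eq_one_iff _).1 (congrArg Subtype.val hm), m.2⟩
    rw [hinf₂, mem_bot] at this
    exact Subtype.ext this
  haveI : Finite σ₂.ker := Finite.of_equiv _ k₂.toEquiv
  have hf₂ : Function.Bijective f₂ := (Nat.bijective_iff_injective_and_card f₂).2
    ⟨hf₂inj, Nat.card_congr k₂.toEquiv⟩
  let ef := MulEquiv.ofBijective f₂ hf₂
  refine hd (ef.symm.toMonoidHom.comp δ) (MonoidHom.ext fun s => ?_)
  show ef.symm (δ s) = d s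
  rw [MulEquiv.symm_apply_eq]
  apply Subtype.ext
  show (q₂ s)⁻¹ * e (q₁ s) = q₂ (d s : CExt π)
  rw [show q₁ (s : CExt π) = 1 from (QuotientGroup.eq_one_iff _).2 s.2, map_one, mul_one,
    inv_eq_iff_mul_eq_one, ← map_mul]
  exact (QuotientGroup.eq_one_iff _).2 ⟨s, rfl⟩

end Covers

end Cfsg.Agent.H74.Schur
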