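import Cfsg.Agent.H74.SchurTransfer
import Cfsg.Agent.H74.CocExt
import Mathlib

/-!
The Schur multiplier of a direct product.
-/

namespace Cfsg.Agent.H74.Schur

open Subgroup
open scoped IsMulCommutative TensorProduct commutatorElement

universe u v w

/-- `Q₁ᵃᵇ ⊗ Q₂ᵃᵇ`, written multiplicatively. -/
abbrev TensAb (Q₁ : Type u) (Q₂ : Type v) [Group Q₁] [Group Q₂] : Type (max u v) :=
  Multiplicative (TensorProduct ℤ (Additive (Abelianization Q₁)) (Additive (Abelianization Q₂)))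

/-- In a central extension the kernel part of the derived group is an image of the multiplier. -/
theorem exists_hom_range_eq {R : Type u} [Group R] [Finite R] {A : Type w} [CommGroup A]
    (hA : Cfsg.HasSchurMultiplier R A) {D : Type*} [Group D] (τ : D →* R)
    (hs : Function.Surjective τ) (hc : τ.ker ≤ center D) :
    ∃ f : A →* D, f.range = τ.ker ⊓ commutator D := by
  let π := FreeGroup.lift (id : R → R)
  have hπ : Function.Surjective π := freeGroup_lift_id_surjective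
  obtain ⟨φ, hφ⟩ := exists_lift (π := π) τ hs hc
  obtain ⟨e⟩ := mulEquiv_mult π hπ hA
  refine ⟨(φ.comp (mult π).subtype).comp e.symm.toMonoidHom, le_antisymm ?_ ?_⟩
  · rintro _ ⟨a, rfl⟩
    refine mem_inf.2 ⟨?_, map_commutator_le φ ⟨_, (e.symm a).2.2, rfl⟩⟩
    show τ (φ (e.symm a : CExt π)) = 1
    rw [← MonoidHom.comp_apply, hφ]
    exact (e.symm a).2.1
  · rintro x ⟨hx1, hx2⟩
    obtain ⟨y, hy, rfl⟩ := commutator_le_map_cext hπ hc hφ hx2
    have hyk : y ∈ (cextHom π).ker := by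
      rw [MonoidHom.mem_ker, ← hφ]; exact hx1
    exact ⟨e ⟨y, mem_inf.2 ⟨hyk, hy⟩⟩, by simp⟩

theorem addMonoidHom_to_tensor {M N P : Type*} [AddCommGroup M] [AddCommGroup N] [AddCommGroup P]
    (f : M →+ N →+ P) : ∃ g : M ⊗[ℤ] N →ₗ[ℤ] P, ∀ m n, g (m ⊗ₜ n) = f m n := by
  let L : M →+ (N →ₗ[ℤ] P) := AddMonoidHom.mk' (fun m => (f m).toIntLinearMap) fun a b => by
    ext n; simp
  exact ⟨TensorProduct.lift L.toIntLinearMap, fun m n => rfl⟩

/-- A tensor product of finite abelian groups is finite. -/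
theorem finite_tensor (M N : Type*) [AddCommGroup M] [AddCommGroup N] [Finite M] [Finite N] :
    Finite (M ⊗[ℤ] N) := by
  classical
  letI := Fintype.ofFinite M
  letI := Fintype.ofFinite N
  have hgen : AddSubgroup.closure (Set.range fun x : M × N => x.1 ⊗ₜ[ℤ] x.2) = ⊤ := by
    rw [eq_top_iff]
    intro t _
    induction t using TensorProduct.induction_on with
    | zero => exact zero_mem _
    | add a b ha hb => exact add_mem (ha (AddSubgroup.mem_top _)) (hb (AddSubgroup.mem_top _))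
    | tmul a b => exact AddSubgroup.subset_closure ⟨(a, b), rfl⟩
  haveI : AddGroup.FG (M ⊗[ℤ] N) := AddGroup.fg_iff.2 ⟨_, hgen, Set.finite_range _⟩
  refine AddCommGroup.finite_of_fg_isAddTorsion _ fun x => ?_
  rw [isOfFinAddOrder_iff_nsmul_eq_zero]
  refine ⟨Nat.card M, Nat.card_pos, ?_⟩
  induction x using TensorProduct.induction_on with
  | zero => simp
  | add a b ha hb => rw [nsmul_add, ha, hb, add_zero]
  | tmul a b => rw [TensorProduct.smul_tmul', card_nsmul_eq_zero', TensorProduct.zero_tmul]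

theorem mkAb_surjective {G : Type*} [Group G] :
    Function.Surjective (Abelianization.of : G →* Abelianization G) :=
  QuotientGroup.mk'_surjective _

section Lower

variable {Q₁ : Type u} {Q₂ : Type v} [Group Q₁] [Group Q₂] {Γ₁ : Type u} {Γ₂ : Type v}
  [Group Γ₁] [Group Γ₂] (σ₁ : Γ₁ →* Q₁) (σ₂ : Γ₂ →* Q₂)

/-- The pairing `(x, y) ↦ x̄₁ ⊗ ȳ₂` on `Γ₁ × Γ₂`. -/
def prodPair : Γ₁ × Γ₂ →* Γ₁ × Γ₂ →* TensAb Q₁ Q₂ :=
  MonoidHom.mk' (fun x => MonoidHom.mk'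
    (fun y => Multiplicative.ofAdd
      (Additive.ofMul (Abelianization.of (σ₁ x.1)) ⊗ₜ[ℤ] Additive.ofMul (Abelianization.of (σ₂ y.2))))
    fun y y' => by simp [TensorProduct.tmul_add])
    fun x x' => by ext y <;> simp [TensorProduct.add_tmul]

theorem prodPair_apply (x y : Γ₁ × Γ₂) : prodPair σ₁ σ₂ x y = Multiplicative.ofAdd
    (Additive.ofMul (Abelianization.of (σ₁ x.1)) ⊗ₜ[ℤ] Additive.ofMul (Abelianization.of (σ₂ y.2))) :=
  rfl

theorem exists_product_cover [Finite Q₁] [Finite Q₂] [Finite Γ₁] [Finite Γ₂]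
    (h₁ : Cfsg.IsStemExtension σ₁) (h₂ : Cfsg.IsStemExtension σ₂) :
    ∃ (Δ : Type (max u v)) (_ : Group Δ) (_ : Finite Δ) (τ : Δ →* Q₁ × Q₂),
      Cfsg.IsStemExtension τ ∧
        Nonempty (τ.ker ≃* σ₁.ker × σ₂.ker × TensAb Q₁ Q₂) := by
  let c := Coc.ofBil (prodPair σ₁ σ₂)
  let τ : c.Ext →* Q₁ × Q₂ := (σ₁.prodMap σ₂).comp c.proj
  have hcf : ∀ x y, c.f x y = prodPair σ₁ σ₂ x y := fun _ _ => rfl
  have hz1 : ∀ z : Γ₁ × Γ₂, σ₁ z.1 = 1 → ∀ y, c.f z y = 1 := fun z hz y => by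
    rw [hcf, prodPair_apply, hz, map_one]; simp
  have hz2 : ∀ z : Γ₁ × Γ₂, σ₂ z.2 = 1 → ∀ y, c.f y z = 1 := fun z hz y => by
    rw [hcf, prodPair_apply, hz, map_one]; simp
  haveI : Module.Finite ℤ (Additive (Abelianization Q₁)) := Module.Finite.of_finite
  haveI : Module.Finite ℤ (Additive (Abelianization Q₂)) := Module.Finite.of_finite
  haveI : Finite (TensorProduct ℤ (Additive (Abelianization Q₁)) (Additive (Abelianization Q₂))) :=
    finite_tensor _ _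
  haveI : Finite c.Ext := c.finite_ext
  have hker : ∀ p : c.Ext, τ p = 1 ↔ σ₁ p.base.1 = 1 ∧ σ₂ p.base.2 = 1 := fun p => Prod.ext_iff
  -- the tensor part lies in the derived group
  have hinc : ∀ t : TensAb Q₁ Q₂, c.inc t ∈ commutator c.Ext := by
    suffices h : ∀ t : TensorProduct ℤ (Additive (Abelianization Q₁)) (Additive (Abelianization Q₂)),
        c.inc (Multiplicative.ofAdd t) ∈ commutator c.Ext from fun t => h (Multiplicative.toAdd t)
    intro t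
    induction t using TensorProduct.induction_on with
    | zero => rw [ofAdd_zero, map_one]; exact one_mem _
    | add a b ha hb => rw [ofAdd_add, map_mul]; exact mul_mem ha hb
    | tmul a b =>
      obtain ⟨q₁, hq₁⟩ := mkAb_surjective (Additive.toMul a)
      obtain ⟨q₂, hq₂⟩ := mkAb_surjective (Additive.toMul b)
      obtain ⟨g, rfl⟩ := h₁.1 q₁
      obtain ⟨h, rfl⟩ := h₂.1 q₂
      have h0 := c.inc_mem_commutator ((g, 1) : Γ₁ × Γ₂) (1, h) (by simp)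
      have e1 : c.f ((g, 1) : Γ₁ × Γ₂) (1, h) = Multiplicative.ofAdd (a ⊗ₜ[ℤ] b) := by
        rw [hcf, prodPair_apply]
        rw [show Abelianization.of (σ₁ g) = Additive.toMul a from hq₁,
          show Abelianization.of (σ₂ h) = Additive.toMul b from hq₂]
        rfl
      rwa [e1, hz1 (1, h) (map_one σ₁), div_one] at h0
  refine ⟨c.Ext, inferInstance, inferInstance, τ, ⟨?_, ?_, ?_⟩, ⟨?_⟩⟩
  · exact (Prod.map_surjective.2 ⟨h₁.1, h₂.1⟩).comp c.proj_surjective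
  · intro p hp
    obtain ⟨hp1, hp2⟩ := (hker p).1 hp
    rw [mem_center_iff]
    intro q
    refine Coc.Ext.ext ?_ (Prod.ext ?_ ?_)
    · rw [Coc.mul_cen, Coc.mul_cen, hz1 p.base hp1, hz2 p.base hp2, mul_comm q.cen]
    · exact mem_center_iff.1 (h₁.2.1 hp1) q.base.1
    · exact mem_center_iff.1 (h₂.2.1 hp2) q.base.2
  · intro p hp
    obtain ⟨hp1, hp2⟩ := (hker p).1 hp
    have hb : p.base ∈ commutator (Γ₁ × Γ₂) := by
      have : p.base = MonoidHom.inl Γ₁ Γ₂ p.base.1 * MonoidHom.inr Γ₁ Γ₂ p.base.2 :=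
        Prod.ext (by simp) (by simp)
      rw [this]
      exact mul_mem (map_commutator_le _ ⟨_, h₁.2.2 hp1, rfl⟩)
        (map_commutator_le _ ⟨_, h₂.2.2 hp2, rfl⟩)
    rw [← map_commutator_of_surjective c.proj c.proj_surjective] at hb
    obtain ⟨q, hq, hqp⟩ := hb
    have hd : q⁻¹ * p ∈ c.inc.range := by
      rw [← c.mem_ker_iff, MonoidHom.mem_ker, map_mul, map_inv, hqp]
      exact inv_mul_cancel p.base
    obtain ⟨t, ht⟩ := hd
    rw [← mul_inv_cancel_left q p, ← ht]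
    exact mul_mem hq (hinc t)
  · exact
    { toFun := fun p => (⟨(p : c.Ext).base.1, ((hker p).1 p.2).1⟩,
        ⟨(p : c.Ext).base.2, ((hker p).1 p.2).2⟩, (p : c.Ext).cen)
      invFun := fun x => ⟨⟨x.2.2, ((x.1 : Γ₁), (x.2.1 : Γ₂))⟩, (hker _).2 ⟨x.1.2, x.2.1.2⟩⟩
      left_inv := fun p => rfl
      right_inv := fun x => rfl
      map_mul' := fun p q => Prod.ext (Subtype.ext rfl) (Prod.ext (Subtype.ext rfl)
        (show (p : c.Ext).cen * (q : c.Ext).cen * c.f _ _ = (p : c.Ext).cen * (q : c.Ext).cen by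
          rw [hz1 (p : c.Ext).base ((hker p).1 p.2).1, mul_one])) }

end Lower

section Upper

variable {Q₁ : Type u} {Q₂ : Type v} [Group Q₁] [Group Q₂]

theorem exists_product_surjection [Finite Q₁] [Finite Q₂] {A : Type w} {B : Type w} [CommGroup A]
    [CommGroup B] (hA : Cfsg.HasSchurMultiplier Q₁ A) (hB : Cfsg.HasSchurMultiplier Q₂ B)
    {Δ : Type*} [Group Δ] (σ : Δ →* Q₁ × Q₂) (hσ : Cfsg.IsStemExtension σ) :
    ∃ f : A × B × TensAb Q₁ Q₂ →* σ.ker, Function.Surjective f := by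
  classical
  haveI : IsMulCommutative σ.ker :=
    ⟨⟨fun p q => Subtype.ext (mem_center_iff.1 (hσ.2.1 q.2) (p : Δ))⟩⟩
  let p₁ : Δ →* Q₁ := (MonoidHom.fst Q₁ Q₂).comp σ
  let p₂ : Δ →* Q₂ := (MonoidHom.snd Q₁ Q₂).comp σ
  set D₁ : Subgroup Δ := p₂.ker with hD₁
  set D₂ : Subgroup Δ := p₁.ker with hD₂
  let τ₁ : D₁ →* Q₁ := p₁.comp D₁.subtype
  let τ₂ : D₂ →* Q₂ := p₂.comp D₂.subtype
  have hs₁ : Function.Surjective τ₁ := fun q => by
    obtain ⟨x, hx⟩ := hσ.1 (q, 1)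
    exact ⟨⟨x, show (σ x).2 = 1 by rw [hx]⟩, show (σ x).1 = q by rw [hx]⟩
  have hs₂ : Function.Surjective τ₂ := fun q => by
    obtain ⟨x, hx⟩ := hσ.1 (1, q)
    exact ⟨⟨x, show (σ x).1 = 1 by rw [hx]⟩, show (σ x).2 = q by rw [hx]⟩
  have hk₁ : ∀ x : D₁, x ∈ τ₁.ker ↔ (x : Δ) ∈ σ.ker := fun x =>
    ⟨fun h => Prod.ext h x.2, fun h => congrArg Prod.fst h⟩
  have hk₂ : ∀ x : D₂, x ∈ τ₂.ker ↔ (x : Δ) ∈ σ.ker := fun x =>
    ⟨fun h => Prod.ext x.2 h, fun h => congrArg Prod.snd h⟩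
  have hc₁ : τ₁.ker ≤ center D₁ := fun x hx => mem_center_iff.2 fun y =>
    Subtype.ext (mem_center_iff.1 (hσ.2.1 ((hk₁ x).1 hx)) y)
  have hc₂ : τ₂.ker ≤ center D₂ := fun x hx => mem_center_iff.2 fun y =>
    Subtype.ext (mem_center_iff.1 (hσ.2.1 ((hk₂ x).1 hx)) y)
  obtain ⟨fA, hfA⟩ := exists_hom_range_eq hA τ₁ hs₁ hc₁
  obtain ⟨fB, hfB⟩ := exists_hom_range_eq hB τ₂ hs₂ hc₂
  have hmem : ∀ (x : D₁) (y : D₂), (x : Δ) * y * (x : Δ)⁻¹ * (y : Δ)⁻¹ ∈ σ.ker := fun x y => by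
    refine Prod.ext ?_ ?_
    · simp [show (σ (y : Δ)).1 = 1 from y.2]
    · simp [show (σ (x : Δ)).2 = 1 from x.2]
  let γ₀ : D₁ → D₂ → σ.ker := fun x y => ⟨_, hmem x y⟩
  have hcz : ∀ (k : σ.ker) (t : Δ), t * k = k * t := fun k t => mem_center_iff.1 (hσ.2.1 k.2) t
  have hγl : ∀ x x' y, γ₀ (x * x') y = γ₀ x y * γ₀ x' y := fun x x' y => by
    apply Subtype.ext
    show (x : Δ) * x' * y * ((x : Δ) * x')⁻¹ * (y : Δ)⁻¹ = (γ₀ x y : Δ) * γ₀ x' y
    calc (x : Δ) * x' * y * ((x : Δ) * x')⁻¹ * (y : Δ)⁻¹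
        = (x : Δ) * (γ₀ x' y : Δ) * y * (x : Δ)⁻¹ * (y : Δ)⁻¹ := by simp [γ₀, mul_assoc]
      _ = (γ₀ x' y : Δ) * (γ₀ x y : Δ) := by rw [hcz (γ₀ x' y) (x : Δ)]; simp [γ₀, mul_assoc]
      _ = _ := hcz (γ₀ x y) _
  have hγr : ∀ x y y', γ₀ x (y * y') = γ₀ x y * γ₀ x y' := fun x y y' => by
    apply Subtype.ext
    show (x : Δ) * ((y : Δ) * y') * (x : Δ)⁻¹ * ((y : Δ) * y')⁻¹ = (γ₀ x y : Δ) * γ₀ x y'
    calc (x : Δ) * ((y : Δ) * y') * (x : Δ)⁻¹ * ((y : Δ) * y')⁻¹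
        = (γ₀ x y : Δ) * ((y : Δ) * (γ₀ x y' : Δ) * (y : Δ)⁻¹) := by simp [γ₀, mul_assoc]
      _ = _ := by rw [hcz (γ₀ x y') (y : Δ), mul_inv_cancel_right]
  let γ₁ : D₁ →* (D₂ →* σ.ker) := MonoidHom.mk'
    (fun x => MonoidHom.mk' (γ₀ x) (hγr x)) fun x x' => MonoidHom.ext fun y => hγl x x' y
  let ε₁ : D₁ →* Abelianization Q₁ := Abelianization.of.comp τ₁
  let ε₂ : D₂ →* Abelianization Q₂ := Abelianization.of.comp τ₂
  have hε₁ : Function.Surjective ε₁ := mkAb_surjective.comp hs₁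
  have hε₂ : Function.Surjective ε₂ := mkAb_surjective.comp hs₂
  have hker₂ : ∀ x, ε₂.ker ≤ (γ₁ x).ker := fun x y hy => by
    have : τ₂ y ∈ commutator Q₂ := by rw [← Abelianization.ker_of]; exact hy
    rw [← map_commutator_of_surjective τ₂ hs₂] at this
    obtain ⟨d, hd, hdy⟩ := this
    have hz : d⁻¹ * y ∈ τ₂.ker := by rw [MonoidHom.mem_ker, map_mul, map_inv, hdy, inv_mul_cancel]
    rw [← mul_inv_cancel_left d y]
    refine mul_mem (Abelianization.commutator_subset_ker (γ₁ x) hd) (Subtype.ext ?_)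
    show (x : Δ) * ((d⁻¹ * y : D₂) : Δ) * (x : Δ)⁻¹ * ((d⁻¹ * y : D₂) : Δ)⁻¹ = 1
    rw [mem_center_iff.1 (hσ.2.1 ((hk₂ _).1 hz)) (x : Δ)]
    group
  let γ₂ : D₁ →* (Abelianization Q₂ →* σ.ker) := MonoidHom.mk'
    (fun x => ε₂.liftOfSurjective hε₂ ⟨γ₁ x, hker₂ x⟩) fun x x' => by
      refine (MonoidHom.cancel_right hε₂).1 (MonoidHom.ext fun y => ?_)
      simp only [MonoidHom.comp_apply, MonoidHom.mul_apply]
      simp [MonoidHom.liftOfSurjective, MonoidHom.liftOfRightInverse_comp_apply]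
  have hγ₂ : ∀ x y, γ₂ x (ε₂ y) = γ₀ x y := fun x y =>
    MonoidHom.liftOfRightInverse_comp_apply ε₂ _ _ ⟨γ₁ x, hker₂ x⟩ y
  have hker₁ : ε₁.ker ≤ γ₂.ker := fun x hx => by
    have : τ₁ x ∈ commutator Q₁ := by rw [← Abelianization.ker_of]; exact hx
    rw [← map_commutator_of_surjective τ₁ hs₁] at this
    obtain ⟨d, hd, hdy⟩ := this
    have hz : d⁻¹ * x ∈ τ₁.ker := by rw [MonoidHom.mem_ker, map_mul, map_inv, hdy, inv_mul_cancel]
    rw [← mul_inv_cancel_left d x]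
    refine mul_mem (Abelianization.commutator_subset_ker γ₂ hd) ?_
    refine (MonoidHom.cancel_right hε₂).1 (MonoidHom.ext fun y => ?_)
    refine (hγ₂ _ _).trans (Subtype.ext ?_)
    show ((d⁻¹ * x : D₁) : Δ) * y * ((d⁻¹ * x : D₁) : Δ)⁻¹ * (y : Δ)⁻¹ = 1
    rw [← mem_center_iff.1 (hσ.2.1 ((hk₁ _).1 hz)) (y : Δ)]
    group
  let γ := ε₁.liftOfSurjective hε₁ ⟨γ₂, hker₁⟩
  have hγ : ∀ x y, γ (ε₁ x) (ε₂ y) = γ₀ x y := fun x y => by
    rw [show γ (ε₁ x) = γ₂ x from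
      MonoidHom.liftOfRightInverse_comp_apply ε₁ _ _ ⟨γ₂, hker₁⟩ x]
    exact hγ₂ x y
  obtain ⟨g, hg⟩ := addMonoidHom_to_tensor (M := Additive (Abelianization Q₁))
    (N := Additive (Abelianization Q₂)) (P := Additive σ.ker)
    (AddMonoidHom.mk' (fun a => MonoidHom.toAdditive (γ (Additive.toMul a))) fun a b => by
      ext c; simp)
  let gT : TensAb Q₁ Q₂ →* σ.ker :=
    { toFun := fun t => Additive.toMul (g (Multiplicative.toAdd t))
      map_one' := by simp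
      map_mul' := fun s t => by simp }
  have hgT : ∀ x y, ∃ t, gT t = γ₀ x y := fun x y =>
    ⟨Multiplicative.ofAdd (Additive.ofMul (ε₁ x) ⊗ₜ[ℤ] Additive.ofMul (ε₂ y)), by
      show Additive.toMul (g _) = _
      rw [toAdd_ofAdd, hg]
      exact hγ x y⟩
  let fA' : A →* σ.ker := (D₁.subtype.comp fA).codRestrict _ fun a =>
    (hk₁ _).1 (mem_inf.1 (hfA.le ⟨a, rfl⟩)).1
  let fB' : B →* σ.ker := (D₂.subtype.comp fB).codRestrict _ fun a =>
    (hk₂ _).1 (mem_inf.1 (hfB.le ⟨a, rfl⟩)).1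
  refine ⟨fA'.coprod (fB'.coprod gT), fun z => ?_⟩
  let W : Subgroup Δ := ((commutator D₁).map D₁.subtype ⊔ (commutator D₂).map D₂.subtype) ⊔
    gT.range.map σ.ker.subtype
  have hdec : ∀ x : Δ, ∃ (a : D₁) (b : D₂), x = a * b := fun x => by
    obtain ⟨a, ha⟩ := hs₁ (σ x).1
    refine ⟨a, ⟨(a : Δ)⁻¹ * x, ?_⟩, (mul_inv_cancel_left _ _).symm⟩
    show (σ ((a : Δ)⁻¹ * x)).1 = 1
    rw [map_mul, map_inv, Prod.fst_mul, Prod.fst_inv, ← ha]
    exact inv_mul_cancel _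
  have hW : commutator Δ ≤ W := by
    rw [_root_.commutator_def, Subgroup.commutator_le]
    intro x _ y _
    obtain ⟨a, b, rfl⟩ := hdec x
    obtain ⟨a', b', rfl⟩ := hdec y
    have hba : ∀ (s : D₁) (t : D₂), (t : Δ) * s = (s : Δ) * t * ((γ₀ s t)⁻¹ : σ.ker) := fun s t => by
      rw [hcz ((γ₀ s t)⁻¹) ((s : Δ) * t)]
      simp [γ₀, mul_assoc]
    have hcomm : (⁅b, b'⁆ : D₂) ∈ commutator D₂ :=
      Subgroup.commutator_mem_commutator (mem_top _) (mem_top _)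
    have hfix : ∀ s : D₁, (s : Δ) * (⁅b, b'⁆ : D₂) = (⁅b, b'⁆ : D₂) * s := fun s => by
      have h := congrArg Subtype.val (show γ₁ s ⁅b, b'⁆ = 1 from
        Abelianization.commutator_subset_ker (γ₁ s) hcomm)
      exact commutatorElement_eq_one_iff_mul_comm.1 h
    have key : ⁅(a : Δ) * b, (a' : Δ) * b'⁆ = ((⁅a, a'⁆ : D₁) : Δ) * (⁅b, b'⁆ : D₂) *
        (((γ₀ a' b)⁻¹ * γ₀ a b' : σ.ker) : Δ) := by
      set k₁ : σ.ker := (γ₀ a' b)⁻¹
      set k₂ : σ.ker := (γ₀ a b')⁻¹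
      have e1 : (a : Δ) * b * (a' * b') = (a : Δ) * a' * ((b : Δ) * b') * k₁ :=
        calc (a : Δ) * b * (a' * b') = (a : Δ) * ((b : Δ) * a') * b' := by group
          _ = (a : Δ) * ((a' : Δ) * b * k₁) * b' := by rw [hba]
          _ = (a : Δ) * a' * b * ((k₁ : Δ) * b') := by group
          _ = (a : Δ) * a' * ((b : Δ) * b') * k₁ := by rw [← hcz k₁]; group
      have e2 : (a' : Δ) * b' * (a * b) = (a' : Δ) * a * ((b' : Δ) * b) * k₂ :=
        calc (a' : Δ) * b' * (a * b) = (a' : Δ) * ((b' : Δ) * a) * b := by group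
          _ = (a' : Δ) * ((a : Δ) * b' * k₂) * b := by rw [hba]
          _ = (a' : Δ) * a * b' * ((k₂ : Δ) * b) := by group
          _ = (a' : Δ) * a * ((b' : Δ) * b) * k₂ := by rw [← hcz k₂]; group
      have hγ' : (((γ₀ a' b)⁻¹ * γ₀ a b' : σ.ker) : Δ) = (k₁ : Δ) * (k₂ : Δ)⁻¹ := by
        simp [k₁, k₂]
      have hw : ∀ s : D₁, (s : Δ)⁻¹ * (⁅b, b'⁆ : D₂) = (⁅b, b'⁆ : D₂) * (s : Δ)⁻¹ := fun s => by
        simpa using hfix s⁻¹
      rw [hγ', show ⁅(a : Δ) * b, (a' : Δ) * b'⁆ =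
        ((a : Δ) * b * (a' * b')) * ((a' : Δ) * b' * (a * b))⁻¹ by rw [commutatorElement_def]; group,
        e1, e2]
      have hk : ∀ t : Δ, t * ((k₁ : Δ) * (k₂ : Δ)⁻¹) = (k₁ : Δ) * (k₂ : Δ)⁻¹ * t :=
        fun t => hcz (k₁ * k₂⁻¹) t
      calc (a : Δ) * a' * ((b : Δ) * b') * k₁ * ((a' : Δ) * a * ((b' : Δ) * b) * k₂)⁻¹
          = (a : Δ) * a' * (((b : Δ) * b') * ((k₁ : Δ) * (k₂ : Δ)⁻¹)) * ((b' : Δ) * b)⁻¹ *
              ((a' : Δ) * a)⁻¹ := by group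
        _ = ((k₁ : Δ) * (k₂ : Δ)⁻¹) * ((a : Δ) * a' * ((⁅b, b'⁆ : D₂) : Δ) * ((a' : Δ) * a)⁻¹) := by
            rw [hk ((b : Δ) * b'), ← mul_assoc ((a : Δ) * a'), hk ((a : Δ) * a')]
            simp [commutatorElement_def, mul_assoc]
        _ = ((k₁ : Δ) * (k₂ : Δ)⁻¹) *
              (((⁅a, a'⁆ : D₁) : Δ) * (⁅b, b'⁆ : D₂)) := by
            congr 1
            rw [mul_inv_rev, ← mul_assoc, mul_assoc ((a : Δ) * a'),
              ← hw a, ← mul_assoc, mul_assoc ((a : Δ) * a' * (a : Δ)⁻¹), ← hw a', ← mul_assoc]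
            simp [commutatorElement_def, mul_assoc]
        _ = _ := (hk _).symm
    rw [key]
    refine mul_mem_sup (mul_mem_sup ⟨_, Subgroup.commutator_mem_commutator (mem_top a) (mem_top a'), rfl⟩
      ⟨_, hcomm, rfl⟩) ⟨((γ₀ a' b)⁻¹ * γ₀ a b' : σ.ker), ?_, rfl⟩
    obtain ⟨t, ht⟩ := hgT a' b
    obtain ⟨t', ht'⟩ := hgT a b'
    exact ⟨t⁻¹ * t', by rw [map_mul, map_inv, ht, ht']⟩
  have hn : (gT.range.map σ.ker.subtype).Normal := ⟨fun n hn t => by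
    obtain ⟨k, -, rfl⟩ := id hn
    rwa [show t * σ.ker.subtype k * t⁻¹ = σ.ker.subtype k by
      show t * (k : Δ) * t⁻¹ = k
      rw [hcz, mul_inv_cancel_right]]⟩
  obtain ⟨w, hw, _, ⟨k, ⟨t, rfl⟩, rfl⟩, hwz⟩ := Subgroup.mem_sup_of_normal_right.1 (hW (hσ.2.2 z.2))
  -- split `w` into its two components
  have hcom12 : ∀ s ∈ (commutator D₁).map D₁.subtype, ∀ t ∈ (commutator D₂).map D₂.subtype,
      s * t = t * s := by
    rintro _ ⟨s, hs, rfl⟩ _ ⟨t, ht, rfl⟩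
    have h := congrArg Subtype.val (show γ₁ s t = 1 from
      Abelianization.commutator_subset_ker (γ₁ s) ht)
    exact commutatorElement_eq_one_iff_mul_comm.1 h
  have hle : (commutator D₂).map D₂.subtype ≤ centralizer ((commutator D₁).map D₁.subtype : Set Δ) :=
    fun t ht => mem_centralizer_iff.2 fun s hs => hcom12 s hs t ht
  rw [← SetLike.mem_coe, Subgroup.coe_mul_of_right_le_normalizer_left _ _
    (hle.trans (centralizer_le_normalizer _))] at hw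
  obtain ⟨_, ⟨x, hx, rfl⟩, _, ⟨y, hy, rfl⟩, rfl⟩ := hw
  have hxy : σ ((x : Δ) * y) = 1 := by
    have h := congrArg σ hwz
    rw [map_mul, show σ (σ.ker.subtype (gT t)) = 1 from (gT t).2, mul_one] at h
    exact h.trans z.2
  rw [map_mul] at hxy
  have hx1 : τ₁ x = 1 := by
    have h := congrArg Prod.fst hxy
    rw [Prod.fst_mul, show (σ (y : Δ)).1 = 1 from y.2, mul_one] at h
    exact h
  have hy1 : τ₂ y = 1 := by
    have h := congrArg Prod.snd hxy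
    rw [Prod.snd_mul, show (σ (x : Δ)).2 = 1 from x.2, one_mul] at h
    exact h
  obtain ⟨a, ha⟩ := hfA.ge (mem_inf.2 ⟨hx1, hx⟩)
  obtain ⟨b, hb⟩ := hfB.ge (mem_inf.2 ⟨hy1, hy⟩)
  refine ⟨(a, b, t), Subtype.ext ?_⟩
  show (fA a : Δ) * ((fB b : Δ) * (gT t : Δ)) = z
  rw [ha, hb, ← mul_assoc]
  exact hwz

end Upper

end Cfsg.Agent.H74.Schur
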