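import Cfsg.Agent.H74.SchurApps
import Mathlib

/-!
Restriction and corestriction for the Schur multiplier through free presentations: the norm map
`R/[R,F] → R/[R,H]` over the cosets of `H`.
-/

namespace Cfsg.Agent.H74.Schur

open Subgroup
open scoped IsMulCommutative

universe u v w

/-- Two maps into a central extension over the same quotient agree on commutators. -/
theorem eq_on_commutator {E Γ Q : Type*} [Group E] [Group Γ] [Group Q] {σ : Γ →* Q}
    (hc : σ.ker ≤ center Γ) (a b : E →* Γ) (h : σ.comp a = σ.comp b) {x : E}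
    (hx : x ∈ commutator E) : a x = b x := by
  haveI : IsMulCommutative σ.ker :=
    ⟨⟨fun p q => Subtype.ext (mem_center_iff.1 (hc q.2) (p : Γ))⟩⟩
  have hmem : ∀ y, (a y)⁻¹ * b y ∈ σ.ker := fun y => by
    rw [MonoidHom.mem_ker, map_mul, map_inv, ← MonoidHom.comp_apply, h, ← MonoidHom.comp_apply,
      inv_mul_cancel]
  let d : E →* σ.ker := MonoidHom.mk' (fun y => ⟨_, hmem y⟩) fun y z => by
    apply Subtype.ext
    simp only [Subgroup.coe_mul, map_mul, mul_inv_rev]
    have h1 := mem_center_iff.1 (hc (hmem y)) (a z)⁻¹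
    calc (a z)⁻¹ * (a y)⁻¹ * (b y * b z) = ((a z)⁻¹ * ((a y)⁻¹ * b y)) * b z := by group
      _ = (((a y)⁻¹ * b y) * (a z)⁻¹) * b z := by rw [h1]
      _ = (a y)⁻¹ * b y * ((a z)⁻¹ * b z) := by group
  have h2 : d x = 1 := Abelianization.commutator_subset_ker d hx
  exact inv_mul_eq_one.1 (congrArg Subtype.val h2)

theorem map_commutator_le {A B : Type*} [Group A] [Group B] (f : A →* B) :
    (commutator A).map f ≤ commutator B := by
  rw [commutator_def, commutator_def, Subgroup.map_commutator]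
  exact Subgroup.commutator_mono le_top le_top

/-- `M` does not depend on the free presentation. -/
theorem nonempty_mult_equiv {F F' Q : Type*} [Group F] [Group F'] [Group Q] [IsFreeGroup F]
    [IsFreeGroup F'] (π : F →* Q) (π' : F' →* Q) (hπ : Function.Surjective π)
    (hπ' : Function.Surjective π') : Nonempty (mult π ≃* mult π') := by
  obtain ⟨φ, hφ⟩ :=
    exists_lift (π := π) (cextHom π') (cextHom_surjective π' hπ') (ker_cextHom_le π')
  obtain ⟨ψ, hψ⟩ :=
    exists_lift (π := π') (cextHom π) (cextHom_surjective π hπ) (ker_cextHom_le π)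
  have h1 : ∀ x ∈ mult π, φ x ∈ mult π' := fun x hx => Subgroup.mem_inf.2
    ⟨by rw [MonoidHom.mem_ker, ← MonoidHom.comp_apply, hφ]; exact hx.1,
      map_commutator_le φ ⟨x, hx.2, rfl⟩⟩
  have h2 : ∀ x ∈ mult π', ψ x ∈ mult π := fun x hx => Subgroup.mem_inf.2
    ⟨by rw [MonoidHom.mem_ker, ← MonoidHom.comp_apply, hψ]; exact hx.1,
      map_commutator_le ψ ⟨x, hx.2, rfl⟩⟩
  have e1 : ∀ x ∈ mult π, ψ (φ x) = x := fun x hx =>
    eq_on_commutator (ker_cextHom_le π) (ψ.comp φ) (MonoidHom.id _)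
      (by rw [← MonoidHom.comp_assoc, hψ, hφ, MonoidHom.comp_id]) hx.2
  have e2 : ∀ x ∈ mult π', φ (ψ x) = x := fun x hx =>
    eq_on_commutator (ker_cextHom_le π') (φ.comp ψ) (MonoidHom.id _)
      (by rw [← MonoidHom.comp_assoc, hφ, hψ, MonoidHom.comp_id]) hx.2
  exact ⟨{ toFun := fun x => ⟨φ x, h1 _ x.2⟩
           invFun := fun x => ⟨ψ x, h2 _ x.2⟩
           left_inv := fun x => Subtype.ext (e1 _ x.2)
           right_inv := fun x => Subtype.ext (e2 _ x.2)
           map_mul' := fun x y => Subtype.ext (map_mul φ (x : CExt π) y) }⟩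

section Norm

variable {F : Type u} {G : Type v} [Group F] [Group G] (π : F →* G) (P : Subgroup G)

/-- The restricted presentation of a subgroup. -/
abbrev resPres : P.comap π →* P := π.subgroupComap P

theorem ker_le_comap : π.ker ≤ P.comap π := fun x hx => by
  show π x ∈ P
  rw [MonoidHom.mem_ker.1 hx]
  exact one_mem P

/-- The natural map `H/[R,H] → F/[R,F]`. -/
def cores : CExt (resPres π P) →* CExt π :=
  QuotientGroup.lift _ ((QuotientGroup.mk' ⁅π.ker, (⊤ : Subgroup F)⁆).comp (P.comap π).subtype) (by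
    rw [Subgroup.commutator_le]
    intro r hr g _
    rw [MonoidHom.mem_ker, MonoidHom.comp_apply, QuotientGroup.mk'_apply, QuotientGroup.eq_one_iff,
      map_commutatorElement]
    exact Subgroup.commutator_mem_commutator
      (congrArg Subtype.val hr : π r = 1) (Subgroup.mem_top _))

theorem cores_mk (h : P.comap π) : cores π P (QuotientGroup.mk h) = QuotientGroup.mk (h : F) := rfl

/-- A single factor of the norm. -/
def conjPart (x : π.ker) (g : F) : (cextHom (resPres π P)).ker :=
  ⟨QuotientGroup.mk ⟨g⁻¹ * x * g, ker_le_comap π P (π.normal_ker.conj_mem' _ x.2 g)⟩,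
    Subtype.ext (show π (g⁻¹ * x * g) = 1 from π.normal_ker.conj_mem' _ x.2 g)⟩

theorem conjPart_mul_right (x : π.ker) (g : F) (h : P.comap π) :
    conjPart π P x (g * h) = conjPart π P x g := by
  apply Subtype.ext
  set k := conjPart π P x g
  have hc := mem_center_iff.1 (ker_cextHom_le _ k.2) (QuotientGroup.mk h⁻¹)
  show QuotientGroup.mk _ = (k : CExt (resPres π P))
  calc (QuotientGroup.mk _ : CExt (resPres π P))
      = QuotientGroup.mk h⁻¹ * (k : CExt (resPres π P)) * QuotientGroup.mk h := by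
        show _ = QuotientGroup.mk h⁻¹ * QuotientGroup.mk _ * QuotientGroup.mk h
        rw [← QuotientGroup.mk_mul, ← QuotientGroup.mk_mul]
        refine congrArg QuotientGroup.mk (Subtype.ext ?_)
        simp [mul_assoc]
    _ = (k : CExt (resPres π P)) := by
        rw [hc, mul_assoc, ← QuotientGroup.mk_mul, inv_mul_cancel, QuotientGroup.mk_one, mul_one]

theorem conjPart_congr (x : π.ker) {g g' : F} (hgg' : (g : F ⧸ P.comap π) = (g' : F ⧸ P.comap π)) :
    conjPart π P x g = conjPart π P x g' := by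
  have h := QuotientGroup.eq.1 hgg'
  have h2 := conjPart_mul_right π P x g ⟨_, h⟩
  rw [show g * ((⟨g⁻¹ * g', h⟩ : P.comap π) : F) = g' from mul_inv_cancel_left g g'] at h2
  exact h2.symm

variable [Fintype (F ⧸ P.comap π)]

/-- The norm `R → R/[R,H]`. -/
noncomputable def norm : π.ker →* (cextHom (resPres π P)).ker :=
  MonoidHom.mk' (fun x => ∏ q : F ⧸ P.comap π, conjPart π P x q.out) fun x y => by
    rw [← Finset.prod_mul_distrib]
    refine Finset.prod_congr rfl fun q _ => Subtype.ext ?_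
    show QuotientGroup.mk _ = QuotientGroup.mk _ * QuotientGroup.mk _
    rw [← QuotientGroup.mk_mul]
    refine congrArg QuotientGroup.mk (Subtype.ext ?_)
    simp [mul_assoc]

theorem norm_conj (x : π.ker) (g : F) :
    norm π P ⟨g * x * g⁻¹, π.normal_ker.conj_mem _ x.2 g⟩ = norm π P x := by
  show ∏ q, _ = ∏ q, _
  refine Fintype.prod_equiv (MulAction.toPerm g⁻¹) _ _ fun q => ?_
  have h : conjPart π P x ((MulAction.toPerm g⁻¹ q).out) = conjPart π P x (g⁻¹ * q.out) := by
    refine conjPart_congr π P x ?_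
    rw [QuotientGroup.out_eq', MulAction.toPerm_apply]
    conv_lhs => rw [← QuotientGroup.out_eq' q]
    rfl
  rw [h]
  refine Subtype.ext (congrArg QuotientGroup.mk (Subtype.ext ?_))
  simp [mul_assoc]

/-- The quotient map `R → R/[R,F]`. -/
def kerMk : π.ker →* (cextHom π).ker :=
  ((QuotientGroup.mk' ⁅π.ker, (⊤ : Subgroup F)⁆).comp π.ker.subtype).codRestrict _ fun x => x.2

theorem kerMk_surjective : Function.Surjective (kerMk π) := by
  rintro ⟨e, he⟩
  induction e using QuotientGroup.induction_on with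
  | H x => exact ⟨⟨x, he⟩, Subtype.ext rfl⟩

theorem ker_kerMk_le : (kerMk π).ker ≤ (norm π P).ker := by
  have hle : ⁅π.ker, (⊤ : Subgroup F)⁆ ≤ (norm π P).ker.map π.ker.subtype := by
    rw [Subgroup.commutator_le]
    intro r hr g _
    refine ⟨⟨r, hr⟩ * ⟨g * r⁻¹ * g⁻¹, π.normal_ker.conj_mem _ (inv_mem hr) g⟩, ?_, ?_⟩
    · show norm π P _ = 1
      rw [map_mul, norm_conj π P ⟨r⁻¹, inv_mem hr⟩ g,
        show (⟨r⁻¹, inv_mem hr⟩ : π.ker) = (⟨r, hr⟩ : π.ker)⁻¹ from rfl, map_inv, mul_inv_cancel]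
    · simp [commutatorElement_def, mul_assoc]
  intro x hx
  obtain ⟨y, hy, hyx⟩ := hle ((QuotientGroup.eq_one_iff _).1 (congrArg Subtype.val hx) : (x : F) ∈ _)
  rwa [Subtype.ext hyx] at hy

/-- The norm `R/[R,F] → R/[R,H]`. -/
noncomputable def normBar : (cextHom π).ker →* (cextHom (resPres π P)).ker :=
  (kerMk π).liftOfSurjective (kerMk_surjective π) ⟨norm π P, ker_kerMk_le π P⟩

theorem normBar_kerMk (x : π.ker) : normBar π P (kerMk π x) = norm π P x :=
  MonoidHom.liftOfRightInverse_comp_apply (kerMk π) _ _ ⟨norm π P, ker_kerMk_le π P⟩ x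

theorem cores_normBar (a : (cextHom π).ker) :
    cores π P (normBar π P a : CExt (resPres π P)) = (a : CExt π) ^ (P.comap π).index := by
  obtain ⟨x, rfl⟩ := kerMk_surjective π a
  rw [normBar_kerMk]
  let f : (cextHom (resPres π P)).ker →* (cextHom π).ker :=
    ((cores π P).comp (cextHom (resPres π P)).ker.subtype).codRestrict _ fun y => by
      obtain ⟨e, he⟩ := y
      induction e using QuotientGroup.induction_on with
      | H h => exact congrArg Subtype.val (he : resPres π P h = 1)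
  have hf : ∀ g : F, f (conjPart π P x g) = kerMk π x := fun g => by
    apply Subtype.ext
    show (QuotientGroup.mk (g⁻¹ * x * g) : CExt π) = QuotientGroup.mk (x : F)
    have hc := mem_center_iff.1 (ker_cextHom_le π (kerMk π x).2) (QuotientGroup.mk g⁻¹)
    rw [QuotientGroup.mk_mul, QuotientGroup.mk_mul,
      show (QuotientGroup.mk g⁻¹ : CExt π) * QuotientGroup.mk (x : F) =
        QuotientGroup.mk (x : F) * QuotientGroup.mk g⁻¹ from hc, mul_assoc, ← QuotientGroup.mk_mul,
      inv_mul_cancel, QuotientGroup.mk_one, mul_one]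
  have h1 : f (norm π P x) = kerMk π x ^ (P.comap π).index := by
    show f (∏ q : F ⧸ P.comap π, conjPart π P x q.out) = _
    rw [map_prod, Finset.prod_congr rfl fun q _ => hf q.out, Finset.prod_const, Finset.card_univ,
      Subgroup.index, Nat.card_eq_fintype_card]
  exact congrArg Subtype.val h1

theorem normBar_mem_commutator (a : (cextHom π).ker) (ha : (a : CExt π) ∈ commutator (CExt π)) :
    (normBar π P a : CExt (resPres π P)) ∈ commutator (CExt (resPres π P)) := by
  obtain ⟨x, rfl⟩ := kerMk_surjective π a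
  rw [normBar_kerMk]
  have hxF : (x : F) ∈ commutator F := by
    rw [← map_commutator_of_surjective (QuotientGroup.mk' ⁅π.ker, (⊤ : Subgroup F)⁆)
      (QuotientGroup.mk'_surjective _)] at ha
    obtain ⟨c, hc, hcx⟩ := ha
    have h : c⁻¹ * (x : F) ∈ ⁅π.ker, (⊤ : Subgroup F)⁆ := QuotientGroup.eq.1 hcx
    have := mul_mem hc (Subgroup.commutator_mono le_top le_top h : c⁻¹ * (x : F) ∈ commutator F)
    rwa [mul_inv_cancel_left] at this
  rw [← Abelianization.ker_of, MonoidHom.mem_ker]
  haveI : (P.comap π).FiniteIndex := ⟨by rw [Subgroup.index]; exact Nat.card_pos.ne'⟩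
  let ϕ : P.comap π →* Abelianization (CExt (resPres π P)) :=
    Abelianization.of.comp (QuotientGroup.mk' _)
  have h0 : MonoidHom.transfer ϕ (x : F) = 1 := Abelianization.commutator_subset_ker _ hxF
  let T : (P.comap π).LeftTransversal :=
    ⟨Set.range (fun q : F ⧸ P.comap π => q.out), isComplement_range_left QuotientGroup.out_eq'⟩
  rw [MonoidHom.transfer_def ϕ T] at h0
  let g : (cextHom (resPres π P)).ker →* Abelianization (CExt (resPres π P)) :=
    Abelianization.of.comp (cextHom (resPres π P)).ker.subtype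
  show g (∏ q : F ⧸ P.comap π, conjPart π P x q.out) = 1
  rw [map_prod, ← h0, Subgroup.leftTransversals.diff]
  refine Finset.prod_congr (congrArg (@Finset.univ _) (Subsingleton.elim _ _)) fun q _ => ?_
  show Abelianization.of (QuotientGroup.mk _) = Abelianization.of (QuotientGroup.mk _)
  refine congrArg _ (congrArg _ (Subtype.ext ?_))
  have hT : ∀ q, (T.2.leftQuotientEquiv q : F) = q.out := fun q =>
    IsComplement.leftQuotientEquiv_apply QuotientGroup.out_eq' q
  show q.out⁻¹ * (x : F) * q.out = (T.2.leftQuotientEquiv q : F)⁻¹ * _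
  rw [Subgroup.smul_apply_eq_smul_apply_inv_smul, hT, hT, smul_eq_mul, mul_assoc]
  congr 2
  have hq : (x : F)⁻¹ • q = q := by
    obtain ⟨t, rfl⟩ := QuotientGroup.mk_surjective q
    show (((x : F)⁻¹ * t : F) : F ⧸ P.comap π) = _
    rw [QuotientGroup.eq]
    have := ker_le_comap π P (π.normal_ker.conj_mem' _ x.2 t)
    simpa [mul_assoc] using this
  rw [hq]

end Norm

/-- A finite abelian group with corestriction/restriction maps composing to a `p'`-power. -/
theorem exists_direct_factor {A B : Type*} [CommGroup A] [Finite A] [CommGroup B] (p : ℕ)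
    [Fact p.Prime] (i : B →* A) (τ : A →* B) {m : ℕ} (hm : ¬ p ∣ m)
    (hiτ : ∀ a, i (τ a) = a ^ m) :
    ∃ C D : Subgroup B, C ⊓ D = ⊥ ∧ C ⊔ D = ⊤ ∧
      Nonempty (CommGroup.primaryComponent A p ≃* C) := by
  have hp : p.Prime := Fact.out
  obtain ⟨a, s, hs, hcard⟩ :=
    Nat.exists_eq_pow_mul_and_not_dvd (Nat.card_pos (α := A)).ne' p hp.ne_one
  have hco : Nat.Coprime (p ^ a) (s * m) :=
    ((hp.coprime_iff_not_dvd.2 fun h => (hp.dvd_mul.1 h).elim hs hm)).pow_left a
  obtain ⟨k, hk1, hk2⟩ : ∃ k, s ∣ k ∧ k * m ≡ 1 [MOD p ^ a] := by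
    rcases Nat.eq_zero_or_pos a with rfl | ha
    · exact ⟨s, dvd_rfl, by rw [pow_zero]; exact Nat.modEq_one⟩
    obtain ⟨k, -, hk⟩ := Nat.exists_mul_mod_eq_one_of_coprime hco.symm (Nat.one_lt_pow ha.ne' hp.one_lt)
    refine ⟨s * k, dvd_mul_right _ _, ?_⟩
    rw [Nat.ModEq, mul_right_comm, hk, Nat.mod_eq_of_lt (Nat.one_lt_pow ha.ne' hp.one_lt)]
  set Gp := CommGroup.primaryComponent A p
  have hGp : ∀ x : A, x ∈ Gp ↔ x ^ p ^ a = 1 := by
    intro x
    refine ⟨fun h => ?_, fun h => CommGroup.mem_primaryComponent.2 ⟨a, h⟩⟩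
    obtain ⟨j, hj⟩ := CommGroup.mem_primaryComponent.1 h
    obtain ⟨i, -, hi⟩ := (Nat.dvd_prime_pow hp).1 (orderOf_dvd_of_pow_eq_one hj)
    rw [← orderOf_dvd_iff_pow_eq_one, hi]
    have h1 : p ^ i ∣ p ^ a * s := hcard ▸ hi ▸ orderOf_dvd_natCard x
    exact ((hp.coprime_iff_not_dvd.2 hs).pow_left i).dvd_of_dvd_mul_right h1
  let e : B →* Gp := ((powMonoidHom k).comp i).codRestrict Gp fun y => by
    rw [hGp]
    obtain ⟨c, rfl⟩ := hk1
    show (i y ^ (s * c)) ^ p ^ a = 1
    rw [← pow_mul, show s * c * p ^ a = Nat.card A * c by rw [hcard]; ring, pow_mul,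
      pow_card_eq_one', one_pow]
  have he : ∀ g : Gp, e (τ g) = g := fun g => Subtype.ext (by
    show i (τ (g : A)) ^ k = g
    rw [hiτ, ← pow_mul, mul_comm]
    conv_rhs => rw [← pow_one (g : A)]
    rw [pow_eq_pow_iff_modEq]
    exact hk2.of_dvd (orderOf_dvd_of_pow_eq_one ((hGp _).1 g.2)))
  let f : Gp →* B := τ.comp Gp.subtype
  have hf : Function.Injective f := fun x y h => by rw [← he x, ← he y]; exact congrArg e h
  refine ⟨f.range, e.ker, ?_, ?_, ⟨MonoidHom.ofInjective hf⟩⟩
  · rw [eq_bot_iff]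
    rintro _ ⟨⟨g, rfl⟩, hg⟩
    have : g = 1 := (he g).symm.trans hg
    simp [this]
  · rw [eq_top_iff]
    intro y _
    have h : y = f (e y) * ((f (e y))⁻¹ * y) := (mul_inv_cancel_left _ _).symm
    rw [h]
    refine Subgroup.mul_mem_sup ⟨_, rfl⟩ ?_
    rw [MonoidHom.mem_ker, map_mul, map_inv, show e (f (e y)) = e y from he _, inv_mul_cancel]

end Cfsg.Agent.H74.Schur
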