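import Cfsg.Prelude.Def_OddOrderLocal
import Cfsg.Prelude.Def_Transfer
import Cfsg.Agent.H74.Friendship
import Mathlib.GroupTheory.Transfer
import Mathlib.GroupTheory.Index
import Mathlib.GroupTheory.SpecificGroups.Cyclic

/-!
A group with an abelian Sylow 3-subgroup whose centralizer is TI and with small even local
subgroups is not simple: commuting involutions would form a regular friendship graph.
-/

namespace Cfsg.Agent.H74.TI

open Subgroup

variable {G : Type*} [Group G]

theorem normal_zpowers_of_two_involutions {s t : G} (hs : s * s = 1) (ht : t * t = 1)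
    (h : closure ({s, t} : Set G) = ⊤) : (zpowers (s * t)).Normal := by
  have hsi : s⁻¹ = s := inv_eq_of_mul_eq_one_right hs
  have hti : t⁻¹ = t := inv_eq_of_mul_eq_one_right ht
  rw [← normalizer_eq_top_iff, eq_top_iff, ← h, closure_le]
  have key : ∀ u : G, u * (s * t) * u⁻¹ = (s * t)⁻¹ →
      u ∈ normalizer (zpowers (s * t) : Set G) := by
    intro u hu
    rw [mem_normalizer_iff]
    intro y
    have hy : ∀ n : ℤ, u * (s * t) ^ n * u⁻¹ = (s * t) ^ (-n) := fun n => by
      rw [← conj_zpow, hu, inv_zpow, zpow_neg]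
    simp only [mem_zpowers_iff]
    constructor
    · rintro ⟨n, rfl⟩
      exact ⟨-n, (hy n).symm⟩
    · rintro ⟨n, hn⟩
      refine ⟨-n, ?_⟩
      have h' := hy (-n)
      rw [neg_neg, hn] at h'
      exact mul_left_cancel (mul_right_cancel h')
  rintro u (rfl | rfl)
  · refine key _ ?_
    rw [mul_inv_rev, hti, ← mul_assoc u u t, hs, one_mul, hsi]
  · refine key _ ?_
    rw [mul_inv_rev, hti, hsi, mul_assoc, mul_assoc, ht, mul_one]

theorem index_two_of_card {H K : Subgroup G} [Finite G] (h : H ≤ K) (hc : Nat.card K = 2 * Nat.card H) :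
    (H.subgroupOf K).index = 2 := by
  have h1 := Subgroup.card_mul_index (H.subgroupOf K)
  rw [Nat.card_congr (Subgroup.subgroupOfEquivOfLe h).toEquiv, hc, mul_comm 2 (Nat.card H)] at h1
  exact Nat.eq_of_mul_eq_mul_left Nat.card_pos h1

theorem four_dvd_sylow {K : Type*} [Group K] [Finite K] (S : Sylow 2 K) (h : 4 ∣ Nat.card K) :
    4 ∣ Nat.card S := by
  haveI : Fact (Nat.Prime 2) := ⟨Nat.prime_two⟩
  rw [Sylow.card_eq_multiplicity, show (4 : ℕ) = 2 ^ 2 by norm_num]
  exact pow_dvd_pow 2 ((Nat.prime_two.pow_dvd_iff_le_factorization Nat.card_pos.ne').1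
    (by norm_num; exact h))

theorem mem_centralizer_comm {a b : G} : b ∈ centralizer ({a} : Set G) ↔ a * b = b * a := by
  rw [mem_centralizer_singleton_iff]; exact eq_comm

/-- The main result. -/
theorem not_isSimpleGroup [Finite G]
    (P : Sylow 3 G) (hab : IsMulCommutative P)
    (hN : Nat.card (Subgroup.normalizer ((P : Subgroup G) : Set G)) = 4 * Nat.card P)
    (hC : Nat.card (Subgroup.centralizer (P : Set G)) = 2 * Nat.card P)
    (hTI : Cfsg.IsTISubset (Subgroup.centralizer (P : Set G) : Set G))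
    (heven : ∀ H : Subgroup G, H ≠ ⊤ → 2 ∣ Nat.card H → Nat.card H ∣ 4 * Nat.card P) :
    ¬ IsSimpleGroup G := by
  intro hsimple
  haveI : Fact (Nat.Prime 3) := ⟨Nat.prime_three⟩
  haveI : Fact (Nat.Prime 2) := ⟨Nat.prime_two⟩
  set N := Subgroup.normalizer ((P : Subgroup G) : Set G) with hNdef
  set C := Subgroup.centralizer (P : Set G) with hCdef
  set q := Nat.card P with hqdef
  obtain ⟨k, hk⟩ : ∃ k, q = 3 ^ k := P.2.exists_card_eq
  have hqodd : Odd q := by rw [hk]; exact Odd.pow (by decide)
  have hqpos : 0 < q := by rw [hk]; positivity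
  have hPC : (P : Subgroup G) ≤ C := by
    intro x hx
    rw [mem_centralizer_iff]
    intro y hy
    exact (P : Subgroup G).mul_comm_of_mem_isMulCommutative hy hx
  have hPN : (P : Subgroup G) ≤ N := le_normalizer
  have hq3 : 3 ≤ q := by
    rcases Nat.eq_zero_or_pos k with hk0 | hkpos
    · exfalso
      have hq1 : q = 1 := by rw [hk, hk0, pow_zero]
      have hbot : (P : Subgroup G) = ⊥ := Subgroup.eq_bot_of_card_eq _ hq1
      have h1 : C = ⊤ := by
        rw [hCdef, eq_top_iff]; intro x _; rw [mem_centralizer_iff]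
        intro y hy
        have : y ∈ (P : Subgroup G) := hy
        rw [hbot, mem_bot] at this
        simp [this]
      have h2 : N = ⊤ := by
        rw [hNdef, hbot, normalizer_eq_top_iff]; infer_instance
      rw [h1] at hC; rw [h2] at hN
      omega
    · rw [hk]; exact Nat.le_self_pow (by omega) 3
  -- N is proper
  have hNtop : N ≠ ⊤ := by
    intro h
    have hnorm : (P : Subgroup G).Normal := normalizer_eq_top_iff.1 h
    rcases hnorm.eq_bot_or_eq_top with hb | ht
    · have : q = 1 := by
        rw [hqdef]; exact (Subgroup.card_eq_one (H := (P : Subgroup G))).2 hb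
      omega
    · have hc : Nat.card N = q := by
        rw [h]
        rw [hqdef]; change Nat.card (⊤ : Subgroup G) = Nat.card (P : Subgroup G); rw [ht]
      omega
  -- an involution in C
  obtain ⟨z0, hz0⟩ := exists_prime_orderOf_dvd_card' (G := C) 2 (by rw [hC]; exact dvd_mul_right _ _)
  set z : G := (z0 : G) with hzdef
  have hzC : z ∈ C := z0.2
  have hz2 : orderOf z = 2 := by rw [hzdef, Subgroup.orderOf_coe, hz0]
  have hzsq : z * z = 1 := by rw [← pow_two, ← hz2, pow_orderOf_eq_one]
  have hz1 : z ≠ 1 := fun h => by rw [h, orderOf_one] at hz2; omega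
  have hzinv : z⁻¹ = z := inv_eq_of_mul_eq_one_right hzsq
  have hPodd : ∀ x ∈ (P : Subgroup G), x * x = 1 → x = 1 := by
    intro x hx hxx
    have h1 : orderOf x ∣ q := Subgroup.orderOf_dvd_natCard _ hx
    have h2 : orderOf x ∣ 2 := orderOf_dvd_of_pow_eq_one (by rw [pow_two]; exact hxx)
    rcases (Nat.dvd_prime Nat.prime_two).1 h2 with h | h
    · exact orderOf_eq_one_iff.1 h
    · rw [h] at h1; exact absurd h1 (by rw [Nat.odd_iff] at hqodd; omega)
  have hzP : z ∉ (P : Subgroup G) := fun h => hz1 (hPodd z h hzsq)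
  -- C = P ∪ Pz
  have hidx : ((P : Subgroup G).subgroupOf C).index = 2 := index_two_of_card hPC hC
  have hsplit : ∀ c ∈ C, c ∈ (P : Subgroup G) ∨ c * z ∈ (P : Subgroup G) := by
    intro c hc
    by_cases h : c ∈ (P : Subgroup G)
    · exact Or.inl h
    · right
      have h2 := (Subgroup.mul_mem_iff_of_index_two hidx (a := (⟨c, hc⟩ : C)) (b := ⟨z, hzC⟩))
      simp only [mem_subgroupOf, Subgroup.coe_mul] at h2
      exact h2.2 (iff_of_false h hzP)
  have hcommP : ∀ c ∈ C, ∀ x ∈ (P : Subgroup G), c * x = x * c := by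
    intro c hc x hx
    exact ((mem_centralizer_iff.1 hc) x hx).symm
  have hzcomm : ∀ c ∈ C, c * z = z * c := by
    intro c hc
    rcases hsplit c hc with h | h
    · exact (hcommP z hzC c h).symm
    · have h2 := hcommP z hzC _ h
      rw [← mul_assoc] at h2
      exact (mul_right_cancel h2).symm
  have hCcomm : ∀ a ∈ C, ∀ b ∈ C, a * b = b * a := by
    intro a ha b hb
    rcases hsplit b hb with h | h
    · exact hcommP a ha b h
    · have h2 := hcommP a ha _ h
      have h3 := hzcomm a ha
      calc a * b = a * (b * z) * z := by rw [mul_assoc, mul_assoc, hzsq, mul_one]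
        _ = (b * z) * a * z := by rw [h2]
        _ = b * z * (z * a) := by rw [mul_assoc, h3]
        _ = b * a := by rw [mul_assoc, ← mul_assoc z z, hzsq, one_mul]
  have huniq : ∀ c ∈ C, c * c = 1 → c = 1 ∨ c = z := by
    intro c hc hcc
    rcases hsplit c hc with h | h
    · exact Or.inl (hPodd c h hcc)
    · right
      have : c * z * (c * z) = 1 := by
        rw [mul_assoc, ← mul_assoc z c z, ← hzcomm c hc, mul_assoc c z z, hzsq, mul_one, hcc]
      have := hPodd _ h this
      rw [mul_eq_one_iff_eq_inv, hzinv] at this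
      exact this
  have hsqP : ∀ c ∈ C, c * c ∈ (P : Subgroup G) := by
    intro c hc
    have h2 := Subgroup.mul_self_mem_of_index_two hidx (⟨c, hc⟩ : C)
    simpa only [mem_subgroupOf, Subgroup.coe_mul] using h2
  -- N normalizes C and is the normalizer of C
  have hnormC : ∀ g ∈ N, ∀ c ∈ C, g * c * g⁻¹ ∈ C := by
    intro g hg c hc
    rw [mem_centralizer_iff]
    intro x hx
    have hx' : g⁻¹ * x * g ∈ (P : Subgroup G) :=
      ((mem_normalizer_iff''.1 hg) x).1 hx
    have h := hcommP c hc _ hx'
    calc x * (g * c * g⁻¹) = g * ((g⁻¹ * x * g) * c) * g⁻¹ := by group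
      _ = g * (c * (g⁻¹ * x * g)) * g⁻¹ := by rw [h]
      _ = g * c * g⁻¹ * x := by group
  have hNC : Subgroup.normalizer (C : Set G) ≤ N := by
    intro g hg
    rw [hNdef]
    refine mem_normalizer_iff.2 fun x => ?_
    have key : ∀ h : G, h ∈ Subgroup.normalizer (C : Set G) → ∀ x ∈ (P : Subgroup G),
        h * x * h⁻¹ ∈ (P : Subgroup G) := by
      intro h hh x hx
      have hy : h * x * h⁻¹ ∈ C := (mem_normalizer_iff.1 hh x).1 (hPC hx)
      -- x is a square in P
      obtain ⟨r, hr⟩ := hqodd
      have hxq : x ^ q = 1 := by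
        rw [← orderOf_dvd_iff_pow_eq_one]; exact Subgroup.orderOf_dvd_natCard _ hx
      have hx2 : x = x ^ (r + 1) * x ^ (r + 1) := by
        rw [← pow_add, show r + 1 + (r + 1) = q + 1 by omega, pow_succ, hxq, one_mul]
      have hyr : h * x ^ (r + 1) * h⁻¹ ∈ C :=
        (mem_normalizer_iff.1 hh _).1 (hPC (pow_mem hx _))
      have := hsqP _ hyr
      rwa [show h * x ^ (r + 1) * h⁻¹ * (h * x ^ (r + 1) * h⁻¹) =
        h * (x ^ (r + 1) * x ^ (r + 1)) * h⁻¹ by group, ← hx2] at this
    constructor
    · exact key g hg x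
    · intro h
      have := key g⁻¹ (inv_mem hg) _ h
      simpa [mul_assoc] using this
  -- TI consequence
  have hTI' : ∀ g : G, ∀ c ∈ C, g * c * g⁻¹ ∈ C → c ≠ 1 → g ∈ N := by
    intro g c hc hgc hc1
    by_contra hg
    exact hc1 (hTI g (fun h => hg (hNC h)) c hc hgc)
  have hcentN : ∀ c ∈ C, c ≠ 1 → ∀ g, g * c = c * g → g ∈ N := by
    intro c hc hc1 g hg
    refine hTI' g c hc ?_ hc1
    rwa [hg, mul_inv_cancel_right]
  have hzN : ∀ g : G, g ∈ N ↔ g * z = z * g := by
    intro g
    refine ⟨fun hg => ?_, hcentN z hzC hz1 g⟩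
    have h1 := hnormC g hg z hzC
    rcases huniq _ h1 (by
      rw [show g * z * g⁻¹ * (g * z * g⁻¹) = g * (z * z) * g⁻¹ by group, hzsq]; group) with h | h
    · exact absurd (conj_eq_one_iff.1 h) hz1
    · exact mul_inv_eq_iff_eq_mul.1 h
  -- all involutions are conjugate to z
  have hconj : ∀ u : G, u ^ 4 = 1 → u ≠ 1 → ∃ g : G, g * z * g⁻¹ = u := by
    obtain ⟨S, hS⟩ := (IsPGroup.of_card (n := 1) (by
      rw [Nat.card_zpowers, hz2, pow_one]) : IsPGroup 2 (zpowers z)).exists_le_sylow
    have h4N : 4 ∣ Nat.card N := by rw [hN]; exact dvd_mul_right _ _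
    have h4G : 4 ∣ Nat.card G := h4N.trans (Subgroup.card_subgroup_dvd_card N)
    have hS4 : Nat.card S = 4 := by
      have hStop : (S : Subgroup G) ≠ ⊤ := by
        intro h
        have h3 : Nat.card (P : Subgroup G) ∣ Nat.card (⊤ : Subgroup G) := by
          rw [Subgroup.card_top]; exact Subgroup.card_subgroup_dvd_card _
        rw [← h] at h3
        obtain ⟨a, ha⟩ := S.2.exists_card_eq
        rw [ha] at h3
        have h5 : q = 1 := by
          obtain ⟨i, -, hi⟩ := (Nat.dvd_prime_pow Nat.prime_two).1 h3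
          have hi' : q = 2 ^ i := hi
          rcases i with _ | i
          · simpa using hi'
          · rw [hi', pow_succ] at hqodd
            exact absurd hqodd (by simp [Nat.odd_mul])
        omega
      have h4S : 4 ∣ Nat.card S := four_dvd_sylow S h4G
      have hdvd := heven S hStop (dvd_trans (by norm_num) h4S)
      refine Nat.dvd_antisymm ?_ h4S
      obtain ⟨a, ha⟩ := S.2.exists_card_eq
      rw [ha] at hdvd ⊢
      exact (Nat.Coprime.dvd_of_dvd_mul_right
        (Nat.Coprime.pow_left a ((Nat.coprime_two_left).2 hqodd)) hdvd)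
    have hScomm : ∀ a ∈ (S : Subgroup G), ∀ b ∈ (S : Subgroup G), a * b = b * a := by
      intro a ha b hb
      haveI : IsMulCommutative S :=
        IsPGroup.isMulCommutative_of_card_eq_prime_sq (p := 2) (by rw [hS4]; norm_num)
      exact Subgroup.mul_comm_of_mem_isMulCommutative (S : Subgroup G) ha hb
    -- N(S) does not centralize S
    have hnot : ¬ Subgroup.normalizer ((S : Subgroup G) : Set G) ≤
        Subgroup.centralizer (S : Set G) := by
      intro h
      have hc := MonoidHom.ker_transferSylow_isComplement' S h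
      rcases (inferInstance : (MonoidHom.transferSylow S h).ker.Normal).eq_bot_or_eq_top with
        hb | ht
      · rw [hb] at hc
        have := hc.card_mul
        rw [Subgroup.card_bot, one_mul] at this
        have h1 := Subgroup.card_subgroup_dvd_card N
        rw [← this, hS4, hN] at h1
        have h2 := Nat.le_of_dvd (by norm_num) h1
        omega
      · rw [ht] at hc
        have := hc.card_mul
        rw [Subgroup.card_top, hS4] at this
        have hpos : 0 < Nat.card G := Nat.card_pos
        omega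
    obtain ⟨g, hg, hgc⟩ := SetLike.not_le_iff_exists.1 hnot
    obtain ⟨s, hsS, hs⟩ : ∃ s ∈ (S : Subgroup G), g * s * g⁻¹ ≠ s := by
      by_contra hh
      push Not at hh
      apply hgc
      rw [mem_centralizer_iff]
      intro x hx
      exact (mul_inv_eq_iff_eq_mul.1 (hh x hx)).symm
    have hmemS : ∀ x ∈ (S : Subgroup G), g * x * g⁻¹ ∈ (S : Subgroup G) :=
      fun x hx => (mem_normalizer_iff.1 hg x).1 hx
    -- g acts on S with odd period
    have hNS : S.1 ≤ Subgroup.normalizer ((S : Subgroup G) : Set G) := le_normalizer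
    set CS := (Subgroup.centralizer (S : Set G)).subgroupOf
      (Subgroup.normalizer ((S : Subgroup G) : Set G)) with hCS
    have hoddidx : Odd CS.index := by
      have h1 : CS.index ∣ (S : Subgroup G).index := by
        refine dvd_trans (Subgroup.index_dvd_of_le (H := (S : Subgroup G).subgroupOf _) ?_) ?_
        · intro x hx
          rw [mem_subgroupOf] at hx
          rw [hCS, mem_subgroupOf, mem_centralizer_iff]
          exact fun y hy => hScomm y hy _ hx
        · exact Subgroup.relIndex_dvd_index_of_le hNS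
      exact Odd.of_dvd_nat (Nat.odd_iff.2 (Nat.two_dvd_ne_zero.1 S.not_dvd_index)) h1
    haveI hCSn : CS.Normal := by
      rw [hCS]; infer_instance
    have hgm : g ^ CS.index ∈ Subgroup.centralizer (S : Set G) := by
      have := CS.pow_index_mem (⟨g, hg⟩ : Subgroup.normalizer ((S : Subgroup G) : Set G))
      rwa [hCS, mem_subgroupOf] at this
    have h2ne : g * (g * s * g⁻¹) * g⁻¹ ≠ s := by
      intro h2
      obtain ⟨r, hr⟩ := hoddidx
      have hev : ∀ i, g ^ (2 * i) * s * (g ^ (2 * i))⁻¹ = s := by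
        intro i
        induction i with
        | zero => simp
        | succ i ih =>
          calc g ^ (2 * (i + 1)) * s * (g ^ (2 * (i + 1)))⁻¹
              = g * (g * (g ^ (2 * i) * s * (g ^ (2 * i))⁻¹) * g⁻¹) * g⁻¹ := by
                rw [show 2 * (i + 1) = 2 + 2 * i by ring, pow_add, pow_two]; group
            _ = s := by rw [ih, h2]
      have hfix := (mem_centralizer_iff.1 hgm) s hsS
      rw [hr, pow_succ'] at hfix
      apply hs
      calc g * s * g⁻¹ = g * (g ^ (2 * r) * s * (g ^ (2 * r))⁻¹) * g⁻¹ := by rw [hev]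
        _ = (g * g ^ (2 * r)) * s * (g * g ^ (2 * r))⁻¹ := by group
        _ = s := by rw [← hfix, mul_inv_cancel_right]
    have hs1 : s ≠ 1 := by rintro rfl; simp at hs
    -- three conjugates exhaust S
    haveI : Fintype S := Fintype.ofFinite _
    classical
    let a : S := ⟨s, hsS⟩
    let b : S := ⟨g * s * g⁻¹, hmemS s hsS⟩
    let c : S := ⟨g * (g * s * g⁻¹) * g⁻¹, hmemS _ (hmemS s hsS)⟩
    have hb1 : g * s * g⁻¹ ≠ 1 := fun h => hs1 (conj_eq_one_iff.1 h)
    have hbc : g * s * g⁻¹ ≠ g * (g * s * g⁻¹) * g⁻¹ :=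
      fun h => hs (mul_left_cancel (mul_right_cancel h)).symm
    have hcard : ({1, a, b, c} : Finset S).card = 4 := by
      rw [Finset.card_insert_of_notMem, Finset.card_insert_of_notMem,
        Finset.card_insert_of_notMem, Finset.card_singleton]
      · simp only [Finset.mem_singleton, b, c, Subtype.mk.injEq]; exact hbc
      · simp only [Finset.mem_insert, Finset.mem_singleton, a, b, c, Subtype.mk.injEq, not_or]
        exact ⟨fun h => hs h.symm, fun h => h2ne h.symm⟩
      · simp only [Finset.mem_insert, Finset.mem_singleton, a, b, c, not_or, Subtype.ext_iff,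
          OneMemClass.coe_one]
        exact ⟨fun h => hs1 h.symm, fun h => hb1 h.symm,
          fun h => hb1 (conj_eq_one_iff.1 h.symm)⟩
    have huniv : ({1, a, b, c} : Finset S) = Finset.univ := by
      apply Finset.eq_univ_of_card
      rw [hcard, ← Nat.card_eq_fintype_card]; exact hS4.symm
    have hallS : ∀ x ∈ (S : Subgroup G), x ≠ 1 → ∃ h : G, h * s * h⁻¹ = x := by
      intro x hx hx1
      have hm : (⟨x, hx⟩ : S) ∈ ({1, a, b, c} : Finset S) := huniv ▸ Finset.mem_univ _
      simp only [Finset.mem_insert, Finset.mem_singleton, a, b, c, Subtype.ext_iff,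
        OneMemClass.coe_one] at hm
      rcases hm with h | h | h | h
      · exact absurd h hx1
      · exact ⟨1, by simp [h]⟩
      · exact ⟨g, h.symm⟩
      · exact ⟨g * g, by rw [h]; group⟩
    intro u hu hu1
    have hpu : IsPGroup 2 (zpowers u) := by
      rintro ⟨y, hy⟩
      obtain ⟨n, rfl⟩ := mem_zpowers_iff.1 hy
      refine ⟨2, Subtype.ext ?_⟩
      push_cast
      rw [← zpow_natCast, ← zpow_mul, mul_comm, zpow_mul, zpow_natCast]
      simp [hu]
    obtain ⟨T, hT⟩ := hpu.exists_le_sylow
    obtain ⟨γ, hγ⟩ := MulAction.exists_smul_eq G T S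
    have huS : γ * u * γ⁻¹ ∈ (S : Subgroup G) := by
      rw [← hγ, Sylow.coe_subgroup_smul, Subgroup.mem_pointwise_smul_iff_inv_smul_mem]
      simp only [← map_inv, MulAut.smul_def, MulAut.conj_apply]
      have : γ⁻¹ * (γ * u * γ⁻¹) * γ⁻¹⁻¹ = u := by group
      rw [this]
      exact hT (mem_zpowers u)
    obtain ⟨h1, hh1⟩ := hallS _ huS (fun h => hu1 (conj_eq_one_iff.1 h))
    obtain ⟨h2, hh2⟩ := hallS z (hS (mem_zpowers z)) hz1
    refine ⟨γ⁻¹ * h1 * h2⁻¹, ?_⟩
    rw [← hh2]
    calc γ⁻¹ * h1 * h2⁻¹ * (h2 * s * h2⁻¹) * (γ⁻¹ * h1 * h2⁻¹)⁻¹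
        = γ⁻¹ * (h1 * s * h1⁻¹) * γ := by group
      _ = u := by rw [hh1]; group
  -- involutions of N outside C invert C
  have hCinN : C ≤ N := fun c hc => (hzN c).2 (hzcomm c hc)
  have hidxN : (C.subgroupOf N).index = 2 := index_two_of_card hCinN (by rw [hN, hC]; ring)
  have hfixed : ∀ t ∈ N, t ∉ C → t * t = 1 → ∀ c ∈ C, t * c = c * t → c = 1 ∨ c = z := by
    intro t htN htC ht2 c hc htc
    apply huniq c hc
    by_contra hcc
    have ht1 : t ≠ 1 := fun h => htC (h ▸ one_mem C)
    obtain ⟨g, hg⟩ := hconj t (by rw [pow_succ, pow_succ, pow_two, ht2, one_mul, ht2]) ht1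
    -- g⁻¹ c g centralizes z
    have h1 : g⁻¹ * c * g ∈ N := by
      rw [hzN]
      have : t * c = c * t := htc
      rw [← hg] at this
      calc g⁻¹ * c * g * z = g⁻¹ * (c * (g * z * g⁻¹)) * g := by group
        _ = g⁻¹ * (g * z * g⁻¹ * c) * g := by rw [this]
        _ = z * (g⁻¹ * c * g) := by group
    have h2 : g⁻¹ * (c * c) * g ∈ C := by
      have h3 := Subgroup.mul_self_mem_of_index_two hidxN
        (⟨g⁻¹ * c * g, h1⟩ : N)
      simp only [mem_subgroupOf, Subgroup.coe_mul] at h3
      rwa [show g⁻¹ * (c * c) * g = g⁻¹ * c * g * (g⁻¹ * c * g) by group]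
    have hgN : g ∈ N := hTI' g _ h2 (by
      rw [show g * (g⁻¹ * (c * c) * g) * g⁻¹ = c * c by group]; exact mul_mem hc hc)
      (fun h => hcc (by
        have := congrArg (fun x => g * x * g⁻¹) h
        simpa [mul_assoc] using this))
    apply htC
    rw [← hg, (hzN g).1 hgN, mul_inv_cancel_right]
    exact hzC
  have hinvert : ∀ t ∈ N, t ∉ C → t * t = 1 → ∀ c ∈ C, t * c * t = c⁻¹ := by
    intro t htN htC ht2 c hc
    have hti : t⁻¹ = t := inv_eq_of_mul_eq_one_right ht2
    have hd : t * c * t ∈ C := by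
      have := hnormC t htN c hc
      rwa [hti] at this
    have hfix : t * (c * (t * c * t)) = (c * (t * c * t)) * t := by
      rw [hCcomm c hc _ hd]
      calc t * (t * c * t * c) = (t * t) * c * t * c := by group
        _ = c * t * c := by rw [ht2, one_mul]
        _ = c * t * c * (t * t) := by rw [ht2, mul_one]
        _ = c * (t * c * t) * t := by group
        _ = t * c * t * c * t := by rw [hCcomm c hc _ hd]
    rcases hfixed t htN htC ht2 _ (mul_mem hc hd) hfix with h | h
    · exact eq_inv_of_mul_eq_one_right h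
    · exfalso
      -- c * (t c t) = z cannot occur
      rcases hsplit c hc with hcP | hcP
      · have : t * c * t ∈ (P : Subgroup G) := by
          have := (mem_normalizer_iff.1 htN c).1 hcP
          rwa [hti] at this
        exact hzP (h ▸ mul_mem hcP this)
      · have h5 : t * (c * z) * t ∈ (P : Subgroup G) := by
          have := (mem_normalizer_iff.1 htN _).1 hcP
          rwa [hti] at this
        have h6 : (c * z) * (t * (c * z) * t) = z := by
          calc (c * z) * (t * (c * z) * t) = (c * z) * ((t * c * t) * z) := by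
                rw [show t * (c * z) * t = t * c * (z * t) by group,
                  ← (hzN t).1 htN]
                group
            _ = c * ((z * (t * c * t)) * z) := by group
            _ = c * ((t * c * t) * z * z) := by rw [hzcomm _ hd]
            _ = z := by rw [mul_assoc (t * c * t), hzsq, mul_one, h]
        exact hzP (h6 ▸ mul_mem hcP h5)
  -- all elements of N outside C are involutions
  obtain ⟨w, hwN, hwC, hw2⟩ : ∃ w ∈ N, w ∉ C ∧ w * w = 1 := by
    obtain ⟨S⟩ : Nonempty (Sylow 2 N) := inferInstance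
    have hS4 : Nat.card S = 4 := by
      have h4 : (4 : ℕ) ∣ Nat.card N := by rw [hN]; exact dvd_mul_right _ _
      have h4S : 4 ∣ Nat.card S := four_dvd_sylow S h4
      refine Nat.dvd_antisymm ?_ h4S
      obtain ⟨a, ha⟩ := S.2.exists_card_eq
      have hd : Nat.card S ∣ 4 * q := hN ▸ Subgroup.card_subgroup_dvd_card (S : Subgroup N)
      rw [ha] at hd ⊢
      exact Nat.Coprime.dvd_of_dvd_mul_right
        (Nat.Coprime.pow_left a ((Nat.coprime_two_left).2 hqodd)) hd
    obtain ⟨x, hxS, hxC⟩ : ∃ x : N, x ∈ (S : Subgroup N) ∧ (x : G) ∉ C := by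
      by_contra hh
      push Not at hh
      have : Nat.card S ∣ 2 * q := by
        rw [← hC]
        refine Subgroup.card_dvd_of_injective
          (((N.subtype.comp (S : Subgroup N).subtype)).codRestrict C fun x => hh x.1 x.2) ?_
        intro a b hab
        have := congrArg Subtype.val hab
        exact Subtype.ext (Subtype.ext this)
      rw [hS4] at this
      have : 2 ∣ q := Nat.dvd_of_mul_dvd_mul_left (by norm_num : 0 < 2)
        (show 2 * 2 ∣ 2 * q from this)
      exact (Nat.not_even_iff_odd.2 hqodd) (even_iff_two_dvd.2 this)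
    refine ⟨x, x.2, hxC, ?_⟩
    have h4 : (x : G) ^ 4 = 1 := by
      have hpc : (⟨x, hxS⟩ : (S : Subgroup N)) ^ Nat.card S = 1 := pow_card_eq_one'
      rw [hS4] at hpc
      simpa using congrArg (fun y : (S : Subgroup N) => ((y : N) : G)) hpc
    obtain ⟨g, hg⟩ := hconj (x : G) h4 (fun h => hxC (h ▸ one_mem C))
    rw [← hg, show g * z * g⁻¹ * (g * z * g⁻¹) = g * (z * z) * g⁻¹ by group, hzsq, mul_one,
      mul_inv_cancel]
  have hout : ∀ t ∈ N, t ∉ C → t * t = 1 := by
    intro t htN htC
    have hc : w * t ∈ C := by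
      have h2 := Subgroup.mul_mem_iff_of_index_two hidxN (a := (⟨w, hwN⟩ : N)) (b := ⟨t, htN⟩)
      simp only [mem_subgroupOf, Subgroup.coe_mul] at h2
      exact h2.2 (iff_of_false hwC htC)
    have hi := hinvert w hwN hwC hw2 _ hc
    have ht : t = w * (w * t) := by rw [← mul_assoc, hw2, one_mul]
    rw [ht]
    calc w * (w * t) * (w * (w * t)) = w * (w * t) * w * (w * t) := by group
      _ = 1 := by rw [hi, inv_mul_cancel]
  -- the commuting graph
  let I := {u : G // u * u = 1 ∧ u ≠ 1}
  let R : I → I → Prop := fun a b => a ≠ b ∧ (a : G) * b = b * a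
  haveI : Fintype I := Fintype.ofFinite _
  classical
  have hIconj : ∀ u : I, ∃ g : G, g * z * g⁻¹ = (u : G) := fun u =>
    hconj u (by rw [pow_succ, pow_succ, pow_two, u.2.1, one_mul, u.2.1]) u.2.2
  have hInot : ∀ u : I, (u : G) ∈ C → (u : G) = z := fun u hu =>
    (huniq u hu u.2.1).resolve_left u.2.2
  -- conjugation as a permutation of involutions
  let cj : G → I ≃ I := fun g =>
    { toFun := fun u => ⟨g * u * g⁻¹, by
        rw [show g * (u : G) * g⁻¹ * (g * u * g⁻¹) = g * ((u : G) * u) * g⁻¹ by group, u.2.1,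
          mul_one, mul_inv_cancel], fun h => u.2.2 (conj_eq_one_iff.1 h)⟩
      invFun := fun u => ⟨g⁻¹ * u * g, by
        rw [show g⁻¹ * (u : G) * g * (g⁻¹ * u * g) = g⁻¹ * ((u : G) * u) * g by group, u.2.1,
          mul_one, inv_mul_cancel], fun h => u.2.2 (by
            simpa [mul_assoc] using congrArg (fun y => g * y * g⁻¹) h)⟩
      left_inv := fun u => Subtype.ext (by simp [mul_assoc])
      right_inv := fun u => Subtype.ext (by simp [mul_assoc]) }
  have hRconj : ∀ g a b, R (cj g a) (cj g b) ↔ R a b := by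
    intro g a b
    simp only [R, ne_eq, EmbeddingLike.apply_eq_iff_eq]
    refine and_congr_right fun _ => ?_
    show g * (a : G) * g⁻¹ * (g * b * g⁻¹) = g * b * g⁻¹ * (g * a * g⁻¹) ↔ _
    rw [show g * (a : G) * g⁻¹ * (g * b * g⁻¹) = g * ((a : G) * b) * g⁻¹ by group,
      show g * (b : G) * g⁻¹ * (g * a * g⁻¹) = g * ((b : G) * a) * g⁻¹ by group]
    exact ⟨fun h => mul_left_cancel (mul_right_cancel h), fun h => by rw [h]⟩
  let zI : I := ⟨z, hzsq, hz1⟩
  have hzeq : ∀ u : I, ∃ g, cj g zI = u := fun u => by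
    obtain ⟨g, hg⟩ := hIconj u
    exact ⟨g, Subtype.ext hg⟩
  have hRz : ∀ b : I, R zI b ↔ ((b : G) ∈ N ∧ (b : G) ∉ C) := by
    intro b
    constructor
    · rintro ⟨hne, hc⟩
      refine ⟨(hzN b).2 hc.symm, fun hb => hne (Subtype.ext (hInot b hb).symm)⟩
    · rintro ⟨hbN, hbC⟩
      exact ⟨fun h => hbC (h ▸ hzC), ((hzN b).1 hbN).symm⟩
  have hdeg0 : (Finset.univ.filter (R zI)).card = 2 * q := by
    have e : {b : I // R zI b} ≃ ↥((N : Set G) \ (C : Set G)) :=
      { toFun := fun b => ⟨(b : I), (hRz b.1).1 b.2⟩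
        invFun := fun t => ⟨⟨(t : G), hout t t.2.1 t.2.2, fun h => t.2.2 (h.symm ▸ one_mem C)⟩,
          (hRz _).2 t.2⟩
        left_inv := fun b => rfl
        right_inv := fun t => rfl }
    rw [← Fintype.card_subtype, ← Nat.card_eq_fintype_card, Nat.card_congr e,
      Nat.card_coe_set_eq, Set.ncard_sdiff' hCinN, ← Nat.card_coe_set_eq,
      ← Nat.card_coe_set_eq]
    change Nat.card N - Nat.card C = _
    omega
  have hdeg : ∀ a, (Finset.univ.filter (R a)).card = 2 * q := by
    intro a
    obtain ⟨g, rfl⟩ := hzeq a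
    rw [← hdeg0]
    refine (Finset.card_equiv (cj g) fun b => ?_).symm
    simp [hRconj]
  -- a common neighbour z of s, t is the only one
  have hun : ∀ s t v : I, s ≠ t → R s zI → R t zI → R s v → R t v → v = zI := by
    intro s t v hst hs ht hsv htv
    have hsN := (hRz s).1 ⟨hs.1.symm, hs.2.symm⟩
    have htN := (hRz t).1 ⟨ht.1.symm, ht.2.symm⟩
    set x := (s : G) * t with hxdef
    have hxC : x ∈ C := by
      have h2 := Subgroup.mul_mem_iff_of_index_two hidxN (a := (⟨s, hsN.1⟩ : N))
        (b := ⟨t, htN.1⟩)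
      simp only [mem_subgroupOf, Subgroup.coe_mul] at h2
      exact h2.2 (iff_of_false hsN.2 htN.2)
    have hx1 : x ≠ 1 := fun h => hst (Subtype.ext (by
      rw [hxdef, mul_eq_one_iff_eq_inv, inv_eq_of_mul_eq_one_right t.2.1] at h
      exact h))
    have hvx : (v : G) * x = x * v := by
      rw [hxdef, ← mul_assoc, ← hsv.2, mul_assoc, ← htv.2, ← mul_assoc]
    have hvN : (v : G) ∈ N := hcentN x hxC hx1 v hvx
    by_cases hvC : (v : G) ∈ C
    · exact Subtype.ext (hInot v hvC)
    exfalso
    have hxz : x = z := (hfixed v hvN hvC v.2.1 x hxC hvx).resolve_left hx1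
    -- t = s z, and v = s c with c in {1, z}
    have hc : (s : G) * v ∈ C := by
      have h2 := Subgroup.mul_mem_iff_of_index_two hidxN (a := (⟨s, hsN.1⟩ : N))
        (b := ⟨v, hvN⟩)
      simp only [mem_subgroupOf, Subgroup.coe_mul] at h2
      exact h2.2 (iff_of_false hsN.2 hvC)
    have hsc : (s : G) * ((s : G) * v) = (s : G) * v * s := by
      rw [mul_assoc (s : G) v s, ← hsv.2]
    rcases hfixed s hsN.1 hsN.2 s.2.1 _ hc hsc with h | h
    · refine hsv.1 (Subtype.ext ?_)
      rw [mul_eq_one_iff_eq_inv, inv_eq_of_mul_eq_one_right v.2.1] at h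
      exact h
    · refine htv.1 (Subtype.ext ?_)
      exact mul_left_cancel ((hxdef.symm.trans hxz).trans h.symm)
  have hex : ∀ s t : I, s ≠ t → ∃ u, R s u ∧ R t u := by
    intro s t hst
    set x := (s : G) * t with hxdef
    have hsi : (s : G)⁻¹ = s := inv_eq_of_mul_eq_one_right s.2.1
    have hti : (t : G)⁻¹ = t := inv_eq_of_mul_eq_one_right t.2.1
    have hx1 : x ≠ 1 := fun h => hst (Subtype.ext (by
      rw [hxdef, mul_eq_one_iff_eq_inv, hti] at h; exact h))
    have hxinv : (s : G) * x * (s : G)⁻¹ = x⁻¹ := by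
      rw [hxdef, mul_inv_rev, ← mul_assoc (s : G) s t, s.2.1, one_mul, hti, hsi]
    have ht_eq : (t : G) = (s : G) * x := by rw [hxdef, ← mul_assoc, s.2.1, one_mul]
    have hnc : x * x ≠ 1 → (s : G) * x ≠ x * s := fun hxx h => hxx (by
      rw [h, mul_inv_cancel_right] at hxinv
      exact mul_eq_one_iff_eq_inv.2 hxinv)
    rcases Nat.even_or_odd (orderOf x) with ⟨r, hr⟩ | hodd
    · -- even order
      have hopos := orderOf_pos x
      have hu2 : x ^ r * x ^ r = 1 := by rw [← pow_add, ← hr, pow_orderOf_eq_one]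
      have hu1 : x ^ r ≠ 1 := pow_ne_one_of_lt_orderOf (by omega) (by omega)
      have hsu : (s : G) * x ^ r = x ^ r * s := by
        have h1 : (s : G) * x ^ r * (s : G)⁻¹ = x ^ r := by
          rw [← conj_pow, hxinv, inv_pow]
          exact inv_eq_of_mul_eq_one_right hu2
        exact mul_inv_eq_iff_eq_mul.1 h1
      refine ⟨⟨x ^ r, hu2, hu1⟩, ⟨fun h => ?_, hsu⟩, ⟨fun h => ?_, ?_⟩⟩
      · -- s is a power of x
        have h' : (s : G) = x ^ r := congrArg Subtype.val h
        have hsx : (s : G) * x = x * s := by rw [h', ← pow_succ, ← pow_succ']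
        by_cases hxx : x * x = 1
        · have hx2 : orderOf x = 2 := orderOf_eq_prime (by rw [pow_two, hxx]) hx1
          have hr1 : r = 1 := by omega
          rw [hr1, pow_one, hxdef, left_eq_mul] at h'
          exact t.2.2 h'
        · exact hnc hxx hsx
      · have h' : (t : G) = x ^ r := congrArg Subtype.val h
        have htx : (t : G) * x = x * t := by rw [h', ← pow_succ, ← pow_succ']
        have hsx : (s : G) * x = x * s := by
          have hxt : (s : G) = x * t := by rw [hxdef, mul_assoc, t.2.1, mul_one]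
          rw [hxt]
          calc x * (t : G) * x = x * ((t : G) * x) := mul_assoc _ _ _
            _ = x * (x * t) := by rw [htx]
        by_cases hxx : x * x = 1
        · have hx2 : orderOf x = 2 := orderOf_eq_prime (by rw [pow_two, hxx]) hx1
          have hr1 : r = 1 := by omega
          rw [hr1, pow_one, hxdef, right_eq_mul] at h'
          exact s.2.2 h'
        · exact hnc hxx hsx
      · show (t : G) * x ^ r = x ^ r * t
        rw [ht_eq, mul_assoc, ← pow_succ', pow_succ, ← mul_assoc, hsu, mul_assoc]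
    · -- odd order
      set H := Subgroup.closure ({(s : G), (t : G)} : Set G) with hHdef
      have hsH : (s : G) ∈ H := Subgroup.subset_closure (Set.mem_insert _ _)
      have htH : (t : G) ∈ H := Subgroup.subset_closure (Set.mem_insert_of_mem _ rfl)
      have h2H : 2 ∣ Nat.card H := by
        rw [← orderOf_eq_prime (p := 2) (by rw [pow_two]; exact s.2.1) s.2.2]
        exact Subgroup.orderOf_dvd_natCard _ hsH
      have hxx : x * x ≠ 1 := fun h => by
        have h2 := orderOf_eq_prime (by rw [pow_two, h]) hx1 (p := 2)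
        rw [h2] at hodd
        exact absurd hodd (by decide)
      have hHtop : H ≠ ⊤ := by
        intro h
        rcases (normal_zpowers_of_two_involutions s.2.1 t.2.1 h).eq_bot_or_eq_top with hb | htp
        · exact hx1 (zpowers_eq_bot.1 hb)
        · have hm : (s : G) ∈ zpowers x := htp ▸ mem_top _
          obtain ⟨n, hn⟩ := mem_zpowers_iff.1 hm
          apply hnc hxx
          rw [← hn]; exact (Commute.zpow_self x n).eq
      have hdvd : 2 * orderOf x ∣ 4 * q := by
        refine dvd_trans ?_ (heven H hHtop h2H)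
        exact Nat.Coprime.mul_dvd_of_dvd_of_dvd ((Nat.coprime_two_left).2 hodd) h2H
          (Subgroup.orderOf_dvd_natCard _ (mul_mem hsH htH))
      have hoq : orderOf x ∣ q := by
        have h4 : orderOf x ∣ 4 * q := dvd_trans (dvd_mul_left _ _) hdvd
        refine Nat.Coprime.dvd_of_dvd_mul_left ?_ h4
        exact Nat.Coprime.pow_right 2 ((Nat.coprime_two_right).2 hodd)
      obtain ⟨i, -, hi⟩ := (Nat.dvd_prime_pow Nat.prime_three).1 (hk ▸ hoq)
      obtain ⟨T, hT⟩ := (IsPGroup.of_card (n := i) (by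
        rw [Nat.card_zpowers, hi]) : IsPGroup 3 (zpowers x)).exists_le_sylow
      obtain ⟨γ, hγ⟩ := MulAction.exists_smul_eq G T P
      have hxP : γ * x * γ⁻¹ ∈ (P : Subgroup G) := by
        rw [← hγ, Sylow.coe_subgroup_smul, Subgroup.mem_pointwise_smul_iff_inv_smul_mem]
        simp only [← map_inv, MulAut.smul_def, MulAut.conj_apply]
        have : γ⁻¹ * (γ * x * γ⁻¹) * γ⁻¹⁻¹ = x := by group
        rw [this]
        exact hT (mem_zpowers x)
      refine ⟨cj γ⁻¹ zI, ?_⟩
      suffices h : R (cj γ s) zI ∧ R (cj γ t) zI by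
        constructor
        · have := (hRconj γ⁻¹ (cj γ s) zI).2 h.1
          rwa [show cj γ⁻¹ (cj γ s) = s from Subtype.ext (by simp [cj, mul_assoc])] at this
        · have := (hRconj γ⁻¹ (cj γ t) zI).2 h.2
          rwa [show cj γ⁻¹ (cj γ t) = t from Subtype.ext (by simp [cj, mul_assoc])] at this
      set x' := γ * x * γ⁻¹ with hx'
      have hx'C : x' ∈ C := hPC hxP
      have hx'1 : x' ≠ 1 := fun h => hx1 (conj_eq_one_iff.1 h)
      set s' : G := γ * s * γ⁻¹ with hs'
      have hs'x : s' * x' * s'⁻¹ = x'⁻¹ := by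
        rw [hs', hx', show γ * (s : G) * γ⁻¹ * (γ * x * γ⁻¹) * (γ * s * γ⁻¹)⁻¹ =
          γ * ((s : G) * x * (s : G)⁻¹) * γ⁻¹ by group, hxinv]
        group
      have hs'N : s' ∈ N := hTI' s' x' hx'C (hs'x ▸ inv_mem hx'C) hx'1
      have hs'C : s' ∉ C := by
        intro h
        rw [hCcomm s' h x' hx'C, mul_inv_cancel_right, hx'] at hs'x
        apply hxx
        have := mul_eq_one_iff_eq_inv.2 hs'x
        rw [show γ * x * γ⁻¹ * (γ * x * γ⁻¹) = γ * (x * x) * γ⁻¹ by group] at this
        exact conj_eq_one_iff.1 this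
      have ht' : γ * (t : G) * γ⁻¹ = s' * x' := by rw [hs', hx', ht_eq]; group
      refine ⟨?_, ?_⟩
      · have := (hRz (cj γ s)).2 ⟨hs'N, hs'C⟩
        exact ⟨this.1.symm, this.2.symm⟩
      · have := (hRz (cj γ t)).2 ⟨by
          show γ * (t : G) * γ⁻¹ ∈ N
          rw [ht']; exact mul_mem hs'N (hCinN hx'C), by
          show γ * (t : G) * γ⁻¹ ∉ C
          rw [ht']; exact fun h => hs'C ((Subgroup.mul_mem_cancel_right C hx'C).1 h)⟩
        exact ⟨this.1.symm, this.2.symm⟩
  haveI : Nonempty I := ⟨zI⟩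
  have := friendship_regular_degree_le_two R (fun a b h => ⟨h.1.symm, h.2.symm⟩)
    (fun a h => h.1 rfl) (2 * q) hdeg (fun a b hab => by
      obtain ⟨u, hu⟩ := hex a b hab
      refine ⟨u, hu, fun v hv => ?_⟩
      obtain ⟨g, hg⟩ := hzeq u
      subst hg
      obtain ⟨a', rfl⟩ := (cj g).surjective a
      obtain ⟨b', rfl⟩ := (cj g).surjective b
      obtain ⟨v', rfl⟩ := (cj g).surjective v
      simp only [hRconj] at hu hv
      rw [hun a' b' v' (fun h => hab (h ▸ rfl)) hu.1 hu.2 hv.1 hv.2])
  omega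

end Cfsg.Agent.H74.TI
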