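import Mathlib.GroupTheory.Sylow
import Mathlib.GroupTheory.SpecificGroups.Cyclic
import Mathlib.Data.Nat.Totient
import Mathlib.Data.ZMod.Units

/-!
2-irrationality is a Sylow-local property.
-/

namespace Cfsg.Agent.H74.TwoIrrational

open Subgroup
open scoped Pointwise

variable {G : Type*} [Group G]

theorem local_comm (P : Sylow 2 G)
    (h : ∀ y : ↥(P : Subgroup G), normalizer ((zpowers y : Subgroup ↥(P : Subgroup G)) : Set ↥(P : Subgroup G)) ≤
      centralizer {y})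
    (y : G) (hy : y ∈ (P : Subgroup G)) (g : G) (hg : g ∈ (P : Subgroup G))
    (hgn : ∀ z, z ∈ zpowers y ↔ g * z * g⁻¹ ∈ zpowers y) : g * y = y * g := by
  have hm : ∀ z : ↥(P : Subgroup G), z ∈ zpowers (⟨y, hy⟩ : ↥(P : Subgroup G)) ↔ (z : G) ∈ zpowers y := by
    intro z
    simp only [mem_zpowers_iff, Subtype.ext_iff, Subgroup.coe_zpow]
  have hmem : (⟨g, hg⟩ : ↥(P : Subgroup G)) ∈
      normalizer ((zpowers (⟨y, hy⟩ : ↥(P : Subgroup G)) : Subgroup ↥(P : Subgroup G)) : Set ↥(P : Subgroup G)) :=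
    mem_normalizer_iff.2 fun z => by rw [hm, hm]; exact hgn z
  exact congrArg Subtype.val (mem_centralizer_singleton_iff.1 (h _ hmem))

/-- The normalizer of `⟨x⟩` centralizes a 2-element `x`. -/
theorem normalizer_le [Finite G] (P : Sylow 2 G)
    (h : ∀ y ∈ (P : Subgroup G), ∀ g ∈ (P : Subgroup G),
      (∀ z, z ∈ zpowers y ↔ g * z * g⁻¹ ∈ zpowers y) → g * y = y * g)
    (x : G) (hx : ∀ r : ℕ, r.Prime → r ∣ orderOf x → r = 2) :
    normalizer ((zpowers x : Subgroup G) : Set G) ≤ centralizer {x} := by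
  haveI : Fact (Nat.Prime 2) := ⟨Nat.prime_two⟩
  set N := normalizer ((zpowers x : Subgroup G) : Set G) with hN
  obtain ⟨a, ha⟩ : ∃ a, orderOf x = 2 ^ a := ⟨_, Nat.eq_prime_pow_of_unique_prime_dvd
    (orderOf_pos x).ne' fun {r} hr hd => hx r hr hd⟩
  -- a Sylow 2-subgroup of N, inside a conjugate of P
  obtain ⟨T⟩ : Nonempty (Sylow 2 N) := inferInstance
  have hxN : x ∈ N := le_normalizer (mem_zpowers x)
  let X : Subgroup N := zpowers ⟨x, hxN⟩
  have hXn : X.Normal := by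
    refine ⟨fun z hz g => ?_⟩
    obtain ⟨n, rfl⟩ := mem_zpowers_iff.1 hz
    have h1 := (mem_normalizer_iff.1 g.2 (x ^ n)).1 (zpow_mem (mem_zpowers x) n)
    obtain ⟨m, hm⟩ := mem_zpowers_iff.1 h1
    exact mem_zpowers_iff.2 ⟨m, Subtype.ext (by simpa using hm)⟩
  have hXp : IsPGroup 2 X := IsPGroup.of_card (n := a) (by
    rw [Nat.card_zpowers, ← Subgroup.orderOf_coe]; exact ha)
  haveI := hXn
  have hXT : X ≤ (T : Subgroup N) := by
    obtain ⟨T', hT'⟩ := hXp.exists_le_sylow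
    obtain ⟨n, hn⟩ := MulAction.exists_smul_eq N T' T
    intro z hz
    rw [← hn, Sylow.coe_subgroup_smul, mem_pointwise_smul_iff_inv_smul_mem]
    simp only [← map_inv, MulAut.smul_def, MulAut.conj_apply]
    exact hT' (hXn.conj_mem z hz n⁻¹)
  obtain ⟨T', hT'⟩ := (T.2.map N.subtype).exists_le_sylow
  obtain ⟨γ, hγ⟩ := MulAction.exists_smul_eq G T' P
  have hconj : ∀ z : N, z ∈ (T : Subgroup N) → γ * z * γ⁻¹ ∈ (P : Subgroup G) := by
    intro z hz
    rw [← hγ, Sylow.coe_subgroup_smul, mem_pointwise_smul_iff_inv_smul_mem]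
    simp only [← map_inv, MulAut.smul_def, MulAut.conj_apply]
    have : γ⁻¹ * (γ * z * γ⁻¹) * γ⁻¹⁻¹ = z := by group
    rw [this]
    exact hT' ⟨z, hz, rfl⟩
  have hTc : ∀ z : N, z ∈ (T : Subgroup N) → (z : G) * x = x * z := by
    intro z hz
    have h1 := h _ (hconj _ (hXT (mem_zpowers _))) _ (hconj z hz) fun w => by
      have hz' := mem_normalizer_iff.1 z.2 (γ⁻¹ * w * γ)
      have hmap : ∀ u, u ∈ zpowers (γ * x * γ⁻¹) ↔ γ⁻¹ * u * γ ∈ zpowers x := by
        intro u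
        simp only [mem_zpowers_iff]
        constructor
        · rintro ⟨n, rfl⟩; exact ⟨n, by rw [conj_zpow]; group⟩
        · rintro ⟨n, hn⟩; exact ⟨n, by rw [conj_zpow, hn]; group⟩
      rw [hmap, hmap, hz']
      rw [show γ⁻¹ * (γ * (z : G) * γ⁻¹ * w * (γ * (z : G) * γ⁻¹)⁻¹) * γ =
        (z : G) * (γ⁻¹ * w * γ) * (z : G)⁻¹ by group]
    calc (z : G) * x = γ⁻¹ * ((γ * z * γ⁻¹) * (γ * x * γ⁻¹)) * γ := by group
      _ = γ⁻¹ * ((γ * x * γ⁻¹) * (γ * z * γ⁻¹)) * γ := by rw [h1]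
      _ = x * z := by group
  -- N/C(x) is a 2-group
  intro g hg
  set Cx : Subgroup N := (centralizer ({x} : Set G)).subgroupOf N with hCx
  have hTle : (T : Subgroup N) ≤ Cx := fun z hz => by
    rw [hCx, mem_subgroupOf, mem_centralizer_singleton_iff]; exact hTc z hz
  haveI hCn : Cx.Normal := by
    refine ⟨fun z hz w => ?_⟩
    rw [hCx, mem_subgroupOf, mem_centralizer_singleton_iff] at hz ⊢
    obtain ⟨m, hm⟩ := mem_zpowers_iff.1 ((mem_normalizer_iff''.1 w.2 x).1 (mem_zpowers x))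
    have hzm : (z : G) * x ^ m = x ^ m * z := (Commute.zpow_right hz m).eq
    push_cast
    calc (w : G) * z * (w : G)⁻¹ * x = w * ((z : G) * ((w : G)⁻¹ * x * w)) * (w : G)⁻¹ := by group
      _ = w * ((z : G) * x ^ m) * (w : G)⁻¹ := by rw [hm]
      _ = w * (x ^ m * z) * (w : G)⁻¹ := by rw [hzm]
      _ = x * ((w : G) * z * (w : G)⁻¹) := by rw [hm]; group
  suffices hidx : Cx.index = 1 by
    have := (Subgroup.index_eq_one.1 hidx) ▸ mem_top (⟨g, hg⟩ : N)
    exact this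
  -- the action on x embeds N/Cx into the units modulo 2^a
  have hodd : ¬ 2 ∣ Cx.index := fun hd => T.not_dvd_index (hd.trans (Subgroup.index_dvd_of_le hTle))
  have hexp : ∀ w : N, ∃ u : (ZMod (2 ^ a))ˣ, (w : G) * x * (w : G)⁻¹ = x ^ (u : ZMod (2 ^ a)).val := by
    intro w
    obtain ⟨m, hm⟩ := mem_zpowers_iff.1 ((mem_normalizer_iff.1 w.2 x).1 (mem_zpowers x))
    haveI : NeZero (2 ^ a) := ⟨by positivity⟩
    have hord : orderOf (x ^ m) = 2 ^ a := by
      rw [hm, ← ha]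
      exact orderOf_injective (MulAut.conj (w : G)).toMonoidHom (MulAut.conj (w : G)).injective x
    have hval : x ^ ((m : ZMod (2 ^ a))).val = x ^ m := by
      rw [← zpow_natCast, zpow_eq_zpow_iff_modEq, ha]
      exact (ZMod.intCast_eq_intCast_iff _ _ _).1 (by simp)
    have hu : IsUnit (m : ZMod (2 ^ a)) := by
      rw [← ZMod.natCast_zmod_val (m : ZMod (2 ^ a)), ZMod.isUnit_iff_coprime]
      have h2 := orderOf_pow (x := x) (n := (m : ZMod (2 ^ a)).val)
      rw [hval, hord, ha] at h2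
      have hg1 : (2 ^ a).gcd (m : ZMod (2 ^ a)).val ∣ 2 ^ a := Nat.gcd_dvd_left _ _
      have := Nat.div_mul_cancel hg1
      rw [← h2] at this
      exact (Nat.coprime_comm).1 ((mul_eq_left₀ (by positivity)).1 this)
    exact ⟨hu.unit, by rw [IsUnit.unit_spec, hval, hm]⟩
  have hpow2 : ∀ w : N, ∃ j, w ^ 2 ^ j ∈ Cx := by
    intro w
    obtain ⟨u, hu⟩ := hexp w
    have hiter : ∀ i : ℕ, ((w ^ i : N) : G) * x * ((w ^ i : N) : G)⁻¹ = x ^ ((u : ZMod (2 ^ a)).val ^ i) := by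
      intro i
      induction i with
      | zero => simp
      | succ i ih =>
        rw [pow_succ', Subgroup.coe_mul, show (w : G) * ((w ^ i : N) : G) * x * ((w : G) * ((w ^ i : N) : G))⁻¹ =
          (w : G) * (((w ^ i : N) : G) * x * ((w ^ i : N) : G)⁻¹) * (w : G)⁻¹ by group, ih, ← conj_pow, hu,
          ← pow_mul, pow_succ']
    refine ⟨a, ?_⟩
    rw [hCx, mem_subgroupOf, mem_centralizer_singleton_iff, ← mul_inv_eq_iff_eq_mul, hiter]
    haveI : NeZero (2 ^ a) := ⟨by positivity⟩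
    have htot : Nat.totient (2 ^ a) ∣ 2 ^ a := by
      rcases Nat.eq_zero_or_pos a with rfl | hpos
      · simp
      · rw [Nat.totient_prime_pow Nat.prime_two hpos]
        simpa using pow_dvd_pow 2 (Nat.sub_le a 1)
    have hu1 : u ^ 2 ^ a = 1 := by
      rw [← orderOf_dvd_iff_pow_eq_one]
      exact (orderOf_dvd_natCard u).trans (by
        rw [Nat.card_eq_fintype_card, ZMod.card_units_eq_totient]; exact htot)
    conv_rhs => rw [← pow_one x]
    rw [pow_eq_pow_iff_modEq, ha, ← ZMod.natCast_eq_natCast_iff, Nat.cast_pow, ZMod.natCast_zmod_val,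
      ← Units.val_pow_eq_pow_val, hu1, Units.val_one, Nat.cast_one]
  obtain ⟨k, hk⟩ : ∃ k, Nat.card (N ⧸ Cx) = 2 ^ k := by
    refine IsPGroup.exists_card_eq (p := 2) fun q => ?_
    obtain ⟨w, rfl⟩ := QuotientGroup.mk'_surjective Cx q
    obtain ⟨j, hj⟩ := hpow2 w
    exact ⟨j, by rw [← map_pow]; exact (QuotientGroup.eq_one_iff _).2 hj⟩
  rcases k with _ | k
  · simpa [Subgroup.index] using hk
  · exact absurd (show 2 ∣ Cx.index by rw [Subgroup.index, hk]; exact dvd_pow_self 2 (by omega)) hodd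

end Cfsg.Agent.H74.TwoIrrational
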